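import Mathlib.GroupTheory.Transfer
import Mathlib.GroupTheory.Focal
import Mathlib.GroupTheory.SchurZassenhaus
import Cfsg.Prelude.Def_Transfer
import Cfsg.Prelude.Def_Solvable

/-!
# Basic API for `O^p`, `O_{p'}` and normal `p`-complements
-/

namespace CfsgLib.Transfer

set_option linter.style.haveILetI false

variable {G : Type*} [Group G] {p : ℕ}

theorem mem_conj_map_iff {H : Subgroup G} {g x : G} :
    x ∈ H.map (MulAut.conj g).toMonoidHom ↔ g⁻¹ * x * g ∈ H := by
  rw [Subgroup.mem_map_equiv, MulAut.conj_symm_apply]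

theorem orderOf_conj (g x : G) : orderOf (g * x * g⁻¹) = orderOf x := by
  have h := MulEquiv.orderOf_eq (MulAut.conj g) x
  rwa [MulAut.conj_apply] at h

theorem isPGroup_zpowers {x : G} (hx : ∃ k : ℕ, orderOf x = p ^ k) :
    IsPGroup p (Subgroup.zpowers x) := by
  obtain ⟨k, hk⟩ := hx
  exact IsPGroup.of_card (n := k) (by rw [Nat.card_zpowers, hk])

/-! ## `O^p(G)` -/

theorem mem_pResidual_of_coprime {x : G} (h : Nat.Coprime (orderOf x) p) :
    x ∈ Cfsg.pResidual p G :=
  Subgroup.subset_closure h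

theorem pResidual_normal (p : ℕ) (G : Type*) [Group G] : (Cfsg.pResidual p G).Normal := by
  refine ⟨fun n hn g => ?_⟩
  have h : (Cfsg.pResidual p G).map (MulAut.conj g).toMonoidHom ≤ Cfsg.pResidual p G := by
    rw [Cfsg.pResidual, MonoidHom.map_closure]
    apply Subgroup.closure_mono
    rintro _ ⟨x, hx, rfl⟩
    change Nat.Coprime (orderOf (g * x * g⁻¹)) p
    rw [orderOf_conj]
    exact hx
  exact h (Subgroup.mem_map_of_mem _ hn)

theorem orderOf_eq_one_of_coprime_of_isPGroup {Q : Type*} [Group Q] [Fact p.Prime]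
    (hQ : IsPGroup p Q) {y : Q} (h : Nat.Coprime (orderOf y) p) : y = 1 := by
  obtain ⟨k, hk⟩ := IsPGroup.iff_orderOf.mp hQ y
  rw [hk] at h
  have : (p ^ k) = 1 := by
    rcases Nat.eq_zero_or_pos k with rfl | hk0
    · simp
    · exact absurd (Nat.Coprime.eq_one_of_dvd (Nat.coprime_comm.mp h) (dvd_pow_self p hk0.ne'))
        (Fact.out : p.Prime).ne_one
  exact orderOf_eq_one_iff.mp (hk.trans this)

theorem le_ker_of_isPGroup [Fact p.Prime] {Q : Type*} [Group Q] (hQ : IsPGroup p Q) (f : G →* Q) :
    Cfsg.pResidual p G ≤ f.ker := by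
  rw [Cfsg.pResidual, Subgroup.closure_le]
  intro x hx
  exact orderOf_eq_one_of_coprime_of_isPGroup hQ
    (Nat.Coprime.coprime_dvd_left (orderOf_map_dvd f x) hx)

theorem pResidual_le_of_isPGroup_quotient [Fact p.Prime] (N : Subgroup G) [N.Normal]
    (h : IsPGroup p (G ⧸ N)) : Cfsg.pResidual p G ≤ N := by
  have := le_ker_of_isPGroup h (QuotientGroup.mk' N)
  rwa [QuotientGroup.ker_mk'] at this

/-- Every element of a finite group is a product of a commuting `p`-element and `p'`-element;
here in the form: some power of `x` of index prime to `p` is a `p`-element. -/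
theorem exists_pow_coprime_part [Finite G] [Fact p.Prime] (x : G) :
    ∃ a : ℕ, ∃ m : ℕ, ¬ p ∣ m ∧ orderOf x = p ^ a * m ∧ Nat.Coprime (orderOf (x ^ (p ^ a))) p ∧
      orderOf (x ^ m) = p ^ a := by
  obtain ⟨a, m, hm, hxe⟩ := Nat.exists_eq_pow_mul_and_not_dvd (orderOf_pos x).ne' p
    (Fact.out : p.Prime).ne_one
  refine ⟨a, m, hm, hxe, ?_, ?_⟩
  · rw [orderOf_pow' x (pow_ne_zero _ (Fact.out : p.Prime).ne_zero), hxe,
      Nat.gcd_mul_right_left, Nat.mul_div_cancel_left _ (pow_pos (Fact.out : p.Prime).pos a)]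
    exact ((Fact.out : p.Prime).coprime_iff_not_dvd.mpr hm).symm
  · have hm0 : m ≠ 0 := by rintro rfl; exact hm (dvd_zero p)
    rw [orderOf_pow' x hm0, hxe, Nat.gcd_mul_left_left, Nat.mul_div_cancel _ (Nat.pos_of_ne_zero hm0)]

theorem isPGroup_quotient_pResidual [Finite G] [Fact p.Prime] [(Cfsg.pResidual p G).Normal] :
    IsPGroup p (G ⧸ Cfsg.pResidual p G) := by
  intro y
  induction y using QuotientGroup.induction_on with
  | H x =>
    obtain ⟨a, m, -, -, h, -⟩ := exists_pow_coprime_part (p := p) x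
    exact ⟨a, by rw [← QuotientGroup.mk_pow, QuotientGroup.eq_one_iff]
                 exact mem_pResidual_of_coprime h⟩

theorem map_pResidual_le {H : Type*} [Group H] (f : G →* H) :
    (Cfsg.pResidual p G).map f ≤ Cfsg.pResidual p H := by
  rw [Cfsg.pResidual, MonoidHom.map_closure, Subgroup.closure_le]
  rintro _ ⟨x, hx, rfl⟩
  exact mem_pResidual_of_coprime (Nat.Coprime.coprime_dvd_left (orderOf_map_dvd f x) hx)

theorem map_pResidual [Finite G] [Fact p.Prime] {H : Type*} [Group H] (f : G →* H)
    (hf : Function.Surjective f) : (Cfsg.pResidual p G).map f = Cfsg.pResidual p H := by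
  refine le_antisymm (map_pResidual_le f) ?_
  haveI := pResidual_normal p G
  haveI : ((Cfsg.pResidual p G).map f).Normal := Subgroup.Normal.map inferInstance f hf
  refine pResidual_le_of_isPGroup_quotient _ ?_
  refine IsPGroup.of_surjective (isPGroup_quotient_pResidual (G := G))
    (QuotientGroup.map _ _ f (Subgroup.map_le_iff_le_comap.mp le_rfl)) ?_
  intro y
  induction y using QuotientGroup.induction_on with
  | H z =>
    obtain ⟨x, rfl⟩ := hf z
    exact ⟨QuotientGroup.mk x, rfl⟩

theorem map_pResidual_subtype_le (H : Subgroup G) :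
    (Cfsg.pResidual p H).map H.subtype ≤ Cfsg.pResidual p G :=
  map_pResidual_le H.subtype

/-- A Sylow subgroup covers every quotient which is a `p`-group. -/
theorem sylow_sup_eq_top_of_isPGroup_quotient [Finite G] [Fact p.Prime] (P : Sylow p G)
    (N : Subgroup G) [N.Normal] (h : IsPGroup p (G ⧸ N)) : (P : Subgroup G) ⊔ N = ⊤ := by
  rw [← Subgroup.index_eq_one]
  obtain ⟨k, hk⟩ := h.exists_card_eq
  have h1 : ((P : Subgroup G) ⊔ N).index ∣ (P : Subgroup G).index :=
    Subgroup.index_dvd_of_le le_sup_left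
  have h2 : ((P : Subgroup G) ⊔ N).index ∣ p ^ k := by
    rw [← hk]; exact Subgroup.index_dvd_of_le le_sup_right
  exact Nat.eq_one_of_dvd_coprimes
    (Nat.Coprime.pow_right k ((Fact.out : p.Prime).coprime_iff_not_dvd.mpr P.not_dvd_index).symm)
    h1 h2

theorem sylow_sup_pResidual [Finite G] [Fact p.Prime] (P : Sylow p G) :
    (P : Subgroup G) ⊔ Cfsg.pResidual p G = ⊤ := by
  haveI := pResidual_normal p G
  exact sylow_sup_eq_top_of_isPGroup_quotient P _ isPGroup_quotient_pResidual

/-! ## `O_{p'}(G)` -/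

theorem pPrimeCore_normal (p : ℕ) (G : Type*) [Group G] : (Cfsg.pPrimeCore p G).Normal :=
  Subgroup.sSup_normal _ (fun _ h => h.1)

theorem le_pPrimeCore {N : Subgroup G} (hn : N.Normal) (h : (Nat.card N).Coprime p) :
    N ≤ Cfsg.pPrimeCore p G :=
  le_sSup ⟨hn, h⟩

theorem coprime_card_sup_of_normal [Finite G] {A B : Subgroup G} (hA : A.Normal)
    (hAc : (Nat.card A).Coprime p) (hBc : (Nat.card B).Coprime p) :
    (Nat.card ↥(A ⊔ B)).Coprime p := by
  haveI := hA
  have h1 : Nat.card A * A.relIndex (A ⊔ B) = Nat.card ↥(A ⊔ B) := by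
    rw [← Subgroup.relIndex_bot_left, ← Subgroup.relIndex_bot_left]
    exact Subgroup.relIndex_mul_relIndex _ _ _ bot_le le_sup_left
  rw [← h1, Subgroup.relIndex_sup_left]
  exact Nat.Coprime.mul_left hAc
    (Nat.Coprime.coprime_dvd_left (Subgroup.relIndex_dvd_card A B) hBc)

theorem pPrimeCore_coprime [Finite G] (p : ℕ) : (Nat.card (Cfsg.pPrimeCore p G)).Coprime p := by
  classical
  let S : Set (Subgroup G) := {N | N.Normal ∧ (Nat.card N).Coprime p}
  have key : ∀ T : Finset (Subgroup G), (↑T : Set (Subgroup G)) ⊆ S →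
      (T.sup id).Normal ∧ (Nat.card ↥(T.sup id)).Coprime p := by
    intro T
    induction T using Finset.induction_on with
    | empty =>
      intro _
      rw [Finset.sup_empty]
      exact ⟨inferInstance, by simp⟩
    | insert N T hN ih =>
      intro hsub
      rw [Finset.coe_insert, Set.insert_subset_iff] at hsub
      obtain ⟨h1, h2⟩ := ih hsub.2
      rw [Finset.sup_insert, id_eq]
      haveI := hsub.1.1
      haveI := h1
      exact ⟨Subgroup.sup_normal _ _, coprime_card_sup_of_normal hsub.1.1 hsub.1.2 h2⟩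
  have heq : Cfsg.pPrimeCore p G = (Set.toFinite S).toFinset.sup id := by
    rw [Finset.sup_id_eq_sSup, Set.Finite.coe_toFinset]
    rfl
  rw [heq]
  exact (key _ (by simp)).2

theorem not_dvd_card_pPrimeCore [Finite G] [Fact p.Prime] :
    ¬ p ∣ Nat.card (Cfsg.pPrimeCore p G) :=
  (Fact.out : p.Prime).coprime_iff_not_dvd.mp (pPrimeCore_coprime p).symm

/-! ## Normal `p`-complements -/

theorem coprime_orderOf_of_mem {N : Subgroup G} (hN : (Nat.card N).Coprime p) {x : G}
    (hx : x ∈ N) : (orderOf x).Coprime p :=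
  Nat.Coprime.coprime_dvd_left (N.orderOf_dvd_natCard hx) hN

/-- A normal subgroup `N` of order prime to `p` with `p`-power index contains exactly the
`p'`-elements. -/
theorem mem_iff_coprime_orderOf [Fact p.Prime] {N : Subgroup G} [N.Normal]
    (hcard : (Nat.card N).Coprime p) (hq : IsPGroup p (G ⧸ N)) {x : G} :
    x ∈ N ↔ (orderOf x).Coprime p :=
  ⟨coprime_orderOf_of_mem hcard, fun h =>
    pResidual_le_of_isPGroup_quotient N hq (mem_pResidual_of_coprime h)⟩

theorem eq_pResidual [Fact p.Prime] {N : Subgroup G} [N.Normal]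
    (hcard : (Nat.card N).Coprime p) (hq : IsPGroup p (G ⧸ N)) : N = Cfsg.pResidual p G :=
  le_antisymm (fun _ hx => mem_pResidual_of_coprime (coprime_orderOf_of_mem hcard hx))
    (pResidual_le_of_isPGroup_quotient N hq)

theorem isComplement'_sylow [Finite G] [Fact p.Prime] {N : Subgroup G} [N.Normal]
    (hcard : (Nat.card N).Coprime p) (hq : IsPGroup p (G ⧸ N)) (P : Sylow p G) :
    N.IsComplement' (P : Subgroup G) := by
  have hdisj : Disjoint N (P : Subgroup G) := by
    rw [disjoint_iff, ← Subgroup.card_eq_one]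
    obtain ⟨k, hk⟩ := P.2.exists_card_eq
    refine Nat.eq_one_of_dvd_coprimes (Nat.Coprime.pow_right k hcard)
      (Subgroup.card_dvd_of_le inf_le_left) ?_
    rw [← hk]
    exact Subgroup.card_dvd_of_le inf_le_right
  refine Subgroup.isComplement'_of_disjoint_and_mul_eq_univ hdisj ?_
  rw [← Subgroup.normal_mul, sup_comm, sylow_sup_eq_top_of_isPGroup_quotient P N hq,
    Subgroup.coe_top]

theorem isPGroup_quotient_of_isComplement' [Finite G] [Fact p.Prime] {N : Subgroup G} [N.Normal]
    {P : Sylow p G} (h : N.IsComplement' (P : Subgroup G)) : IsPGroup p (G ⧸ N) :=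
  by
  obtain ⟨k, hk⟩ := P.2.exists_card_eq
  refine IsPGroup.of_card (n := k) ?_
  rw [← Subgroup.index_eq_card, h.symm.index_eq_card, hk]

theorem coprime_card_of_isComplement' [Finite G] [Fact p.Prime] {N : Subgroup G}
    {P : Sylow p G} (h : N.IsComplement' (P : Subgroup G)) : (Nat.card N).Coprime p := by
  rw [← h.index_eq_card]
  exact ((Fact.out : p.Prime).coprime_iff_not_dvd.mpr P.not_dvd_index).symm

theorem hasNormalPComplement_iff_pResidual [Finite G] [Fact p.Prime] :
    Cfsg.HasNormalPComplement p G ↔ ¬ p ∣ Nat.card (Cfsg.pResidual p G) := by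
  constructor
  · rintro ⟨P, N, hN, hc⟩
    haveI := hN
    rw [← eq_pResidual (coprime_card_of_isComplement' hc) (isPGroup_quotient_of_isComplement' hc)]
    exact (Fact.out : p.Prime).coprime_iff_not_dvd.mp (coprime_card_of_isComplement' hc).symm
  · intro h
    haveI := pResidual_normal p G
    obtain ⟨P⟩ := (inferInstance : Nonempty (Sylow p G))
    exact ⟨P, _, inferInstance, isComplement'_sylow
      ((Fact.out : p.Prime).coprime_iff_not_dvd.mpr h).symm isPGroup_quotient_pResidual P⟩

theorem hasNormalPComplement_iff_forall_sylow [Finite G] [Fact p.Prime] (P : Sylow p G) :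
    Cfsg.HasNormalPComplement p G ↔
      ∃ N : Subgroup G, N.Normal ∧ N.IsComplement' (P : Subgroup G) := by
  refine ⟨?_, fun ⟨N, h⟩ => ⟨P, N, h⟩⟩
  rintro ⟨Q, N, hN, hc⟩
  haveI := hN
  exact ⟨N, hN, isComplement'_sylow (coprime_card_of_isComplement' hc)
    (isPGroup_quotient_of_isComplement' hc) P⟩

theorem hasNormalPComplement_of_le_of_isPGroup_quotient [Finite G] [Fact p.Prime]
    (N : Subgroup G) [N.Normal] (hc : (Nat.card N).Coprime p) (hq : IsPGroup p (G ⧸ N)) :
    Cfsg.HasNormalPComplement p G :=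
  let ⟨P⟩ := (inferInstance : Nonempty (Sylow p G))
  ⟨P, N, inferInstance, isComplement'_sylow hc hq P⟩

theorem pPrimeCore_eq_pResidual [Finite G] [Fact p.Prime] (h : Cfsg.HasNormalPComplement p G) :
    Cfsg.pPrimeCore p G = Cfsg.pResidual p G := by
  refine le_antisymm (fun x hx => mem_pResidual_of_coprime
    (coprime_orderOf_of_mem (pPrimeCore_coprime p) hx)) ?_
  exact le_pPrimeCore (pResidual_normal p G)
    ((Fact.out : p.Prime).coprime_iff_not_dvd.mpr (hasNormalPComplement_iff_pResidual.mp h)).symm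

theorem hasNormalPComplement_of_injective [Finite G] [Fact p.Prime] {H : Type*} [Group H]
    [Finite H] (f : H →* G) (hf : Function.Injective f)
    (h : Cfsg.HasNormalPComplement p G) : Cfsg.HasNormalPComplement p H := by
  rw [hasNormalPComplement_iff_pResidual] at h ⊢
  intro hp
  apply h
  refine hp.trans ?_
  rw [← Subgroup.card_map_of_injective hf]
  exact Subgroup.card_dvd_of_le (map_pResidual_le f)

theorem hasNormalPComplement_subgroup [Finite G] [Fact p.Prime] (H : Subgroup G)
    (h : Cfsg.HasNormalPComplement p G) : Cfsg.HasNormalPComplement p H :=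
  hasNormalPComplement_of_injective H.subtype H.subtype_injective h

theorem hasNormalPComplement_of_surjective [Finite G] [Fact p.Prime] {H : Type*} [Group H]
    [Finite H] (f : G →* H) (hf : Function.Surjective f)
    (h : Cfsg.HasNormalPComplement p G) : Cfsg.HasNormalPComplement p H := by
  rw [hasNormalPComplement_iff_pResidual] at h ⊢
  intro hp
  apply h
  rw [← map_pResidual f hf] at hp
  exact hp.trans ((Cfsg.pResidual p G).card_map_dvd f)

theorem hasNormalPComplement_congr [Finite G] [Fact p.Prime] {H : Type*} [Group H] [Finite H]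
    (e : G ≃* H) : Cfsg.HasNormalPComplement p G ↔ Cfsg.HasNormalPComplement p H :=
  ⟨hasNormalPComplement_of_surjective e.toMonoidHom e.surjective,
    hasNormalPComplement_of_surjective e.symm.toMonoidHom e.symm.surjective⟩

theorem hasNormalPComplement_of_isPGroup [Finite G] [Fact p.Prime] (h : IsPGroup p G) :
    Cfsg.HasNormalPComplement p G :=
  hasNormalPComplement_of_le_of_isPGroup_quotient ⊥ (by simp) (h.to_quotient ⊥)

/-- The kernel of Burnside's transfer is a normal `p`-complement. -/
theorem hasNormalPComplement_of_normalizer_le_centralizer [Finite G] [Fact p.Prime]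
    (P : Sylow p G)
    (h : Subgroup.normalizer (P : Set G) ≤ Subgroup.centralizer (P : Set G)) :
    Cfsg.HasNormalPComplement p G :=
  ⟨P, _, MonoidHom.normal_ker _, MonoidHom.ker_transferSylow_isComplement' P h⟩

end CfsgLib.Transfer
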