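import Mathlib.GroupTheory.Sylow
import Mathlib.GroupTheory.Nilpotent
import Mathlib.Tactic.Ring
import Cfsg.Agent.Lib.Transfer.Basic
import Cfsg.Prelude.Def_TwoFusion

/-!
# Sylow bookkeeping and Burnside fusion
-/

namespace CfsgLib.Transfer

set_option linter.style.haveILetI false

variable {G : Type*} [Group G] {p : ℕ}

theorem map_conj_mul (g h : G) (H : Subgroup G) :
    (H.map (MulAut.conj h).toMonoidHom).map (MulAut.conj g).toMonoidHom =
      H.map (MulAut.conj (g * h)).toMonoidHom := by
  ext x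
  simp only [mem_conj_map_iff, mul_inv_rev, mul_assoc]

theorem map_conj_one (H : Subgroup G) : H.map (MulAut.conj (1 : G)).toMonoidHom = H := by
  ext x
  simp

theorem map_conj_eq_self_iff {H : Subgroup G} {g : G} :
    H.map (MulAut.conj g).toMonoidHom = H ↔ g ∈ Subgroup.normalizer (H : Set G) := by
  rw [Subgroup.mem_normalizer_iff'']
  constructor
  · intro h x
    have := SetLike.ext_iff.mp h x
    rw [mem_conj_map_iff] at this
    exact this.symm
  · intro h
    ext x
    rw [mem_conj_map_iff]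
    exact (h x).symm

theorem smul_sylow_coe [Fact p.Prime] (g : G) (P : Sylow p G) :
    ((g • P : Sylow p G) : Subgroup G) = (P : Subgroup G).map (MulAut.conj g).toMonoidHom := by
  ext x
  rw [Sylow.coe_subgroup_smul, Subgroup.mem_pointwise_smul_iff_inv_smul_mem, mem_conj_map_iff]
  simp

theorem mem_smul_sylow [Fact p.Prime] {g x : G} {P : Sylow p G} :
    x ∈ ((g • P : Sylow p G) : Subgroup G) ↔ g⁻¹ * x * g ∈ (P : Subgroup G) := by
  rw [smul_sylow_coe, mem_conj_map_iff]

theorem exists_map_conj_sylow_eq [Finite G] [Fact p.Prime] (P Q : Sylow p G) :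
    ∃ g : G, (P : Subgroup G).map (MulAut.conj g).toMonoidHom = (Q : Subgroup G) := by
  obtain ⟨g, hg⟩ := MulAction.exists_smul_eq G P Q
  exact ⟨g, by rw [← smul_sylow_coe, hg]⟩

theorem exists_map_conj_le_sylow [Finite G] [Fact p.Prime] {X : Subgroup G} (hX : IsPGroup p X)
    (P : Sylow p G) : ∃ g : G, X.map (MulAut.conj g).toMonoidHom ≤ (P : Subgroup G) := by
  obtain ⟨Q, hQ⟩ := hX.exists_le_sylow
  obtain ⟨g, hg⟩ := exists_map_conj_sylow_eq Q P
  exact ⟨g, hg ▸ Subgroup.map_mono hQ⟩

/-- Sylow's theorem inside a subgroup `H`, phrased with subgroups of `G`. -/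
theorem exists_conj_le_of_not_dvd_relIndex [Finite G] [Fact p.Prime] {X Y H : Subgroup G}
    (_hXH : X ≤ H) (hX : IsPGroup p X) (hidx : ¬ p ∣ X.relIndex H) (hYH : Y ≤ H)
    (hY : IsPGroup p Y) : ∃ h ∈ H, Y.map (MulAut.conj h).toMonoidHom ≤ X := by
  have hX' : IsPGroup p (X.subgroupOf H) := hX.comap_of_injective _ H.subtype_injective
  have hY' : IsPGroup p (Y.subgroupOf H) := hY.comap_of_injective _ H.subtype_injective
  let P : Sylow p H := hX'.toSylow hidx
  obtain ⟨h, hh⟩ := exists_map_conj_le_sylow hY' P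
  refine ⟨h, h.2, ?_⟩
  intro x hx
  rw [mem_conj_map_iff] at hx
  have hxH : x ∈ H := by
    have h1 : (h : G) * ((h : G)⁻¹ * x * h) * (h : G)⁻¹ ∈ H :=
      H.mul_mem (H.mul_mem h.2 (hYH hx)) (H.inv_mem h.2)
    simpa [mul_assoc] using h1
  have hmem : (⟨x, hxH⟩ : H) ∈ (Y.subgroupOf H).map (MulAut.conj h).toMonoidHom := by
    rw [mem_conj_map_iff]
    exact hx
  exact hh hmem

theorem isPGroup_conj_map {X : Subgroup G} (hX : IsPGroup p X) (g : G) :
    IsPGroup p (X.map (MulAut.conj g).toMonoidHom) :=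
  hX.map _

/-- In a `p`-group, a proper subgroup is properly contained in its normalizer. -/
theorem lt_inf_normalizer [Finite G] [Fact p.Prime] {R P : Subgroup G} (hP : IsPGroup p P)
    (h : R < P) : R < P ⊓ Subgroup.normalizer (R : Set G) := by
  haveI : Group.IsNilpotent P := hP.isNilpotent
  have hlt : R.subgroupOf P < ⊤ := by
    refine lt_top_iff_ne_top.mpr fun heq => h.ne (le_antisymm h.le ?_)
    rwa [Subgroup.subgroupOf_eq_top] at heq
  have h2 := Group.normalizerCondition_of_isNilpotent (G := P) (R.subgroupOf P) hlt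
  refine lt_of_le_of_ne (le_inf h.le Subgroup.le_normalizer) fun heq => ?_
  obtain ⟨x, hx, hxR⟩ := SetLike.exists_of_lt h2
  apply hxR
  change (x : G) ∈ R
  rw [heq]
  refine ⟨x.2, ?_⟩
  change (x : G) ∈ Subgroup.normalizer (R : Set G)
  rw [Subgroup.mem_normalizer_iff]
  intro y
  constructor
  · intro hy
    exact (Subgroup.mem_normalizer_iff.mp hx ⟨y, h.le hy⟩).mp hy
  · intro hy
    have hyP : y ∈ P := by
      have h1 : (x : G)⁻¹ * ((x : G) * y * (x : G)⁻¹) * (x : G) ∈ P :=
        P.mul_mem (P.mul_mem (P.inv_mem x.2) (h.le hy)) x.2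
      simpa [mul_assoc] using h1
    exact (Subgroup.mem_normalizer_iff.mp hx ⟨y, hyP⟩).mpr hy

/-- Burnside: two subsets of a Sylow subgroup `P` normalized by `P` and conjugate in `G` are
conjugate by an element of `N_G(P)`, which induces the same map up to the set normalizer. -/
theorem exists_normalizer_image_conj_eq [Finite G] [Fact p.Prime] (P : Sylow p G) {X Y : Set G}
    (hX : ∀ x ∈ (P : Subgroup G), (fun y => x * y * x⁻¹) '' X = X)
    (hY : ∀ x ∈ (P : Subgroup G), (fun y => x * y * x⁻¹) '' Y = Y) (g : G)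
    (hg : (fun y => g * y * g⁻¹) '' X = Y) :
    ∃ n ∈ Subgroup.normalizer ((P : Subgroup G) : Set G), (fun y => n * y * n⁻¹) '' X = Y := by
  let S : Subgroup G :=
    { carrier := {x : G | (fun y => x * y * x⁻¹) '' Y = Y}
      one_mem' := by simp
      mul_mem' := by
        intro a b (ha : _ = _) (hb : _ = _)
        change (fun y => a * b * y * (a * b)⁻¹) '' Y = Y
        conv_rhs => rw [← ha, ← hb, Set.image_image]
        simp [mul_assoc]
      inv_mem' := by
        intro a (ha : _ = _)
        change (fun y => a⁻¹ * y * a⁻¹⁻¹) '' Y = Y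
        conv_lhs => rw [← ha, Set.image_image]
        simp [mul_assoc] }
  have hPS : (P : Subgroup G) ≤ S := fun x hx => hY x hx
  have hQS : ((g • P : Sylow p G) : Subgroup G) ≤ S := by
    intro x hx
    rw [mem_smul_sylow] at hx
    change (fun y => x * y * x⁻¹) '' Y = Y
    have h1 := hX _ hx
    conv_lhs => rw [← hg, Set.image_image]
    conv_rhs => rw [← hg, ← h1, Set.image_image]
    simp [mul_assoc]
  obtain ⟨s, hs⟩ := MulAction.exists_smul_eq S ((g • P).subtype hQS) (P.subtype hPS)
  rw [Sylow.smul_subtype] at hs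
  have hs' : (s : G) • (g • P) = P := Sylow.subtype_injective hs
  refine ⟨(s : G) * g, ?_, ?_⟩
  · exact Sylow.smul_eq_iff_mem_normalizer.mp (by rw [mul_smul, hs'])
  · have h2 : (fun y => (s : G) * y * (s : G)⁻¹) '' Y = Y := s.2
    conv_rhs => rw [← h2, ← hg, Set.image_image]
    simp [mul_assoc]

/-- Burnside fusion: normal subgroups of `P`
conjugate in `G` are conjugate in `N_G(P)`. -/
theorem exists_normalizer_map_conj_eq [Finite G] [Fact p.Prime] (P : Sylow p G) {X Y : Subgroup G}
    (hX : (P : Subgroup G) ≤ Subgroup.normalizer (X : Set G))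
    (hY : (P : Subgroup G) ≤ Subgroup.normalizer (Y : Set G)) (g : G)
    (hg : X.map (MulAut.conj g).toMonoidHom = Y) :
    ∃ n ∈ Subgroup.normalizer ((P : Subgroup G) : Set G),
      X.map (MulAut.conj n).toMonoidHom = Y := by
  have key : ∀ (Z : Subgroup G) (a : G),
      ((fun y => a * y * a⁻¹) '' (Z : Set G)) = (Z.map (MulAut.conj a).toMonoidHom : Set G) := by
    intro Z a; ext z; simp
  obtain ⟨n, hn, h⟩ := exists_normalizer_image_conj_eq P (X := (X : Set G)) (Y := (Y : Set G))
    (fun x hx => by rw [key, map_conj_eq_self_iff.mpr (hX hx)])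
    (fun x hx => by rw [key, map_conj_eq_self_iff.mpr (hY hx)]) g (by rw [key, hg])
  exact ⟨n, hn, SetLike.ext' (by rw [← key, h])⟩

/-- Strongly closed subgroups are normalized by the Sylow subgroup containing them. -/
theorem le_normalizer_of_isStronglyClosed [Finite G] {A P : Subgroup G}
    (h : Cfsg.IsStronglyClosed A P) : P ≤ Subgroup.normalizer (A : Set G) := by
  intro x hx
  rw [← map_conj_eq_self_iff]
  refine Subgroup.eq_of_le_of_card_ge ?_ ?_
  · rintro _ ⟨a, ha, rfl⟩
    exact h.2 a ha x (P.mul_mem (P.mul_mem hx (h.1 ha)) (P.inv_mem hx))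
  · rw [Subgroup.card_map_of_injective (MulAut.conj x).injective]

/-- For normal `N`, the index of `H ⊓ N` in `N` divides the index of `H`. -/
theorem relIndex_dvd_index_of_normal [Finite G] (H N : Subgroup G) [N.Normal] :
    H.relIndex N ∣ H.index := by
  have key : H.relIndex (H ⊔ N) = H.relIndex N := by
    apply Nat.eq_of_mul_eq_mul_left (Nat.card_pos : 0 < Nat.card H)
    have e1 := Subgroup.relIndex_mul_relIndex ⊥ H (H ⊔ N) bot_le le_sup_left
    have e2 := Subgroup.relIndex_mul_relIndex ⊥ N (H ⊔ N) bot_le le_sup_right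
    have e3 := Subgroup.relIndex_mul_relIndex ⊥ (H ⊓ N) N bot_le inf_le_right
    have e4 := Subgroup.relIndex_mul_relIndex ⊥ (H ⊓ N) H bot_le inf_le_left
    rw [Subgroup.inf_relIndex_right] at e3
    rw [Subgroup.inf_relIndex_left] at e4
    rw [Subgroup.relIndex_sup_right] at e2
    simp only [Subgroup.relIndex_bot_left] at e1 e2 e3 e4
    rw [e1, ← e2, ← e3, ← e4]
    ring
  rw [← key]
  exact Subgroup.relIndex_dvd_index_of_le le_sup_left

end CfsgLib.Transfer
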