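import Mathlib.GroupTheory.Focal
import Cfsg.Agent.Lib.Transfer.Sylow

/-!
# Consequences of the focal subgroup theorem
-/

namespace CfsgLib.Transfer

set_option linter.style.haveILetI false

variable {G : Type*} [Group G] {p : ℕ}

open scoped commutatorElement

/-- If `N ≥ P` controls fusion of elements of `P`, then `G' ⊓ P = N' ⊓ P`. -/
theorem commutator_inf_sylow_eq_of_controls [Finite G] [Fact p.Prime] (P : Sylow p G)
    {N : Subgroup G} (hPN : (P : Subgroup G) ≤ N)
    (hfus : ∀ x ∈ (P : Subgroup G), ∀ g : G, g * x * g⁻¹ ∈ (P : Subgroup G) →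
      ∃ n ∈ N, n * x * n⁻¹ = g * x * g⁻¹) :
    commutator G ⊓ (P : Subgroup G) = ⁅N, N⁆ ⊓ (P : Subgroup G) := by
  refine le_antisymm ?_ (inf_le_inf_right _ (Subgroup.commutator_mono le_top le_top))
  rw [Subgroup.commutator_inf_eq_focalSubgroup P, Subgroup.focalSubgroup_def, Subgroup.closure_le]
  rintro z ⟨hzP, x, hxP, u, rfl⟩
  refine ⟨?_, hzP⟩
  have h1 : u * x⁻¹ * u⁻¹ ∈ (P : Subgroup G) := by
    have e : u * x⁻¹ * u⁻¹ = x⁻¹ * ⁅x, u⁆ := by rw [commutatorElement_def]; group
    rw [e]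
    exact Subgroup.mul_mem _ (Subgroup.inv_mem _ hxP) hzP
  obtain ⟨n, hn, he⟩ := hfus x⁻¹ (Subgroup.inv_mem _ hxP) u h1
  have e : ⁅x, u⁆ = ⁅x, n⁆ := by
    calc ⁅x, u⁆ = x * (u * x⁻¹ * u⁻¹) := by rw [commutatorElement_def]; group
      _ = x * (n * x⁻¹ * n⁻¹) := by rw [he]
      _ = ⁅x, n⁆ := by rw [commutatorElement_def]; group
  rw [SetLike.mem_coe, e]
  exact Subgroup.commutator_mem_commutator (hPN hxP) hn

/-- If elements of `P` conjugate in `G` are conjugate in `P`, then `G' ⊓ P = P'`. -/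
theorem commutator_inf_sylow_eq_of_no_fusion [Finite G] [Fact p.Prime] (P : Sylow p G)
    (h : ∀ x ∈ (P : Subgroup G), ∀ y ∈ (P : Subgroup G), (∃ g : G, g * x * g⁻¹ = y) →
      ∃ z ∈ (P : Subgroup G), z * x * z⁻¹ = y) :
    commutator G ⊓ (P : Subgroup G) = ⁅(P : Subgroup G), (P : Subgroup G)⁆ := by
  rw [commutator_inf_sylow_eq_of_controls P le_rfl fun x hx g hg => h x hx _ hg ⟨g, rfl⟩]
  exact inf_eq_left.mpr (Subgroup.commutator_le_self _)

/-- A nontrivial nilpotent subgroup is not perfect. -/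
theorem eq_bot_of_le_commutator_self {H : Subgroup G} [Group.IsNilpotent H]
    (h : H ≤ ⁅H, H⁆) : H = ⊥ := by
  obtain ⟨n, hn⟩ := (Subgroup.isNilpotent_iff_lowerCentralSeries H).mp inferInstance
  have key : ∀ k, H ≤ H.lowerCentralSeries k := by
    intro k
    induction k with
    | zero => exact le_rfl
    | succ k ih =>
      rw [Subgroup.lowerCentralSeries_succ]
      exact h.trans (Subgroup.commutator_mono ih le_rfl)
  exact le_bot_iff.mp (hn ▸ key n)

/-- Fusion of elements in an abelian Sylow subgroup is controlled by its normalizer. -/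
theorem exists_normalizer_conj_of_isMulCommutative [Finite G] [Fact p.Prime] (P : Sylow p G)
    (hP : IsMulCommutative P) {x : G} (hx : x ∈ (P : Subgroup G)) (g : G)
    (hg : g * x * g⁻¹ ∈ (P : Subgroup G)) :
    ∃ n ∈ Subgroup.normalizer ((P : Subgroup G) : Set G), n * x * n⁻¹ = g * x * g⁻¹ := by
  haveI := hP
  have hg' : g⁻¹⁻¹ * x * g⁻¹ ∈ (P : Subgroup G) := by rwa [inv_inv]
  obtain ⟨n, hn, h⟩ := P.conj_eq_normalizer_conj_of_mem x g⁻¹ hx hg'
  refine ⟨n⁻¹, Subgroup.inv_mem _ hn, ?_⟩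
  rw [inv_inv] at h ⊢
  exact h.symm

/-- Burnside: elements of `Z(P)` conjugate in `G` are conjugate in `N_G(P)`. -/
theorem exists_normalizer_conj_of_central [Finite G] [Fact p.Prime] (P : Sylow p G)
    {x : G} (hx : x ∈ Subgroup.centralizer ((P : Subgroup G) : Set G)) (g : G)
    (hg : g * x * g⁻¹ ∈ Subgroup.centralizer ((P : Subgroup G) : Set G)) :
    ∃ n ∈ Subgroup.normalizer ((P : Subgroup G) : Set G), n * x * n⁻¹ = g * x * g⁻¹ := by
  obtain ⟨n, hn, h⟩ := P.conj_eq_normalizer_conj_of_mem_centralizer x g⁻¹ hx (by rwa [inv_inv])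
  refine ⟨n⁻¹, Subgroup.inv_mem _ hn, ?_⟩
  rw [inv_inv] at h ⊢
  exact h.symm

/-- An abelian Sylow subgroup: `G' ⊓ P = N_G(P)' ⊓ P`. -/
theorem commutator_inf_sylow_eq_normalizer [Finite G] [Fact p.Prime] (P : Sylow p G)
    (hP : IsMulCommutative P) :
    commutator G ⊓ (P : Subgroup G) =
      ⁅Subgroup.normalizer ((P : Subgroup G) : Set G),
        Subgroup.normalizer ((P : Subgroup G) : Set G)⁆ ⊓ (P : Subgroup G) :=
  commutator_inf_sylow_eq_of_controls P Subgroup.le_normalizer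
    fun _ hx g hg => exists_normalizer_conj_of_isMulCommutative P hP hx g hg

/-- A central Sylow subgroup has a normal complement. -/
theorem hasNormalPComplement_of_central [Finite G] [Fact p.Prime] (P : Sylow p G)
    (h : (P : Subgroup G) ≤ Subgroup.center G) : Cfsg.HasNormalPComplement p G := by
  refine hasNormalPComplement_of_normalizer_le_centralizer P fun x _ => ?_
  rw [Subgroup.mem_centralizer_iff]
  intro y hy
  exact (Subgroup.mem_center_iff.mp (h hy) x).symm

/-- The normalizer of a weakly closed subgroup `W` of a Sylow subgroup controls the fusion of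
elements of `C_G(W)`. -/
theorem exists_normalizer_conj_of_weaklyClosed [Finite G] [Fact p.Prime] (P : Sylow p G)
    {W : Subgroup G} (hW : Cfsg.IsWeaklyClosed W (P : Subgroup G)) {d : G} (g : G)
    (hd : d ∈ Subgroup.centralizer (W : Set G))
    (hgd : g * d * g⁻¹ ∈ Subgroup.centralizer (W : Set G)) :
    ∃ h ∈ Subgroup.normalizer (W : Set G), h * d * h⁻¹ = g * d * g⁻¹ := by
  have hW2 : IsPGroup p W := P.2.to_le hW.1
  have h1 : W ≤ Subgroup.centralizer ({g * d * g⁻¹} : Set G) := by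
    intro w hw
    rw [Subgroup.mem_centralizer_singleton_iff]
    exact (Subgroup.mem_centralizer_iff.mp hgd w hw)
  have h2 : W.map (MulAut.conj g).toMonoidHom ≤
      Subgroup.centralizer ({g * d * g⁻¹} : Set G) := by
    rintro _ ⟨w, hw, rfl⟩
    rw [Subgroup.mem_centralizer_singleton_iff]
    have := Subgroup.mem_centralizer_iff.mp hd w hw
    change g * w * g⁻¹ * (g * d * g⁻¹) = g * d * g⁻¹ * (g * w * g⁻¹)
    calc g * w * g⁻¹ * (g * d * g⁻¹) = g * (w * d) * g⁻¹ := by group
      _ = g * (d * w) * g⁻¹ := by rw [this]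
      _ = _ := by group
  set C := Subgroup.centralizer ({g * d * g⁻¹} : Set G) with hC
  have hWC : IsPGroup p (W.subgroupOf C) := hW2.comap_of_injective _ C.subtype_injective
  obtain ⟨R, hR⟩ := hWC.exists_le_sylow
  have hRp : IsPGroup p ((R : Subgroup C).map C.subtype) := R.2.map _
  have hidx : ¬ p ∣ ((R : Subgroup C).map C.subtype).relIndex C := by
    rw [Subgroup.relIndex, Subgroup.subgroupOf,
      Subgroup.comap_map_eq_self_of_injective C.subtype_injective]
    exact R.not_dvd_index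
  obtain ⟨c, hc, hcW⟩ := exists_conj_le_of_not_dvd_relIndex (Subgroup.map_subtype_le _) hRp hidx
    h2 (isPGroup_conj_map hW2 g)
  obtain ⟨k, hk⟩ := exists_map_conj_le_sylow hRp P
  have hWR : W ≤ (R : Subgroup C).map C.subtype := fun w hw => ⟨⟨w, h1 hw⟩, hR hw, rfl⟩
  have hkW : k ∈ Subgroup.normalizer (W : Set G) :=
    map_conj_eq_self_iff.mp (hW.2 k ((Subgroup.map_mono hWR).trans hk))
  rw [map_conj_mul] at hcW
  have hkcg : k * (c * g) ∈ Subgroup.normalizer (W : Set G) :=
    map_conj_eq_self_iff.mp (hW.2 _ (by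
      rw [← map_conj_mul]; exact (Subgroup.map_mono hcW).trans hk))
  refine ⟨c * g, ?_, ?_⟩
  · simpa using Subgroup.mul_mem _ (Subgroup.inv_mem _ hkW) hkcg
  · rw [hC, Subgroup.mem_centralizer_singleton_iff] at hc
    calc c * g * d * (c * g)⁻¹ = c * (g * d * g⁻¹) * c⁻¹ := by group
      _ = g * d * g⁻¹ * c * c⁻¹ := by rw [hc]
      _ = _ := by group

end CfsgLib.Transfer
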