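import Cfsg.Agent.Lib.Transfer.Focal
import Mathlib.GroupTheory.IndexNormal
import Mathlib.GroupTheory.Perm.Support

/-!
# Transfer of controlled elements and Thompson's transfer lemma
-/

namespace CfsgLib.Transfer

set_option linter.style.haveILetI false

variable {G : Type*} [Group G] {H : Subgroup G} {A : Type*} [CommGroup A]

/-- The transfer of `g` is `φ g ^ index` when all conjugates of powers of `g` in `H` are
controlled by `φ`. -/
theorem transfer_eq_pow_of_controlled [H.FiniteIndex] (φ : H →* A) {g : G} (hg : g ∈ H)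
    (key : ∀ (k : ℕ) (a : G) (h : a⁻¹ * g ^ k * a ∈ H), φ ⟨_, h⟩ = φ ⟨g, hg⟩ ^ k) :
    MonoidHom.transfer φ g = φ ⟨g, hg⟩ ^ H.index := by
  classical
  let := H.fintypeQuotientOfFiniteIndex
  rw [MonoidHom.transfer_eq_prod_quotient_orbitRel_zpowers_quot,
    Subgroup.index_eq_sum_minimalPeriod H g, ← Finset.prod_pow_eq_pow_sum]
  exact Fintype.prod_congr _ _ fun q => key _ _ _

theorem pow_ne_one_of_coprime_prime {p : ℕ} [Fact p.Prime] {A : Type*} [Monoid A] {a : A}
    (ha : ∃ k : ℕ, a ^ p ^ k = 1) (ha1 : a ≠ 1) {n : ℕ} (hn : p.Coprime n) : a ^ n ≠ 1 := by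
  intro h
  obtain ⟨k, hk⟩ := ha
  exact ha1 (orderOf_eq_one_iff.mp (Nat.eq_one_of_dvd_coprimes (hn.pow_left k)
    (orderOf_dvd_of_pow_eq_one hk) (orderOf_dvd_of_pow_eq_one h)))

/-- A controlled `p`-element outside the kernel, with `p'`-index, is not in the derived group. -/
theorem notMem_commutator_of_controlled [H.FiniteIndex] {p : ℕ} [Fact p.Prime] (φ : H →* A) {g : G}
    (hg : g ∈ H) (hgp : ∃ k : ℕ, g ^ p ^ k = 1) (hne : φ ⟨g, hg⟩ ≠ 1) (hidx : p.Coprime H.index)
    (key : ∀ (k : ℕ) (a : G) (h : a⁻¹ * g ^ k * a ∈ H), φ ⟨_, h⟩ = φ ⟨g, hg⟩ ^ k) :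
    g ∉ commutator G := by
  intro hc
  have h1 : MonoidHom.transfer φ g = 1 :=
    Abelianization.commutator_subset_ker (MonoidHom.transfer φ) hc
  rw [transfer_eq_pow_of_controlled φ hg key] at h1
  refine pow_ne_one_of_coprime_prime ?_ hne hidx h1
  obtain ⟨k, hk⟩ := hgp
  exact ⟨k, by rw [← map_pow, show (⟨g, hg⟩ : H) ^ p ^ k = 1 from Subtype.ext (by simpa using hk),
    map_one]⟩

/-- The value used in `transfer_of_sq_eq_one` at a coset. -/
theorem mem_of_smul_eq {u : G} {q : G ⧸ H} (h : u • q = q) : q.out⁻¹ * u * q.out ∈ H := by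
  rw [← q.out_eq', MulAction.Quotient.smul_mk, QuotientGroup.eq] at h
  have := H.inv_mem h
  simpa [mul_assoc] using this

open Classical in
/-- The transfer of an element of square one is a product over its fixed cosets. -/
theorem transfer_of_sq_eq_one [H.FiniteIndex] [Fintype (G ⧸ H)] (φ : H →* A) {u : G}
    (hu : u * u = 1) :
    MonoidHom.transfer φ u =
      ∏ q ∈ ((Finset.univ : Finset (G ⧸ H)).filter fun q => u • q = q),
        if h : q.out⁻¹ * u * q.out ∈ H then φ ⟨_, h⟩ else 1 := by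
  have hinv : u⁻¹ = u := inv_eq_of_mul_eq_one_right hu
  set T : H.LeftTransversal :=
    ⟨Set.range (fun q : G ⧸ H => q.out), Subgroup.isComplement_range_left Quotient.out_eq'⟩ with hT
  have hα : ∀ q : G ⧸ H, (T.2.leftQuotientEquiv q : G) = q.out := fun q =>
    Subgroup.IsComplement.leftQuotientEquiv_apply Quotient.out_eq' q
  have hmem : ∀ q : G ⧸ H, q.out⁻¹ * (u * (u • q).out) ∈ H := by
    intro q
    rw [← QuotientGroup.eq, QuotientGroup.out_eq', ← smul_eq_mul, ← MulAction.Quotient.smul_mk,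
      QuotientGroup.out_eq', smul_smul, hu, one_smul]
  have h1 : MonoidHom.transfer φ u = ∏ q : G ⧸ H, φ ⟨_, hmem q⟩ := by
    rw [MonoidHom.transfer_def φ T u]
    unfold Subgroup.leftTransversals.diff
    refine Finset.prod_congr (Finset.ext fun q => by simp) fun q _ => congrArg φ (Subtype.ext ?_)
    change (T.2.leftQuotientEquiv q : G)⁻¹ * ((u • T).2.leftQuotientEquiv q : G) = _
    rw [Subgroup.smul_apply_eq_smul_apply_inv_smul, hinv, hα, hα, smul_eq_mul]
  rw [h1, ← Finset.prod_filter_mul_prod_filter_not Finset.univ (fun q : G ⧸ H => u • q = q)]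
  rw [Finset.prod_involution (s := Finset.univ.filter fun q : G ⧸ H => ¬ u • q = q)
    (fun q _ => u • q), mul_one]
  · refine Finset.prod_congr rfl fun q hq => ?_
    have hq' : u • q = q := (Finset.mem_filter.mp hq).2
    rw [dif_pos (mem_of_smul_eq hq')]
    exact congrArg φ (Subtype.ext (by simp only [hq', mul_assoc]))
  · intro q _
    rw [← map_mul]
    refine (congrArg φ (Subtype.ext ?_)).trans φ.map_one
    change q.out⁻¹ * (u * (u • q).out) * ((u • q).out⁻¹ * (u * (u • u • q).out)) = 1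
    rw [smul_smul, hu, one_smul]
    calc _ = q.out⁻¹ * (u * u) * q.out := by group
      _ = 1 := by rw [hu]; group
  · intro q hq _
    exact (Finset.mem_filter.mp hq).2
  · intro q hq
    refine Finset.mem_filter.mpr ⟨Finset.mem_univ _, fun h => (Finset.mem_filter.mp hq).2 ?_⟩
    have h' := congrArg (u • ·) h
    simp only [smul_smul, hu, one_mul] at h'
    simpa using h'
  · intro q _
    simp only [smul_smul, hu, one_smul]

open Classical in
/-- The sign homomorphism of a subgroup of index two. -/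
noncomputable def sgnHom {P : Type*} [Group P] (Q : Subgroup P) (h : Q.index = 2) : P →* ℤˣ where
  toFun x := if x ∈ Q then 1 else -1
  map_one' := if_pos Q.one_mem
  map_mul' a b := by
    by_cases ha : a ∈ Q <;> by_cases hb : b ∈ Q <;>
      simp [Subgroup.mul_mem_iff_of_index_two h, ha, hb]

open Classical in
theorem sgnHom_eq_one_iff {P : Type*} [Group P] {Q : Subgroup P} {h : Q.index = 2} {x : P} :
    sgnHom Q h x = 1 ↔ x ∈ Q := by
  simp only [sgnHom, MonoidHom.coe_mk, OneHom.coe_mk]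
  by_cases hx : x ∈ Q <;> simp [hx]

theorem intUnits_unique (a b : ℤˣ) (_ : a * a = 1) (_ : b * b = 1) (ha : a ≠ 1) (hb : b ≠ 1) :
    a = b := by
  rcases Int.units_eq_one_or a with rfl | rfl <;> rcases Int.units_eq_one_or b with rfl | rfl <;>
    simp_all

/-- A homomorphism to `ℤˣ` which is not trivial gives a normal subgroup of index two. -/
theorem exists_index_two_of_hom [Finite G] (f : G →* ℤˣ) {u : G} (hu : f u ≠ 1) :
    ∃ M : Subgroup G, M.Normal ∧ M.index = 2 ∧ u ∉ M := by
  refine ⟨f.ker, inferInstance, ?_, hu⟩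
  have hs : f.range = ⊤ := by
    refine top_le_iff.mp fun a _ => ?_
    rcases Int.units_eq_one_or a with rfl | rfl
    · exact one_mem _
    · exact ⟨u, (Int.units_eq_one_or (f u)).resolve_left hu⟩
  rw [Subgroup.index_ker, hs, Subgroup.card_top]
  simp [Nat.card_eq_fintype_card]

theorem pResidual_ne_top_of_index_two {M : Subgroup G} (h : M.index = 2) :
    Cfsg.pResidual 2 G ≠ ⊤ := by
  haveI := Fact.mk Nat.prime_two
  haveI := Subgroup.normal_of_index_eq_two h
  intro e
  have h1 := pResidual_le_of_isPGroup_quotient (p := 2) M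
    (IsPGroup.of_card (n := 1) (by rw [← Subgroup.index_eq_card, h, pow_one]))
  rw [e, top_le_iff] at h1
  rw [h1, Subgroup.index_top] at h
  omega

open Classical in
theorem odd_card_fixed [Fintype (G ⧸ H)] {u : G} (hu : u * u = 1) (hodd : Odd H.index) :
    Odd ((Finset.univ : Finset (G ⧸ H)).filter fun q => u • q = q).card := by
  set σ : Equiv.Perm (G ⧸ H) := MulAction.toPerm u with hσ
  have h2 : σ ^ 2 = 1 := Equiv.ext fun q => by simp [hσ, pow_two, smul_smul, hu]
  have h3 : Even σ.support.card := even_iff_two_dvd.mpr (Equiv.Perm.two_dvd_card_support h2)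
  have h4 := Finset.card_filter_add_card_filter_not (s := (Finset.univ : Finset (G ⧸ H)))
    (fun q => u • q = q)
  have h5 : ((Finset.univ : Finset (G ⧸ H)).filter fun q => ¬ u • q = q) = σ.support :=
    Finset.ext fun q => by simp [hσ]
  rw [h5, Finset.card_univ, ← Nat.card_eq_fintype_card, ← Subgroup.index_eq_card] at h4
  rw [← h4, Nat.odd_add] at hodd
  exact hodd.mpr h3

open Classical in
/-- If the transfer of an element of square one is trivial, an odd number of its fixed cosets
give a conjugate in the kernel; so each `2`-subgroup centralizing it fixes such a coset. -/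
theorem exists_conj_ker_of_transfer_eq_one [Finite G] (φ : H →* A)
    (hA : ∀ a b : A, a * a = 1 → b * b = 1 → a ≠ 1 → b ≠ 1 → a = b)
    {u : G} (hu : u * u = 1) (huH : u ∈ H) (hne : φ ⟨u, huH⟩ ≠ 1) (hodd : Odd H.index)
    (htr : MonoidHom.transfer φ u = 1) (Y : Subgroup G) (hY : IsPGroup 2 Y)
    (hYu : Y ≤ Subgroup.centralizer ({u} : Set G)) :
    ∃ a : G, (∀ y ∈ Y, a⁻¹ * y * a ∈ H) ∧ ∃ h : a⁻¹ * u * a ∈ H, φ ⟨_, h⟩ = 1 := by
  haveI := Fact.mk Nat.prime_two
  haveI := Fintype.ofFinite (G ⧸ H)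
  set ι := φ ⟨u, huH⟩ with hι
  set F := (Finset.univ : Finset (G ⧸ H)).filter (fun q => u • q = q) with hF
  set val : G ⧸ H → A := fun q =>
    if h : q.out⁻¹ * u * q.out ∈ H then φ ⟨_, h⟩ else 1 with hval
  have hι2 : ι * ι = 1 := by
    rw [hι, ← map_mul, show (⟨u, huH⟩ : H) * ⟨u, huH⟩ = 1 from Subtype.ext hu, map_one]
  have hval2 : ∀ q ∈ F, val q ≠ 1 → val q = ι := by
    intro q hq hq1
    refine hA _ _ ?_ hι2 hq1 hne
    have hq' := mem_of_smul_eq (Finset.mem_filter.mp hq).2
    simp only [hval, dif_pos hq']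
    rw [← map_mul]
    refine (congrArg φ (Subtype.ext ?_)).trans φ.map_one
    change q.out⁻¹ * u * q.out * (q.out⁻¹ * u * q.out) = 1
    calc _ = q.out⁻¹ * (u * u) * q.out := by group
      _ = 1 := by rw [hu]; group
  have hodd' : Odd (F.filter fun q => val q = 1).card := by
    have h1 := transfer_of_sq_eq_one φ hu
    rw [htr, ← Finset.prod_filter_mul_prod_filter_not F (fun q => val q = 1)] at h1
    rw [Finset.prod_eq_one (s := F.filter fun q => val q = 1)
      (fun q hq => (Finset.mem_filter.mp hq).2), one_mul] at h1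
    rw [Finset.prod_congr rfl (g := fun _ => ι) (fun q hq => hval2 q (Finset.mem_filter.mp hq).1
      (Finset.mem_filter.mp hq).2), Finset.prod_const] at h1
    have h2 : Even (F.filter fun q => ¬ val q = 1).card := by
      rcases Nat.even_or_odd (F.filter fun q => ¬ val q = 1).card with h | ⟨k, hk⟩
      · exact h
      · rw [hk, pow_succ, pow_mul, pow_two, hι2, one_pow, one_mul] at h1
        exact absurd h1.symm hne
    have h3 := odd_card_fixed (H := H) hu hodd
    rw [← hF, ← Finset.card_filter_add_card_filter_not (s := F) (fun q => val q = 1),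
      Nat.odd_add] at h3
    exact h3.mpr h2
  -- the action of `Y`
  have hinv : ∀ y ∈ Y, ∀ q ∈ F.filter (fun q => val q = 1), y • q ∈ F.filter (fun q => val q = 1) := by
    intro y hy q hq
    obtain ⟨hqF, hq1⟩ := Finset.mem_filter.mp hq
    have hqu := (Finset.mem_filter.mp hqF).2
    have hc : u * y = y * u := Subgroup.mem_centralizer_singleton_iff.mp (hYu hy) |>.symm
    have hfix : u • (y • q) = y • q := by rw [smul_smul, hc, ← smul_smul, hqu]
    refine Finset.mem_filter.mpr ⟨Finset.mem_filter.mpr ⟨Finset.mem_univ _, hfix⟩, ?_⟩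
    have hk : (y * q.out)⁻¹ * (y • q).out ∈ H := by
      rw [← QuotientGroup.eq, QuotientGroup.out_eq', ← smul_eq_mul,
        ← MulAction.Quotient.smul_mk, QuotientGroup.out_eq']
    have h1 := mem_of_smul_eq hqu
    simp only [hval, dif_pos (mem_of_smul_eq hfix)]
    simp only [hval, dif_pos h1] at hq1
    have e : (⟨_, mem_of_smul_eq hfix⟩ : H) = ⟨_, hk⟩⁻¹ * ⟨_, h1⟩ * ⟨_, hk⟩ := by
      apply Subtype.ext
      change (y • q).out⁻¹ * u * (y • q).out =
        ((y * q.out)⁻¹ * (y • q).out)⁻¹ * (q.out⁻¹ * u * q.out) *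
          ((y * q.out)⁻¹ * (y • q).out)
      calc (y • q).out⁻¹ * u * (y • q).out
          = (y • q).out⁻¹ * (u * y) * y⁻¹ * (y • q).out := by group
        _ = (y • q).out⁻¹ * (y * u) * y⁻¹ * (y • q).out := by rw [hc]
        _ = _ := by group
    rw [e, map_mul, map_mul, hq1, mul_one, map_inv, inv_mul_cancel]
  let S : SubMulAction Y (G ⧸ H) :=
    { carrier := {q | q ∈ F.filter (fun q => val q = 1)}
      smul_mem' := fun y q hq => hinv (y : G) y.2 q hq }
  have hcard : ¬ 2 ∣ Nat.card S := by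
    have : Nat.card S = (F.filter fun q => val q = 1).card := by
      rw [← Fintype.card_coe, ← Nat.card_eq_fintype_card]
      rfl
    rw [this]
    exact fun h => Nat.not_even_iff_odd.mpr hodd' (even_iff_two_dvd.mpr h)
  obtain ⟨⟨q, hqS⟩, hq⟩ := hY.nonempty_fixed_point_of_prime_not_dvd_card S hcard
  obtain ⟨hqF, hq1⟩ := Finset.mem_filter.mp hqS
  refine ⟨q.out, fun y hy => ?_, mem_of_smul_eq (Finset.mem_filter.mp hqF).2, ?_⟩
  · exact mem_of_smul_eq (congrArg Subtype.val (hq ⟨y, hy⟩))
  · simpa only [hval, dif_pos (mem_of_smul_eq (Finset.mem_filter.mp hqF).2)] using hq1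

/-- Version for groups whose transfer into `A` is trivial. -/
theorem exists_conj_ker_sylow [Finite G] (φ : H →* A)
    (hA : ∀ a b : A, a * a = 1 → b * b = 1 → a ≠ 1 → b ≠ 1 → a = b)
    (hG : ∀ f : G →* A, f = 1) {u : G} (hu : u * u = 1) (huH : u ∈ H) (hne : φ ⟨u, huH⟩ ≠ 1)
    (hodd : Odd H.index) :
    ∃ a : G, ∃ h : a⁻¹ * u * a ∈ H, φ ⟨_, h⟩ = 1 := by
  obtain ⟨a, -, h⟩ := exists_conj_ker_of_transfer_eq_one φ hA hu huH hne hodd
    (by rw [hG (MonoidHom.transfer φ), MonoidHom.one_apply]) ⊥ IsPGroup.of_bot bot_le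
  exact ⟨a, h⟩

theorem sq_eq_one_of_orderOf_eq_two {u : G} (hu : orderOf u = 2) : u * u = 1 := by
  rw [← pow_two, ← hu, pow_orderOf_eq_one]

/-- **Thompson's transfer lemma**. -/
theorem thompson_transfer [Finite G] (P : Sylow 2 G) {Q : Subgroup G}
    (hQi : Q.relIndex (P : Subgroup G) = 2) {u : G} (hu : u * u = 1)
    (huP : u ∈ (P : Subgroup G)) (huQ : u ∉ Q) :
    (∃ M : Subgroup G, M.Normal ∧ M.index = 2 ∧ u ∉ M) ∨
      ∃ g : G, g * u * g⁻¹ ∈ (P : Subgroup G) ∧ g * u * g⁻¹ ∈ Q := by
  classical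
  haveI := Fact.mk Nat.prime_two
  set φ := sgnHom (Q.subgroupOf (P : Subgroup G)) hQi with hφ
  by_cases h : MonoidHom.transfer φ u = 1
  · obtain ⟨a, -, ha, ha'⟩ := exists_conj_ker_of_transfer_eq_one φ intUnits_unique hu huP
      (fun e => huQ ((sgnHom_eq_one_iff (Q := Q.subgroupOf (P : Subgroup G)) (h := hQi)).mp e))
      (Nat.not_even_iff_odd.mp fun e => P.not_dvd_index (even_iff_two_dvd.mp e)) h ⊥
      IsPGroup.of_bot bot_le
    refine Or.inr ⟨a⁻¹, ?_, ?_⟩ <;> rw [inv_inv]
    · exact ha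
    · exact (sgnHom_eq_one_iff (Q := Q.subgroupOf (P : Subgroup G)) (h := hQi)).mp ha'
  · exact Or.inl (exists_index_two_of_hom _ h)

end CfsgLib.Transfer

namespace CfsgLib.Transfer

/-- A cyclic group has at most one element of order two. -/
theorem eq_of_sq_eq_one_of_isCyclic {A : Type*} [Group A] [Finite A] [IsCyclic A] (a b : A)
    (ha : a * a = 1) (hb : b * b = 1) (ha1 : a ≠ 1) (hb1 : b ≠ 1) : a = b := by
  classical
  haveI := Fintype.ofFinite A
  by_contra hab
  have h := IsCyclic.card_pow_eq_one_le (α := A) (n := 2) two_pos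
  have h3 : ({1, a, b} : Finset A).card = 3 := by
    rw [Finset.card_insert_of_notMem (by simp [Ne.symm ha1, Ne.symm hb1]),
      Finset.card_insert_of_notMem (by simp [hab]), Finset.card_singleton]
  have hsub : ({1, a, b} : Finset A) ⊆ ({x | x ^ 2 = 1} : Finset A) := by
    intro x hx
    simp only [Finset.mem_insert, Finset.mem_singleton] at hx
    rcases hx with rfl | rfl | rfl <;> simp [pow_two, ha, hb]
  have := Finset.card_le_card hsub
  omega

/-- A nontrivial homomorphism into a `p`-group gives a subgroup of index `p`. -/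
theorem exists_index_of_hom_isPGroup {G : Type*} [Group G] [Finite G] {p : ℕ} [Fact p.Prime]
    {A : Type*} [Group A] (hA : IsPGroup p A) (f : G →* A) (hf : f ≠ 1) :
    ∃ M : Subgroup G, M.index = p := by
  haveI : Finite f.range := Finite.of_surjective _ f.rangeRestrict_surjective
  obtain ⟨k, hk⟩ := (hA.to_subgroup f.range).exists_card_eq
  rcases Nat.eq_zero_or_pos k with rfl | hk0
  · refine absurd (MonoidHom.ext fun x => ?_) hf
    rw [pow_zero, Subgroup.card_eq_one] at hk
    exact Subgroup.mem_bot.mp (hk ▸ ⟨x, rfl⟩)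
  obtain ⟨M, hM⟩ := Sylow.exists_subgroup_card_pow_prime p
    (show p ^ (k - 1) ∣ Nat.card f.range from hk ▸ pow_dvd_pow p (Nat.sub_le k 1))
  refine ⟨M.comap f.rangeRestrict, ?_⟩
  rw [Subgroup.index_comap_of_surjective _ f.rangeRestrict_surjective]
  have h := M.card_mul_index
  rw [hM, hk, show k = k - 1 + 1 by omega, pow_succ, Nat.add_sub_cancel] at h
  exact Nat.eq_of_mul_eq_mul_left (pow_pos (Fact.out : p.Prime).pos _) h

end CfsgLib.Transfer
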