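import Mathlib
import Cfsg.Agent.Lib.Transfer.Basic
import Cfsg.Agent.Lib.Transfer.Focal
import Cfsg.Agent.Lib.Transfer.Thompson
import Cfsg.Agent.Lib.Fitting.Basic

/-!
Abelian Hall subgroups: averaging in the normal case, transfer kernels, and a criterion for the
normalizer of an abelian Sylow subgroup to centralize it.
-/

namespace CfsgLib.Transfer

open scoped IsMulCommutative commutatorElement

set_option autoImplicit false
set_option linter.style.haveILetI false

variable {G : Type*} [Group G] [Finite G]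

theorem dvd_of_eq_of_dvd {a b n : ℕ} (e : a = b) (h : b ∣ n) : a ∣ n := e ▸ h

/-- For an abelian subgroup `A` of order prime to its index, a map to an abelian group that is
unchanged by the `G`-fusion in `A` has kernel containing `G' ∩ A`. -/
theorem map_eq_one_of_hall {A : Subgroup G} (hA : IsMulCommutative A)
    (hH : (Nat.card A).Coprime A.index) {B : Type*} [CommGroup B] (φ : A →* B)
    (key : ∀ (x : A) (a : G) (h : a⁻¹ * (x : G) * a ∈ A), φ ⟨_, h⟩ = φ x) {x : A} {S : Subgroup G}
    (hS : S ≤ (MonoidHom.transfer φ).ker) (hx : (x : G) ∈ S) : φ x = 1 := by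
  have hkey : ∀ (k : ℕ) (a : G) (h : a⁻¹ * (x : G) ^ k * a ∈ A),
      φ ⟨_, h⟩ = φ ⟨(x : G), x.2⟩ ^ k := by
    intro k a h
    rw [← map_pow]
    exact key (x ^ k) a h
  have h1 := transfer_eq_pow_of_controlled φ x.2 hkey
  rw [MonoidHom.mem_ker.mp (hS hx)] at h1
  have hord : orderOf (φ x) ∣ Nat.card A := (orderOf_map_dvd φ x).trans (orderOf_dvd_natCard x)
  have h2 : orderOf (φ x) ∣ A.index := orderOf_dvd_of_pow_eq_one h1.symm
  exact orderOf_eq_one_iff.mp (Nat.eq_one_of_dvd_coprimes hH hord h2)

/-- The average of the conjugates of an element of an abelian normal subgroup. -/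
noncomputable def average (A : Subgroup G) [A.Normal] [IsMulCommutative A] : A →* A :=
  letI := Fintype.ofFinite (G ⧸ A)
  ∏ q : G ⧸ A, (MulAut.conjNormal q.out : MulAut A).toMonoidHom

theorem average_apply (A : Subgroup G) [A.Normal] [IsMulCommutative A] [Fintype (G ⧸ A)] (x : A) :
    average A x = ∏ q : G ⧸ A, (MulAut.conjNormal q.out : MulAut A) x := by
  unfold average
  rw [MonoidHom.finsetProd_apply]
  exact Finset.prod_congr (by ext q; simp) fun q _ => rfl

theorem conjNormal_congr (A : Subgroup G) [A.Normal] [IsMulCommutative A] {g h : G}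
    (e : (g : G ⧸ A) = h) (x : A) :
    (MulAut.conjNormal g : MulAut A) x = (MulAut.conjNormal h : MulAut A) x := by
  obtain ⟨a, ha, rfl⟩ : ∃ a ∈ A, h = g * a :=
    ⟨g⁻¹ * h, QuotientGroup.eq.mp e, (mul_inv_cancel_left g h).symm⟩
  apply Subtype.ext
  have hax : a * (x : G) = (x : G) * a := congrArg Subtype.val (mul_comm' (⟨a, ha⟩ : A) x)
  simp only [MulAut.conjNormal_apply, mul_inv_rev]
  rw [show g * a * (x : G) * (a⁻¹ * g⁻¹) = g * (a * (x : G)) * a⁻¹ * g⁻¹ by group, hax]
  group

theorem conj_average (A : Subgroup G) [A.Normal] [IsMulCommutative A] (g : G) (x : A) :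
    g * (average A x : G) = (average A x : G) * g := by
  letI := Fintype.ofFinite (G ⧸ A)
  have h : (MulAut.conjNormal g : MulAut A) (average A x) = average A x := by
    rw [average_apply, map_prod]
    refine Fintype.prod_equiv (Equiv.mulLeft (g : G ⧸ A)) _ _ fun q => ?_
    rw [Equiv.coe_mulLeft, ← MulAut.mul_apply, ← map_mul]
    apply conjNormal_congr
    rw [QuotientGroup.mk_mul, QuotientGroup.out_eq', QuotientGroup.out_eq']
  have h' := congrArg Subtype.val h
  rw [MulAut.conjNormal_apply] at h'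
  exact mul_inv_eq_iff_eq_mul.mp h'

theorem average_mem_center (A : Subgroup G) [A.Normal] [IsMulCommutative A] (x : A) :
    (average A x : G) ∈ Subgroup.center G :=
  Subgroup.mem_center_iff.mpr fun g => conj_average A g x

/-- An abelian normal Hall subgroup splits over its commutator with the group. -/
theorem abelian_normal_hall (A : Subgroup G) [A.Normal] (hc : IsMulCommutative A)
    (hH : (Nat.card A).Coprime A.index) :
    ⁅A, (⊤ : Subgroup G)⁆ ⊓ (Subgroup.center G ⊓ A) = ⊥ ∧
      ⁅A, (⊤ : Subgroup G)⁆ ⊔ (Subgroup.center G ⊓ A) = A := by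
  haveI := hc
  letI := Fintype.ofFinite (G ⧸ A)
  set K := ⁅A, (⊤ : Subgroup G)⁆ with hK
  have hKA : K ≤ A := Subgroup.commutator_le_left A ⊤
  -- the average is trivial on `K`
  have hker : ∀ (k : G) (hk : k ∈ K), average A ⟨k, hKA hk⟩ = 1 := by
    intro k hk
    have hle : K ≤ ((average A).ker).map A.subtype := by
      rw [hK, Subgroup.commutator_le]
      intro a ha g _
      have h1 : (MulAut.conjNormal g : MulAut A) (⟨a, ha⟩ : A)⁻¹ ∈ (⊤ : Subgroup A) := trivial
      refine ⟨⟨a, ha⟩ * (MulAut.conjNormal g : MulAut A) (⟨a, ha⟩ : A)⁻¹, ?_, ?_⟩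
      · have h2 : ∀ y : A, average A ((MulAut.conjNormal g : MulAut A) y) = average A y := by
          intro y
          rw [average_apply, average_apply]
          refine Fintype.prod_equiv (Equiv.mulRight (g : G ⧸ A)) _ _ fun q => ?_
          rw [Equiv.coe_mulRight, ← MulAut.mul_apply, ← map_mul]
          apply conjNormal_congr
          rw [QuotientGroup.mk_mul, QuotientGroup.out_eq', QuotientGroup.out_eq']
        show average A _ = 1
        rw [map_mul, h2, map_inv, mul_inv_cancel]
      · show (a : G) * (g * a⁻¹ * g⁻¹) = ⁅a, g⁆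
        rw [commutatorElement_def]; group
    obtain ⟨u, hu, e⟩ := hle hk
    rw [show (⟨k, hKA hk⟩ : A) = u from Subtype.ext e.symm]
    exact hu
  -- and is congruent to the index-th power
  have hcong : ∀ x : A, ((x ^ A.index)⁻¹ * average A x : A) ∈ K.subgroupOf A := by
    intro x
    rw [average_apply, show A.index = Fintype.card (G ⧸ A) from Nat.card_eq_fintype_card,
      ← Finset.card_univ, ← Finset.prod_const, ← Finset.prod_inv_distrib, ← Finset.prod_mul_distrib]
    refine prod_mem fun q _ => ?_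
    rw [Subgroup.mem_subgroupOf]
    show (x : G)⁻¹ * (q.out * (x : G) * q.out⁻¹) ∈ K
    rw [show (x : G)⁻¹ * (q.out * (x : G) * q.out⁻¹) = ⁅(x : G)⁻¹, q.out⁆ by
      rw [commutatorElement_def]; group]
    exact Subgroup.commutator_mem_commutator (A.inv_mem x.2) (Subgroup.mem_top _)
  constructor
  · rw [eq_bot_iff]
    rintro x ⟨hxK, hxZ, hxA⟩
    have h1 := hker x hxK
    have h2 : average A ⟨x, hxA⟩ = (⟨x, hxA⟩ : A) ^ A.index := by
      rw [average_apply, show A.index = Fintype.card (G ⧸ A) from Nat.card_eq_fintype_card,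
        ← Finset.card_univ, ← Finset.prod_const]
      refine Finset.prod_congr rfl fun q _ => Subtype.ext ?_
      show q.out * x * q.out⁻¹ = x
      rw [Subgroup.mem_center_iff.mp hxZ, mul_inv_cancel_right]
    rw [h2] at h1
    have h3 := Nat.eq_one_of_dvd_coprimes hH (orderOf_dvd_natCard (⟨x, hxA⟩ : A))
      (orderOf_dvd_of_pow_eq_one h1)
    rw [Subgroup.mem_bot]
    exact congrArg Subtype.val (orderOf_eq_one_iff.mp h3)
  · refine le_antisymm (sup_le hKA inf_le_right) fun x hx => ?_
    have hpow : x ^ A.index ∈ K ⊔ Subgroup.center G ⊓ A := by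
      have h1 := hcong ⟨x, hx⟩
      rw [Subgroup.mem_subgroupOf] at h1
      have e : x ^ A.index =
          ((average A ⟨x, hx⟩ : A) : G) * (((x ^ A.index)⁻¹ * (average A ⟨x, hx⟩ : A) : G))⁻¹ := by
        group
      rw [e]
      exact Subgroup.mul_mem _ (Subgroup.mem_sup_right ⟨average_mem_center A _, (average A _).2⟩)
        (Subgroup.mem_sup_left (K.inv_mem h1))
    obtain ⟨j, hj⟩ := exists_pow_eq_self_of_coprime (x := x) (n := A.index)
      ((hH.coprime_dvd_left (Subgroup.orderOf_dvd_natCard A hx)).symm)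
    rw [← hj]
    exact Subgroup.pow_mem _ hpow j

/-- If no prime divisor of the index can act on the abelian Sylow subgroup, its normalizer
centralizes it. -/
theorem normalizer_le_centralizer_of_orbit {p : ℕ} [Fact p.Prime] (P : Sylow p G)
    (hP : IsMulCommutative P)
    (h : ∀ q : ℕ, q.Prime → q ≠ p → q ∣ Nat.card G → ∀ c : Subgroup (P : Subgroup G), c ≠ ⊤ →
      ¬ q ∣ Nat.card (P : Subgroup G) - Nat.card c) :
    Subgroup.normalizer ((P : Subgroup G) : Set G) ≤
      Subgroup.centralizer ((P : Subgroup G) : Set G) := by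
  set f := (P : Subgroup G).normalizerMonoidHom
  have hker := Subgroup.normalizerMonoidHom_ker (P : Subgroup G)
  have hPker : (P : Subgroup G).subgroupOf (Subgroup.normalizer ((P : Subgroup G) : Set G)) ≤
      f.ker := by
    rw [hker]
    exact fun x hx => Subgroup.mem_centralizer_iff.mpr fun y hy =>
      congrArg Subtype.val (mul_comm' (⟨y, hy⟩ : (P : Subgroup G)) ⟨(x : G), hx⟩)
  suffices hr : f.range = ⊥ by
    intro x hx
    have : (⟨x, hx⟩ : Subgroup.normalizer ((P : Subgroup G) : Set G)) ∈ f.ker := by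
      rw [MonoidHom.ker_eq_top_iff.mpr (MonoidHom.range_eq_bot_iff.mp hr)]
      exact trivial
    rw [hker] at this
    exact this
  by_contra hr
  haveI : Nontrivial f.range := (Subgroup.nontrivial_iff_ne_bot _).mpr hr
  obtain ⟨q, hq, hqd⟩ := Nat.exists_prime_and_dvd (Finite.one_lt_card (α := f.range)).ne'
  haveI := Fact.mk hq
  have hidx : Nat.card f.range ∣ (P : Subgroup G).index := by
    rw [← Subgroup.index_ker]
    exact (Subgroup.index_dvd_of_le hPker).trans
      (Subgroup.relIndex_dvd_index_of_le Subgroup.le_normalizer)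
  have hqp : q ≠ p := fun e => P.not_dvd_index (dvd_of_eq_of_dvd e.symm (hqd.trans hidx))
  have hqG : q ∣ Nat.card G := (hqd.trans hidx).trans (Subgroup.index_dvd_card _)
  obtain ⟨⟨σ, hσ⟩, hσo⟩ := exists_prime_orderOf_dvd_card' q hqd
  rw [Subgroup.orderOf_mk] at hσo
  let c : Subgroup (P : Subgroup G) := σ.toMonoidHom.eqLocus (MonoidHom.id _)
  have hct : c ≠ ⊤ := by
    intro e
    have : σ = 1 := MulEquiv.ext fun x => (show x ∈ c from e ▸ trivial)
    rw [this, orderOf_one] at hσo
    exact hq.ne_one hσo.symm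
  refine h q hq hqp hqG c hct ?_
  have hZ : IsPGroup q (Subgroup.zpowers σ) :=
    IsPGroup.of_card (n := 1) (by rw [Nat.card_zpowers, hσo, pow_one])
  have hmod := hZ.card_modEq_card_fixedPoints (P : Subgroup G)
  have hfix : Nat.card (MulAction.fixedPoints (Subgroup.zpowers σ) (P : Subgroup G)) = Nat.card c := by
    refine Nat.card_congr (Equiv.subtypeEquivRight fun x => ⟨fun hx => ?_, fun hx τ => ?_⟩)
    · exact hx ⟨σ, Subgroup.mem_zpowers σ⟩
    · obtain ⟨k, hk⟩ := Subgroup.mem_zpowers_iff.mp τ.2
      show (τ : MulAut (P : Subgroup G)) x = x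
      rw [← hk]
      have : σ ∈ MulAction.stabilizer (MulAut (P : Subgroup G)) x := hx
      exact MulAction.mem_stabilizer_iff.mp (Subgroup.zpow_mem _ this k)
  rw [hfix] at hmod
  exact (Nat.modEq_iff_dvd' (Nat.le_of_dvd Nat.card_pos (Subgroup.card_subgroup_dvd_card c))).mp hmod.symm

end CfsgLib.Transfer
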