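import Cfsg.Agent.Lib.Transfer.Frobenius

/-!
# Nilpotent Hall subgroups

Conjugacy (Wielandt) and the normal complement criterion without fusion.
-/

namespace CfsgLib.Transfer

set_option linter.style.haveILetI false

universe u

variable {G : Type u} [Group G]

/-- A Sylow subgroup of a Hall subgroup is a Sylow subgroup of the whole group. -/
theorem exists_sylow_le_of_hall [Finite G] {H : Subgroup G}
    (hH : Nat.Coprime (Nat.card H) H.index) {p : ℕ} [Fact p.Prime] (hp : p ∣ Nat.card H)
    (S : Sylow p H) :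
    ∃ P : Sylow p G, (P : Subgroup G) = (S : Subgroup H).map H.subtype := by
  refine ⟨(S.2.map H.subtype).toSylow ?_, rfl⟩
  rw [Subgroup.index_map_subtype]
  intro hd
  rcases (Fact.out : p.Prime).dvd_mul.mp hd with h | h
  · exact S.not_dvd_index h
  · exact (Fact.out : p.Prime).ne_one (Nat.eq_one_of_dvd_coprimes hH hp h)

theorem sylow_normal_of_isNilpotent [Finite G] [Group.IsNilpotent G] {p : ℕ} [Fact p.Prime]
    (S : Sylow p G) : (S : Subgroup G).Normal :=
  S.normal_of_normalizerCondition Group.normalizerCondition_of_isNilpotent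

/-- A finite nilpotent group is the product of a Sylow subgroup and its centralizer. -/
theorem sylow_sup_centralizer_eq_top [Finite G] [Group.IsNilpotent G] {p : ℕ} [Fact p.Prime]
    (S : Sylow p G) :
    (S : Subgroup G) ⊔ Subgroup.centralizer ((S : Subgroup G) : Set G) = ⊤ := by
  rw [← Subgroup.index_eq_one]
  by_contra hne
  obtain ⟨q, hq, hqd⟩ := Nat.exists_prime_and_dvd hne
  haveI := Fact.mk hq
  obtain ⟨T⟩ := (inferInstance : Nonempty (Sylow q G))
  refine T.not_dvd_index (hqd.trans (Subgroup.index_dvd_of_le ?_))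
  rcases eq_or_ne q p with rfl | hqp
  · haveI := sylow_normal_of_isNilpotent S
    obtain ⟨g, hg⟩ := MulAction.exists_smul_eq G S T
    rw [← hg, S.smul_eq_of_normal (g := g)]
    exact le_sup_left
  · refine le_sup_of_le_right fun t ht => ?_
    rw [Subgroup.mem_centralizer_iff]
    intro s hs
    exact Subgroup.commute_of_normal_of_disjoint _ _ (sylow_normal_of_isNilpotent S)
      (sylow_normal_of_isNilpotent T) (IsPGroup.disjoint_of_ne p q hqp.symm _ _ S.2 T.2) s t hs ht

/-- Normal complements of nilpotent Hall subgroups with no fusion. -/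
theorem exists_normal_complement_of_no_fusion [Finite G] (H : Subgroup G) [Group.IsNilpotent H]
    (hH : Nat.Coprime (Nat.card H) H.index)
    (h : ∀ x ∈ H, ∀ g : G, g * x * g⁻¹ ∈ H → ∃ k ∈ H, k * x * k⁻¹ = g * x * g⁻¹) :
    ∃ N : Subgroup G, N.Normal ∧ N.IsComplement' H := by
  set N := Subgroup.closure {g : G | (orderOf g).Coprime (Nat.card H)} with hN
  have hnorm : N.Normal := by
    refine ⟨fun x hx g => ?_⟩
    have : N.map (MulAut.conj g).toMonoidHom ≤ N := by
      rw [hN, MonoidHom.map_closure]
      refine Subgroup.closure_mono ?_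
      rintro _ ⟨y, hy, rfl⟩
      simpa [orderOf_conj] using hy
    exact this ⟨x, hx, rfl⟩
  have hcop : (Nat.card N).Coprime (Nat.card H) := by
    refine Nat.coprime_of_dvd fun p hp hpN hpH => ?_
    haveI := Fact.mk hp
    obtain ⟨S⟩ := (inferInstance : Nonempty (Sylow p H))
    obtain ⟨P, hP⟩ := exists_sylow_le_of_hall hH hpH S
    have hc : Cfsg.HasNormalPComplement p G := by
      refine hasNormalPComplement_of_no_fusion P fun x hx g hgx => ?_
      rw [hP] at hx hgx ⊢
      obtain ⟨⟨x, hxH⟩, hxS, rfl⟩ := hx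
      obtain ⟨⟨y, hyH⟩, hyS, hy⟩ := hgx
      simp only [Subgroup.coe_subtype] at hy
      obtain ⟨k, hk, hkx⟩ := h x hxH g (hy ▸ hyH)
      haveI := sylow_normal_of_isNilpotent S
      have hkmem : (⟨k, hk⟩ : H) ∈ (S : Subgroup H) ⊔ Subgroup.centralizer ((S : Subgroup H) : Set H) := by
        rw [sylow_sup_centralizer_eq_top]; trivial
      obtain ⟨z, hz, c, hc, hzc⟩ := Subgroup.mem_sup_of_normal_left.mp hkmem
      refine ⟨(z : G), ⟨z, hz, rfl⟩, ?_⟩
      have e1 : x * (c : G) = (c : G) * x :=
        congrArg Subtype.val (Subgroup.mem_centralizer_iff.mp hc ⟨x, hxH⟩ hxS)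
      have e2 : k = (z : G) * (c : G) := (congrArg Subtype.val hzc).symm
      change (z : G) * x * (z : G)⁻¹ = g * x * g⁻¹
      rw [← hkx, e2]
      calc (z : G) * x * (z : G)⁻¹ = (z : G) * (x * (c : G)) * (c : G)⁻¹ * (z : G)⁻¹ := by group
        _ = (z : G) * ((c : G) * x) * (c : G)⁻¹ * (z : G)⁻¹ := by rw [e1]
        _ = _ := by group
    refine hasNormalPComplement_iff_pResidual.mp hc (hpN.trans (Subgroup.card_dvd_of_le ?_))
    rw [hN, Subgroup.closure_le]
    exact fun g hg => mem_pResidual_of_coprime (hg.coprime_dvd_right hpH)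
  have hidx : N.index.Coprime H.index := by
    refine Nat.coprime_of_dvd fun q hq hqN hqH => ?_
    haveI := Fact.mk hq
    obtain ⟨Q⟩ := (inferInstance : Nonempty (Sylow q G))
    refine Q.not_dvd_index (hqN.trans (Subgroup.index_dvd_of_le fun x hx => ?_))
    refine Subgroup.subset_closure ?_
    obtain ⟨k, hk⟩ := IsPGroup.iff_orderOf.mp Q.2 ⟨x, hx⟩
    rw [← Subgroup.orderOf_coe] at hk
    rw [Set.mem_setOf_eq, hk]
    refine Nat.Coprime.pow_left _ (hq.coprime_iff_not_dvd.mpr fun hd => ?_)
    exact hq.ne_one (Nat.eq_one_of_dvd_coprimes hH hd hqH)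
  have hcard : Nat.card N = H.index := by
    refine Nat.dvd_antisymm ?_ ?_
    · refine hcop.dvd_of_dvd_mul_left ?_
      rw [Subgroup.card_mul_index]
      exact Subgroup.card_subgroup_dvd_card N
    · refine hidx.symm.dvd_of_dvd_mul_right ?_
      rw [Subgroup.card_mul_index]
      exact H.index_dvd_card
  exact ⟨N, hnorm, Subgroup.isComplement'_of_coprime
    (by rw [hcard, mul_comm, Subgroup.card_mul_index]) hcop⟩

private theorem exists_map_conj_eq_aux (n : ℕ) : ∀ {G : Type u} [Group G] [Finite G],
    Nat.card G = n → ∀ H K : Subgroup G, Group.IsNilpotent H → Group.IsNilpotent K →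
    Nat.card H = Nat.card K → Nat.Coprime (Nat.card H) H.index →
    ∃ g : G, H.map (MulAut.conj g).toMonoidHom = K := by
  induction n using Nat.strong_induction_on with
  | _ n IH =>
  intro G _ _ hn H K hH hK hcard hcop
  rcases eq_or_ne (Nat.card H) 1 with h1 | h1
  · refine ⟨1, ?_⟩
    have h2 : Nat.card K = 1 := hcard.symm.trans h1
    rw [map_conj_one, Subgroup.card_eq_one.mp h1, Subgroup.card_eq_one.mp h2]
  obtain ⟨p, hp, hpH⟩ := Nat.exists_prime_and_dvd h1
  haveI := Fact.mk hp
  have hKcop : Nat.Coprime (Nat.card K) K.index := by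
    have e1 := H.card_mul_index
    have e2 := K.card_mul_index
    rw [← hcard] at e2
    have e : K.index = H.index := Nat.eq_of_mul_eq_mul_left Nat.card_pos (e2.trans e1.symm)
    rwa [e, ← hcard]
  obtain ⟨S⟩ := (inferInstance : Nonempty (Sylow p H))
  obtain ⟨P, hP⟩ := exists_sylow_le_of_hall hcop hpH S
  obtain ⟨T⟩ := (inferInstance : Nonempty (Sylow p K))
  obtain ⟨P', hP'⟩ := exists_sylow_le_of_hall hKcop (hcard ▸ hpH) T
  obtain ⟨k, hk⟩ := exists_map_conj_sylow_eq P P'
  suffices key : ∃ g : G, (H.map (MulAut.conj k).toMonoidHom).map (MulAut.conj g).toMonoidHom = K by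
    obtain ⟨g, hg⟩ := key
    exact ⟨g * k, by rw [← hg, map_conj_mul]⟩
  set H' := H.map (MulAut.conj k).toMonoidHom with hH'
  have hH'n : Group.IsNilpotent H' := (Group.isNilpotent_congr (Subgroup.equivMapOfInjective H (MulAut.conj k).toMonoidHom (MulAut.conj k).injective)).mp hH
  have hcard' : Nat.card H' = Nat.card K := (card_conj_map k H).trans hcard
  have hcop' : Nat.Coprime (Nat.card H') H'.index := by
    rw [hH', card_conj_map, show (H.map (MulAut.conj k).toMonoidHom).index = H.index from Subgroup.index_map_equiv H (MulAut.conj k)]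
    exact hcop
  -- both contain `P'` as a normal subgroup
  set N := Subgroup.normalizer ((P' : Subgroup G) : Set G) with hN
  have hKN : K ≤ N := by
    haveI := sylow_normal_of_isNilpotent T
    rw [hN, hP']
    refine le_trans ?_ (Subgroup.le_normalizer_map K.subtype)
    rw [Subgroup.normalizer_eq_top, ← MonoidHom.range_eq_map, Subgroup.range_subtype]
  have hHN : H' ≤ N := by
    haveI := sylow_normal_of_isNilpotent S
    rw [hN, ← hk, normalizer_map_conj, hP, hH']
    refine Subgroup.map_mono (le_trans ?_ (Subgroup.le_normalizer_map H.subtype))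
    rw [Subgroup.normalizer_eq_top, ← MonoidHom.range_eq_map, Subgroup.range_subtype]
  rcases ne_or_eq N ⊤ with hne | htop
  · have hlt : Nat.card N < n := hn ▸ lt_of_le_of_ne (Subgroup.card_le_card_group _)
      fun e => hne (Subgroup.eq_top_of_card_eq _ e)
    obtain ⟨g, hg⟩ := IH _ hlt rfl (H'.subgroupOf N) (K.subgroupOf N)
      ((Group.isNilpotent_congr (Subgroup.subgroupOfEquivOfLe hHN)).mpr hH'n)
      ((Group.isNilpotent_congr (Subgroup.subgroupOfEquivOfLe hKN)).mpr hK)
      (by rw [Nat.card_congr (Subgroup.subgroupOfEquivOfLe hHN).toEquiv,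
        Nat.card_congr (Subgroup.subgroupOfEquivOfLe hKN).toEquiv, hcard'])
      (by
        rw [Nat.card_congr (Subgroup.subgroupOfEquivOfLe hHN).toEquiv]
        exact hcop'.coprime_dvd_right (Subgroup.relIndex_dvd_index_of_le hHN))
    refine ⟨(g : G), ?_⟩
    have h2 := congrArg (Subgroup.map N.subtype) hg
    rw [Subgroup.map_map, Subgroup.map_subgroupOf_eq_of_le hKN] at h2
    have e : N.subtype.comp (MulAut.conj g).toMonoidHom =
        ((MulAut.conj (g : G)).toMonoidHom).comp N.subtype := rfl
    rw [e, ← Subgroup.map_map, Subgroup.map_subgroupOf_eq_of_le hHN] at h2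
    exact h2
  · haveI : (P' : Subgroup G).Normal := Subgroup.normalizer_eq_top_iff.mp htop
    set q := QuotientGroup.mk' (P' : Subgroup G) with hq
    have hle : (P' : Subgroup G) ≤ H' := by
      rw [← hk, hP, hH']
      refine Subgroup.map_mono ?_
      rintro _ ⟨x, -, rfl⟩
      exact x.2
    have hle' : (P' : Subgroup G) ≤ K := by
      rw [hP']
      rintro _ ⟨x, -, rfl⟩
      exact x.2
    have hPne : 1 < Nat.card (P' : Subgroup G) := by
      refine lt_of_lt_of_le hp.one_lt (Nat.le_of_dvd Nat.card_pos ?_)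
      exact P'.dvd_card_of_dvd_card (hpH.trans (Subgroup.card_subgroup_dvd_card H))
    have hlt : Nat.card (G ⧸ (P' : Subgroup G)) < n := by
      rw [← hn, Subgroup.card_eq_card_quotient_mul_card_subgroup (P' : Subgroup G)]
      exact lt_mul_of_one_lt_right Nat.card_pos hPne
    have hqs : Function.Surjective q := QuotientGroup.mk'_surjective _
    have hidxeq : ∀ L : Subgroup G, (P' : Subgroup G) ≤ L → (L.map q).index = L.index := fun L hL =>
      Subgroup.index_map_eq L hqs (by rwa [QuotientGroup.ker_mk'])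
    have hcardq : ∀ L : Subgroup G, (P' : Subgroup G) ≤ L → Nat.card (L.map q) * Nat.card (P' : Subgroup G) = Nat.card L := by
      intro L hL
      have e1 := (L.map q).card_mul_index
      have e2 := L.card_mul_index
      rw [hidxeq L hL] at e1
      have e3 := Subgroup.card_eq_card_quotient_mul_card_subgroup (P' : Subgroup G)
      rw [← e2, ← e1] at e3
      refine Nat.eq_of_mul_eq_mul_right (Nat.pos_of_ne_zero L.index_ne_zero_of_finite) ?_
      rw [e3]; ring
    obtain ⟨g, hg⟩ := IH _ hlt rfl (H'.map q) (K.map q)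
      (Group.nilpotent_of_surjective _ (q.subgroupMap_surjective H'))
      (Group.nilpotent_of_surjective _ (q.subgroupMap_surjective K))
      (Nat.eq_of_mul_eq_mul_right (Nat.card_pos (α := (P' : Subgroup G)))
        (by rw [hcardq H' hle, hcardq K hle', hcard']))
      (by
        rw [hidxeq H' hle]
        exact hcop'.coprime_dvd_left (Dvd.intro _ (hcardq H' hle)))
    obtain ⟨g, rfl⟩ := hqs g
    refine ⟨g, ?_⟩
    have e : ((MulAut.conj (q g)).toMonoidHom).comp q = q.comp (MulAut.conj g).toMonoidHom := by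
      ext x; simp
    rw [Subgroup.map_map, e, ← Subgroup.map_map] at hg
    have h2 := congrArg (Subgroup.comap q) hg
    rw [Subgroup.comap_map_eq_self, Subgroup.comap_map_eq_self] at h2
    · exact h2
    · rwa [QuotientGroup.ker_mk']
    · rw [QuotientGroup.ker_mk']
      rw [← map_conj_eq_self_iff.mpr (show g ∈ Subgroup.normalizer ((P' : Subgroup G) : Set G) by
        rw [← hN, htop]; trivial)]
      exact Subgroup.map_mono hle

/-- **Wielandt**: nilpotent Hall subgroups of the same order are conjugate. -/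
theorem exists_map_conj_eq_of_nilpotent_hall [Finite G] {H K : Subgroup G}
    [Group.IsNilpotent H] [Group.IsNilpotent K] (hcard : Nat.card H = Nat.card K)
    (hH : Nat.Coprime (Nat.card H) H.index) :
    ∃ g : G, H.map (MulAut.conj g).toMonoidHom = K :=
  exists_map_conj_eq_aux _ rfl H K inferInstance inferInstance hcard hH

/-- Burnside: a Hall subgroup central in its normalizer has a normal complement. -/
theorem exists_normal_complement_of_hall_central [Finite G] (H : Subgroup G)
    (hH : Nat.Coprime (Nat.card H) H.index)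
    (h : Subgroup.normalizer (H : Set G) ≤ Subgroup.centralizer (H : Set G)) :
    ∃ N : Subgroup G, N.Normal ∧ N.IsComplement' H := by
  have hcomm : ∀ a ∈ H, ∀ b ∈ H, a * b = b * a := fun a ha b hb =>
    Subgroup.mem_centralizer_iff.mp (h (Subgroup.le_normalizer hb)) a ha
  haveI : IsMulCommutative H := ⟨⟨fun a b => Subtype.ext (hcomm a a.2 b b.2)⟩⟩
  haveI : Group.IsNilpotent H := by
    letI : CommGroup H := { (inferInstance : Group H) with mul_comm := fun a b => Subtype.ext (hcomm a a.2 b b.2) }
    infer_instance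
  refine exists_normal_complement_of_no_fusion H hH fun x hx g hgx => ⟨1, H.one_mem, ?_⟩
  set y := g * x * g⁻¹ with hy
  set C := Subgroup.centralizer ({y} : Set G) with hC
  set H' := H.map (MulAut.conj g).toMonoidHom with hH'
  have hHC : H ≤ C := fun a ha => Subgroup.mem_centralizer_iff.mpr fun b hb => by
    rw [Set.mem_singleton_iff.mp hb]; exact hcomm _ hgx a ha
  have hH'C : H' ≤ C := by
    rintro _ ⟨a, ha, rfl⟩
    refine Subgroup.mem_centralizer_iff.mpr fun b hb => ?_
    rw [Set.mem_singleton_iff.mp hb, hy]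
    calc g * x * g⁻¹ * (g * a * g⁻¹) = g * (x * a) * g⁻¹ := by group
      _ = g * (a * x) * g⁻¹ := by rw [hcomm x hx a ha]
      _ = g * a * g⁻¹ * (g * x * g⁻¹) := by group
  haveI : Group.IsNilpotent (H'.subgroupOf C) :=
    (Group.isNilpotent_congr (Subgroup.subgroupOfEquivOfLe hH'C)).mpr
      ((Group.isNilpotent_congr (Subgroup.equivMapOfInjective H (MulAut.conj g).toMonoidHom (MulAut.conj g).injective)).mp inferInstance)
  haveI : Group.IsNilpotent (H.subgroupOf C) :=
    (Group.isNilpotent_congr (Subgroup.subgroupOfEquivOfLe hHC)).mpr inferInstance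
  obtain ⟨c, hc⟩ := exists_map_conj_eq_of_nilpotent_hall (H := H'.subgroupOf C)
    (K := H.subgroupOf C)
    (by rw [Nat.card_congr (Subgroup.subgroupOfEquivOfLe hHC).toEquiv,
      Nat.card_congr (Subgroup.subgroupOfEquivOfLe hH'C).toEquiv, hH', card_conj_map])
    (by
      rw [Nat.card_congr (Subgroup.subgroupOfEquivOfLe hH'C).toEquiv, hH', card_conj_map]
      refine hH.coprime_dvd_right ((Subgroup.relIndex_dvd_index_of_le hH'C).trans ?_)
      exact (dvd_of_eq (Subgroup.index_map_equiv H (MulAut.conj g))))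
  have h2 := congrArg (Subgroup.map C.subtype) hc
  have e : C.subtype.comp (MulAut.conj c).toMonoidHom =
      ((MulAut.conj (c : G)).toMonoidHom).comp C.subtype := rfl
  rw [Subgroup.map_map, e, ← Subgroup.map_map, Subgroup.map_subgroupOf_eq_of_le hH'C,
    Subgroup.map_subgroupOf_eq_of_le hHC, hH', map_conj_mul, map_conj_eq_self_iff] at h2
  have e3 := Subgroup.mem_centralizer_iff.mp (h h2) x hx
  have e4 := Subgroup.mem_centralizer_iff.mp c.2 y rfl
  calc (1 : G) * x * 1⁻¹ = (c * g * x) * ((c : G) * g)⁻¹ := by rw [← e3]; group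
    _ = ((c : G) * y) * (c : G)⁻¹ := by rw [hy]; group
    _ = y := by rw [← e4]; group

end CfsgLib.Transfer
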