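import Cfsg.Agent.Lib.Transfer.Sylow

/-!
# Alperin's fusion theorem

`Chain S A g` says that `g` is a product `x₁ ⋯ xₙ` such that the conjugation of the set `A` by `g`
(on the right) is performed step by step by elements `x` normalizing subgroups `D` with `S D x`.
-/

namespace CfsgLib.Transfer

set_option linter.style.haveILetI false

variable {G : Type*} [Group G] {p : ℕ}

/-- Right conjugate of a set. -/
def rconj (g : G) (A : Set G) : Set G := (fun a => g⁻¹ * a * g) '' A

theorem rconj_one (A : Set G) : rconj 1 A = A := by simp [rconj]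

theorem rconj_mul (g h : G) (A : Set G) : rconj (g * h) A = rconj h (rconj g A) := by
  simp only [rconj, Set.image_image]
  congr 1
  funext a
  group

theorem rconj_mono (g : G) {A B : Set G} (h : A ⊆ B) : rconj g A ⊆ rconj g B :=
  Set.image_mono h

theorem rconj_subset_iff {g : G} {A : Set G} {H : Subgroup G} :
    rconj g A ⊆ (H : Set G) ↔ A ⊆ (H.map (MulAut.conj g).toMonoidHom : Set G) := by
  constructor
  · intro h a ha
    rw [SetLike.mem_coe, mem_conj_map_iff]
    exact h ⟨a, ha, rfl⟩
  · rintro h _ ⟨a, ha, rfl⟩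
    exact mem_conj_map_iff.mp (h ha)

/-- `g` conjugates `A` step by step by elements `x` normalizing subgroups `D` with `S D x`. -/
inductive Chain (S : Subgroup G → G → Prop) : Set G → G → Prop
  | nil (A : Set G) : Chain S A 1
  | cons {A : Set G} {x h : G} (D : Subgroup G) (hS : S D x) (hx : x ∈ Subgroup.normalizer (D : Set G))
      (hA : A ⊆ (D : Set G)) (hc : Chain S (rconj x A) h) : Chain S A (x * h)

theorem Chain.mono {S : Subgroup G → G → Prop} {A B : Set G} {g : G} (h : Chain S A g) (hB : B ⊆ A) :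
    Chain S B g := by
  induction h generalizing B with
  | nil A => exact Chain.nil B
  | cons D hS hx hA _ ih => exact Chain.cons D hS hx (hB.trans hA) (ih (rconj_mono _ hB))

theorem Chain.mono_prop {S T : Subgroup G → G → Prop} (hST : ∀ D x, S D x → T D x) {A : Set G} {g : G}
    (h : Chain S A g) : Chain T A g := by
  induction h with
  | nil A => exact Chain.nil A
  | cons D hS hx hA _ ih => exact Chain.cons D (hST D _ hS) hx hA ih

theorem Chain.trans {S : Subgroup G → G → Prop} {A : Set G} {g h : G} (hg : Chain S A g)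
    (hh : Chain S (rconj g A) h) : Chain S A (g * h) := by
  induction hg with
  | nil A => rw [one_mul]; rwa [rconj_one] at hh
  | @cons A x k D hS hx hA _ ih =>
    rw [mul_assoc]
    refine Chain.cons D hS hx hA (ih ?_)
    rwa [← rconj_mul]

theorem card_rconj (g : G) (A : Set G) : Nat.card (rconj g A) = Nat.card A :=
  Nat.card_image_of_injective (fun a b h => by simpa using h) A

/-- Replace each step of a chain by a chain. -/
theorem Chain.bind {S T : Subgroup G → G → Prop} {A : Set G} {g : G} (h : Chain S A g)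
    (hstep : ∀ D x, S D x → x ∈ Subgroup.normalizer (D : Set G) →
      (∃ g' : G, rconj g' A ⊆ (D : Set G)) → Chain T (D : Set G) x) : Chain T A g := by
  induction h with
  | nil A => exact Chain.nil A
  | @cons A x k D hS hx hA _ ih =>
    refine ((hstep D x hS hx ⟨1, by rwa [rconj_one]⟩).mono hA).trans (ih fun D' x' h1 h2 h3 => ?_)
    obtain ⟨g', hg'⟩ := h3
    exact hstep D' x' h1 h2 ⟨x * g', by rwa [rconj_mul]⟩

theorem Chain.single {S : Subgroup G → G → Prop} {A : Set G} {x : G} (D : Subgroup G) (hS : S D x)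
    (hx : x ∈ Subgroup.normalizer (D : Set G)) (hA : A ⊆ (D : Set G)) : Chain S A x := by
  simpa using Chain.cons D hS hx hA (Chain.nil (S := S) (rconj x A))

/-- A chain as a finite sequence. -/
theorem Chain.exists_fin {S : Subgroup G → G → Prop} {A : Set G} {g : G} (h : Chain S A g) :
    ∃ (n : ℕ) (D : Fin n → Subgroup G) (x : Fin n → G), (List.ofFn x).prod = g ∧
      (∀ i, S (D i) (x i) ∧ x i ∈ Subgroup.normalizer (D i : Set G)) ∧
      ∀ i : Fin n, rconj ((List.ofFn x).take i.val).prod A ⊆ (D i : Set G) := by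
  induction h with
  | nil A => exact ⟨0, Fin.elim0, Fin.elim0, by simp, fun i => i.elim0, fun i => i.elim0⟩
  | @cons A x k D hS hx hA _ ih =>
    obtain ⟨n, E, y, hprod, hEy, hsub⟩ := ih
    refine ⟨n + 1, Fin.cons D E, Fin.cons x y, ?_, ?_, ?_⟩
    · simp [List.ofFn_succ, hprod]
    · intro i
      refine Fin.cases ?_ ?_ i
      · exact ⟨hS, hx⟩
      · intro j; simpa using hEy j
    · intro i
      refine Fin.cases ?_ ?_ i
      · simpa [rconj_one] using hA
      · intro j
        have := hsub j
        rw [← rconj_mul] at this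
        simpa [List.ofFn_succ] using this

/-- If each step acts on its subgroup like an element of `K`, then so does the whole chain. -/
theorem Chain.exists_mem {S : Subgroup G → G → Prop} {A : Set G} {g : G} (h : Chain S A g)
    (K : Subgroup G)
    (hstep : ∀ D x, S D x → x ∈ Subgroup.normalizer (D : Set G) →
      ∃ k ∈ K, ∀ a ∈ D, k⁻¹ * a * k = x⁻¹ * a * x) :
    ∃ k ∈ K, ∀ a ∈ A, k⁻¹ * a * k = g⁻¹ * a * g := by
  induction h with
  | nil A => exact ⟨1, K.one_mem, fun a _ => rfl⟩
  | @cons A x k D hS hx hA _ ih =>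
    obtain ⟨k₂, hk₂, h2⟩ := ih
    obtain ⟨k₁, hk₁, h1⟩ := hstep D x hS hx
    refine ⟨k₁ * k₂, K.mul_mem hk₁ hk₂, fun a ha => ?_⟩
    have e1 := h1 a (hA ha)
    have e2 := h2 (x⁻¹ * a * x) ⟨a, ha, rfl⟩
    calc (k₁ * k₂)⁻¹ * a * (k₁ * k₂) = k₂⁻¹ * (k₁⁻¹ * a * k₁) * k₂ := by group
      _ = k₂⁻¹ * (x⁻¹ * a * x) * k₂ := by rw [e1]
      _ = k⁻¹ * (x⁻¹ * a * x) * k := e2
      _ = _ := by group

/-- `D = P ⊓ Q` is a tame intersection of the Sylow subgroups `P` and `Q`. -/
def IsTameInter (P : Sylow p G) (D : Subgroup G) : Prop :=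
  ∃ Q : Sylow p G, D = (P : Subgroup G) ⊓ (Q : Subgroup G) ∧
    ¬ p ∣ ((P : Subgroup G) ⊓ Subgroup.normalizer (D : Set G)).relIndex
      (Subgroup.normalizer (D : Set G)) ∧
    ¬ p ∣ ((Q : Subgroup G) ⊓ Subgroup.normalizer (D : Set G)).relIndex
      (Subgroup.normalizer (D : Set G))

theorem isTameInter_self [Finite G] [Fact p.Prime] (P : Sylow p G) :
    IsTameInter P (P : Subgroup G) := by
  refine ⟨P, (inf_idem _).symm, ?_⟩
  rw [inf_eq_left.mpr Subgroup.le_normalizer, and_self]
  exact fun h => P.not_dvd_index (h.trans (Subgroup.relIndex_dvd_index_of_le Subgroup.le_normalizer))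

/-- For a `p`-subgroup `X` of `N`, some Sylow subgroup of `G` contains `X` and meets `N` in a
Sylow subgroup of `N`. -/
theorem exists_sylow_inf_not_dvd_relIndex [Finite G] [Fact p.Prime] {X N : Subgroup G}
    (hXN : X ≤ N) (hX : IsPGroup p X) :
    ∃ R : Sylow p G, X ≤ (R : Subgroup G) ∧ ¬ p ∣ ((R : Subgroup G) ⊓ N).relIndex N := by
  have hX' : IsPGroup p (X.subgroupOf N) := hX.comap_of_injective _ N.subtype_injective
  obtain ⟨S, hS⟩ := hX'.exists_le_sylow
  have hSp : IsPGroup p ((S : Subgroup N).map N.subtype) := S.2.map _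
  obtain ⟨R, hR⟩ := hSp.exists_le_sylow
  refine ⟨R, fun x hx => hR ⟨⟨x, hXN hx⟩, hS hx, rfl⟩, ?_⟩
  rw [Subgroup.inf_relIndex_right]
  intro h
  have h2 : (R : Subgroup G).relIndex N ∣ ((S : Subgroup N).map N.subtype).relIndex N :=
    Subgroup.relIndex_dvd_of_le_left N hR
  rw [Subgroup.relIndex, Subgroup.subgroupOf] at h2
  have h3 : (((S : Subgroup N).map N.subtype).comap N.subtype) = (S : Subgroup N) :=
    Subgroup.comap_map_eq_self_of_injective N.subtype_injective _
  change _ ∣ (((S : Subgroup N).map N.subtype).comap N.subtype).index at h2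
  rw [h3] at h2
  exact S.not_dvd_index (h.trans h2)

theorem card_conj_map (g : G) (H : Subgroup G) :
    Nat.card (H.map (MulAut.conj g).toMonoidHom : Subgroup G) = Nat.card H :=
  Subgroup.card_map_of_injective (MulAut.conj g).injective

theorem normalizer_map_conj (g : G) (H : Subgroup G) :
    Subgroup.normalizer ((H.map (MulAut.conj g).toMonoidHom : Subgroup G) : Set G) =
      (Subgroup.normalizer (H : Set G)).map (MulAut.conj g).toMonoidHom := by
  ext x
  rw [mem_conj_map_iff, ← map_conj_eq_self_iff, ← map_conj_eq_self_iff, map_conj_mul]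
  constructor
  · intro e
    have h := congrArg (Subgroup.map (MulAut.conj g⁻¹).toMonoidHom) e
    rw [map_conj_mul, map_conj_mul, inv_mul_cancel, map_conj_one] at h
    rw [mul_assoc]
    exact h
  · intro e
    have h := congrArg (Subgroup.map (MulAut.conj g).toMonoidHom) e
    rwa [map_conj_mul, ← mul_assoc, ← mul_assoc, mul_inv_cancel, one_mul] at h

/-- **Alperin's fusion theorem**, in the strongest set form. -/
theorem alperin [Finite G] [Fact p.Prime] (P : Sylow p G) (g : G) :
    Chain (fun D _ => IsTameInter P D)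
      (((P : Subgroup G) ⊓ (P : Subgroup G).map (MulAut.conj g).toMonoidHom : Subgroup G) : Set G)
      g := by
  suffices h : ∀ (d : ℕ) (g : G), Nat.card (P : Subgroup G) -
      Nat.card ↥((P : Subgroup G) ⊓ (P : Subgroup G).map (MulAut.conj g).toMonoidHom) = d →
      Chain (fun D _ => IsTameInter P D)
        (((P : Subgroup G) ⊓ (P : Subgroup G).map (MulAut.conj g).toMonoidHom : Subgroup G) : Set G)
        g from h _ g rfl
  intro d
  induction d using Nat.strong_induction_on with
  | _ d IH =>
  intro g hd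
  set D := (P : Subgroup G) ⊓ (P : Subgroup G).map (MulAut.conj g).toMonoidHom with hD
  -- recursion for every `k` whose intersection is larger than `D`
  have rec' : ∀ (k : G) (B : Subgroup G),
      B ≤ (P : Subgroup G) ⊓ (P : Subgroup G).map (MulAut.conj k).toMonoidHom →
      Nat.card D < Nat.card B → ∀ A : Set G, A ⊆ (B : Set G) → Chain (fun D _ => IsTameInter P D) A k := by
    intro k B hB hlt A hA
    refine (IH _ ?_ k rfl).mono (hA.trans hB)
    rw [← hd]
    have h1 := Subgroup.card_le_of_le hB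
    have h2 : Nat.card ↥((P : Subgroup G) ⊓ (P : Subgroup G).map (MulAut.conj k).toMonoidHom) ≤
        Nat.card (P : Subgroup G) := Subgroup.card_le_of_le inf_le_left
    omega
  have hDle : D ≤ (P : Subgroup G) := inf_le_left
  rcases hDle.eq_or_lt with hDP | hDP
  · refine Chain.single (P : Subgroup G) (isTameInter_self P) ?_ (SetLike.coe_subset_coe.mpr hDP.le)
    rw [← map_conj_eq_self_iff]
    refine (Subgroup.eq_of_le_of_card_ge ?_ (card_conj_map g _).le).symm
    exact hDP.symm.le.trans (hD.le.trans inf_le_right)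
  -- `h` moves `D` to a fully normalized `D'`
  have hDp : IsPGroup p D := P.2.to_le inf_le_left
  obtain ⟨R, hXR, hR⟩ := exists_sylow_inf_not_dvd_relIndex
    (N := Subgroup.normalizer (D : Set G))
    (inf_le_right : (P : Subgroup G) ⊓ Subgroup.normalizer (D : Set G) ≤ _)
    (P.2.to_le inf_le_left)
  obtain ⟨h, hh⟩ := exists_map_conj_sylow_eq P R
  have hlt1 := lt_inf_normalizer P.2 hDP
  have hstep1 : Chain (fun D _ => IsTameInter P D) (D : Set G) h :=
    rec' h ((P : Subgroup G) ⊓ Subgroup.normalizer (D : Set G))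
      (le_inf inf_le_left (hh ▸ hXR))
      (lt_of_le_of_ne (Subgroup.card_le_of_le hlt1.le)
        (fun e => hlt1.ne (Subgroup.eq_of_le_of_card_ge hlt1.le e.ge)))
      _ (SetLike.coe_subset_coe.mpr hlt1.le)
  set D' := D.map (MulAut.conj h⁻¹).toMonoidHom with hD'
  have hrD : rconj h (D : Set G) = (D' : Set G) := by
    ext z
    simp [rconj, hD']
  set g' := h⁻¹ * g with hg'
  have hgg : g = h * g' := by rw [hg']; group
  rw [hgg]
  refine hstep1.trans ?_
  rw [hrD]
  have hD'P : D' ≤ (P : Subgroup G) := by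
    intro x hx
    rw [mem_conj_map_iff, inv_inv] at hx
    have := hXR ⟨hDle hx, Subgroup.le_normalizer hx⟩
    rw [← hh, mem_conj_map_iff] at this
    simpa [mul_assoc] using this
  have hD'g : D' ≤ (P : Subgroup G).map (MulAut.conj g').toMonoidHom := by
    rw [hg', ← map_conj_mul]
    exact Subgroup.map_mono inf_le_right
  have hcard' : Nat.card D' = Nat.card D := card_conj_map _ _
  -- `P` meets `N(D')` in a Sylow subgroup
  have hfull : ¬ p ∣ ((P : Subgroup G) ⊓ Subgroup.normalizer (D' : Set G)).relIndex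
      (Subgroup.normalizer (D' : Set G)) := by
    have e1 : Subgroup.normalizer (D' : Set G) =
        (Subgroup.normalizer (D : Set G)).map (MulAut.conj h⁻¹).toMonoidHom :=
      normalizer_map_conj h⁻¹ D
    have e2 : (P : Subgroup G) = (R : Subgroup G).map (MulAut.conj h⁻¹).toMonoidHom := by
      rw [← hh, map_conj_mul, inv_mul_cancel, map_conj_one]
    rw [e1, e2, ← Subgroup.map_inf _ _ _ (MulAut.conj h⁻¹).injective,
      Subgroup.relIndex_map_map_of_injective _ _ (MulAut.conj h⁻¹).injective]
    exact hR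
  -- the conjugate `Q'` and a Sylow subgroup `Q` which is full in `N(D')`
  have hQ'p : IsPGroup p ((P : Subgroup G).map (MulAut.conj g').toMonoidHom) :=
    isPGroup_conj_map P.2 g'
  have hD'ne : D' < (P : Subgroup G).map (MulAut.conj g').toMonoidHom := by
    refine lt_of_le_of_ne hD'g fun e => hDP.ne ?_
    refine Subgroup.eq_of_le_of_card_ge hDP.le ?_
    rw [← hcard', e, card_conj_map]
  have hlt2 := lt_inf_normalizer hQ'p hD'ne
  set Y := (P : Subgroup G).map (MulAut.conj g').toMonoidHom ⊓ Subgroup.normalizer (D' : Set G)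
    with hY
  have hYp : IsPGroup p Y := hQ'p.to_le inf_le_left
  have hYcard : Nat.card D < Nat.card Y := by
    rw [← hcard']
    exact lt_of_le_of_ne (Subgroup.card_le_of_le hlt2.le)
      (fun e => hlt2.ne (Subgroup.eq_of_le_of_card_ge hlt2.le e.ge))
  obtain ⟨Q, hYQ, hQ⟩ := exists_sylow_inf_not_dvd_relIndex (N := Subgroup.normalizer (D' : Set G))
    (inf_le_right : Y ≤ _) hYp
  by_cases hPQ : D' = (P : Subgroup G) ⊓ (Q : Subgroup G)
  · -- tame: move `Y` into `P` inside `N(D')`
    have htame : IsTameInter P D' := ⟨Q, hPQ, hfull, hQ⟩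
    obtain ⟨m, hm, hmY⟩ := exists_conj_le_of_not_dvd_relIndex inf_le_right
      (P.2.to_le inf_le_left) hfull (inf_le_right : Y ≤ _) hYp
    have hgm : g' = m⁻¹ * (m * g') := by group
    rw [hgm]
    refine (Chain.single D' htame (Subgroup.inv_mem _ hm) subset_rfl).trans ?_
    have e : rconj m⁻¹ (D' : Set G) = (D' : Set G) := by
      conv_rhs => rw [← map_conj_eq_self_iff.mpr hm]
      ext z
      simp [rconj]
    rw [e]
    refine rec' (m * g') (Y.map (MulAut.conj m).toMonoidHom) (le_inf (hmY.trans inf_le_left) ?_)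
      (by rw [card_conj_map]; exact hYcard) _ ?_
    · rw [← map_conj_mul]
      exact Subgroup.map_mono inf_le_left
    · rw [SetLike.coe_subset_coe]
      conv_lhs => rw [← map_conj_eq_self_iff.mpr hm]
      exact Subgroup.map_mono hlt2.le
  · -- `P ⊓ Q` is larger: split `g' = k * (k⁻¹ * g')`
    obtain ⟨k, hk⟩ := exists_map_conj_sylow_eq P Q
    have hle : D' ≤ (P : Subgroup G) ⊓ (Q : Subgroup G) := le_inf hD'P (hlt2.le.trans hYQ)
    have hgk : g' = k * (k⁻¹ * g') := by group
    rw [hgk]
    refine (rec' k ((P : Subgroup G) ⊓ (Q : Subgroup G)) (by rw [hk]) ?_ _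
      (SetLike.coe_subset_coe.mpr hle)).trans ?_
    · rw [← hcard']
      exact lt_of_le_of_ne (Subgroup.card_le_of_le hle)
        (fun e => hPQ (Subgroup.eq_of_le_of_card_ge hle e.ge))
    · refine rec' (k⁻¹ * g') (Y.map (MulAut.conj k⁻¹).toMonoidHom) (le_inf ?_ ?_)
        (by rw [card_conj_map]; exact hYcard) _ ?_
      · refine (Subgroup.map_mono hYQ).trans (le_of_eq ?_)
        rw [← hk, map_conj_mul, inv_mul_cancel, map_conj_one]
      · rw [← map_conj_mul]
        exact Subgroup.map_mono inf_le_left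
      · rintro _ ⟨a, ha, rfl⟩
        refine ⟨a, hlt2.le ha, ?_⟩
        simp

/-- Alperin's theorem for a subset `A` of `P` with `g⁻¹ A g ⊆ P`. -/
theorem alperin_set [Finite G] [Fact p.Prime] (P : Sylow p G) {A : Set G} {g : G}
    (hA : A ⊆ ((P : Subgroup G) : Set G)) (hAg : rconj g A ⊆ ((P : Subgroup G) : Set G)) :
    Chain (fun D _ => IsTameInter P D) A g :=
  (alperin P g).mono (fun _ ha => ⟨hA ha, rconj_subset_iff.mp hAg ha⟩)

end CfsgLib.Transfer
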