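import Cfsg.Agent.Lib.Transfer.Focal
import Cfsg.Agent.Lib.Transfer.Alperin

/-!
# Frobenius' normal `p`-complement criterion
-/

namespace CfsgLib.Transfer

open scoped commutatorElement

set_option linter.style.haveILetI false

variable {G : Type*} [Group G] {p : ℕ}

/-- All `p'`-elements normalizing a `p`-subgroup centralize it. -/
def PAutomizers (p : ℕ) (G : Type*) [Group G] : Prop :=
  ∀ Q : Subgroup G, IsPGroup p Q → ∀ g ∈ Subgroup.normalizer (Q : Set G),
    (orderOf g).Coprime p → g ∈ Subgroup.centralizer (Q : Set G)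

theorem pAutomizers_of_sylow [Finite G] [Fact p.Prime] (P : Sylow p G)
    (h : ∀ Q : Subgroup G, Q ≤ (P : Subgroup G) → ∀ g ∈ Subgroup.normalizer (Q : Set G),
      (orderOf g).Coprime p → g ∈ Subgroup.centralizer (Q : Set G)) :
    PAutomizers p G := by
  intro Q hQ g hg hgc
  obtain ⟨k, hk⟩ := exists_map_conj_le_sylow hQ P
  have h1 := h _ hk (k * g * k⁻¹) ?_ (by rwa [orderOf_conj])
  · rw [Subgroup.mem_centralizer_iff] at h1 ⊢
    intro q hq
    have h2 := h1 (k * q * k⁻¹) (Subgroup.mem_map_of_mem _ hq)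
    calc q * g = k⁻¹ * (k * q * k⁻¹ * (k * g * k⁻¹)) * k := by group
      _ = k⁻¹ * (k * g * k⁻¹ * (k * q * k⁻¹)) * k := by rw [h2]
      _ = g * q := by group
  · rw [normalizer_map_conj]
    exact Subgroup.mem_map_of_mem _ hg

theorem pAutomizers_subgroup (h : PAutomizers p G) (K : Subgroup G) : PAutomizers p K := by
  intro Q hQ g hg hgc
  have h1 := h (Q.map K.subtype) (hQ.map _) (g : G)
    (Subgroup.le_normalizer_map K.subtype (Subgroup.mem_map_of_mem _ hg))
    (by rwa [Subgroup.orderOf_coe])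
  rw [Subgroup.mem_centralizer_iff] at h1 ⊢
  intro q hq
  exact Subtype.ext (h1 q (Subgroup.mem_map_of_mem _ hq))

/-- Under `PAutomizers`, fusion in a Sylow subgroup `P` is controlled by `P`. -/
theorem exists_mem_conj_eq_of_pAutomizers [Finite G] [Fact p.Prime] (h : PAutomizers p G)
    (P : Sylow p G) {A : Set G} {g : G} (hA : A ⊆ ((P : Subgroup G) : Set G))
    (hAg : rconj g A ⊆ ((P : Subgroup G) : Set G)) :
    ∃ k ∈ (P : Subgroup G), ∀ a ∈ A, k⁻¹ * a * k = g⁻¹ * a * g := by
  refine (alperin_set P hA hAg).exists_mem (P : Subgroup G) ?_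
  rintro D x ⟨Q, rfl, hP, -⟩ hx
  set D := (P : Subgroup G) ⊓ (Q : Subgroup G) with hD
  set N := Subgroup.normalizer (D : Set G) with hN
  have hS : IsPGroup p ((P : Subgroup G).subgroupOf N) :=
    P.2.comap_of_injective _ N.subtype_injective
  have hidx : ¬ p ∣ ((P : Subgroup G).subgroupOf N).index := by
    rwa [Subgroup.inf_relIndex_right] at hP
  haveI := pResidual_normal p N
  have hx' : (⟨x, hx⟩ : N) ∈ Cfsg.pResidual p N ⊔ ((hS.toSylow hidx : Sylow p N) : Subgroup N) := by
    rw [sup_comm, sylow_sup_pResidual]; trivial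
  obtain ⟨c, hc, s, hs, hcs⟩ := Subgroup.mem_sup_of_normal_left.mp hx'
  have hle : Cfsg.pResidual p N ≤ (Subgroup.centralizer (D : Set G)).subgroupOf N := by
    rw [Cfsg.pResidual, Subgroup.closure_le]
    intro y hy
    exact h D (P.2.to_le inf_le_left) y y.2 (by rwa [Subgroup.orderOf_coe])
  refine ⟨(s : G), hs, fun a ha => ?_⟩
  have hca : a * (c : G) = (c : G) * a := Subgroup.mem_centralizer_iff.mp (hle hc) a ha
  have hxeq : x = (c : G) * (s : G) := by rw [← Subgroup.coe_mul, hcs]
  calc (s : G)⁻¹ * a * (s : G) = (s : G)⁻¹ * ((c : G)⁻¹ * ((c : G) * a)) * s := by group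
    _ = (s : G)⁻¹ * ((c : G)⁻¹ * (a * c)) * s := by rw [hca]
    _ = x⁻¹ * a * x := by rw [hxeq]; group

/-- **Frobenius' normal `p`-complement theorem**. -/
theorem hasNormalPComplement_of_pAutomizers [Finite G] [Fact p.Prime] (h : PAutomizers p G) :
    Cfsg.HasNormalPComplement p G := by
  suffices key : ∀ (n : ℕ) (H : Subgroup G), Nat.card H = n → Cfsg.HasNormalPComplement p H from
    (hasNormalPComplement_congr Subgroup.topEquiv).mp (key _ ⊤ rfl)
  intro n
  induction n using Nat.strong_induction_on with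
  | _ n IH =>
  intro H hn
  obtain ⟨P⟩ := (inferInstance : Nonempty (Sylow p H))
  rcases eq_or_ne (P : Subgroup H) ⊥ with hP | hP
  · refine hasNormalPComplement_of_le_of_isPGroup_quotient ⊤ ?_
      (IsPGroup.of_card (n := 0) (by
        rw [← Subgroup.index_eq_card, Subgroup.index_top, pow_zero]))
    refine ((Fact.out : p.Prime).coprime_iff_not_dvd.mpr fun hd => ?_).symm
    rw [Subgroup.card_top] at hd
    exact P.ne_bot_of_dvd_card hd hP
  -- focal subgroup argument
  have hH := pAutomizers_subgroup h H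
  have hfoc : commutator H ⊓ (P : Subgroup H) = ⁅(P : Subgroup H), (P : Subgroup H)⁆ := by
    refine commutator_inf_sylow_eq_of_no_fusion P fun x hx y hy ⟨g, hg⟩ => ?_
    obtain ⟨k, hk, hk'⟩ := exists_mem_conj_eq_of_pAutomizers hH P (A := {x}) (g := g⁻¹)
      (Set.singleton_subset_iff.mpr hx)
      (by rintro _ ⟨a, rfl : a = x, rfl⟩; change g⁻¹⁻¹ * a * g⁻¹ ∈ (P : Subgroup H); rw [inv_inv, hg]; exact hy)
    refine ⟨k⁻¹, Subgroup.inv_mem _ hk, ?_⟩
    rw [inv_inv, hk' x rfl, inv_inv, hg]
  have hne : (Subgroup.transferFocal (P : Subgroup H)).ker ≠ ⊤ := by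
    intro htop
    have h1 := Subgroup.ker_transferFocal_inf_eq_focalSubgroup P
    rw [htop, top_inf_eq, ← Subgroup.commutator_inf_eq_focalSubgroup, hfoc] at h1
    haveI : Group.IsNilpotent (P : Subgroup H) := P.2.isNilpotent
    exact hP (eq_bot_of_le_commutator_self h1.le)
  have hres : Cfsg.pResidual p H ≠ ⊤ := fun e => hne (top_le_iff.mp (e ▸ le_ker_of_isPGroup
    (P.2.to_quotient _) (Subgroup.transferFocal (P : Subgroup H))))
  set K := Cfsg.pResidual p H with hK
  have hKc : Cfsg.HasNormalPComplement p K := by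
    refine (hasNormalPComplement_congr
      (Subgroup.equivMapOfInjective K H.subtype H.subtype_injective)).mpr (IH _ ?_ _ rfl)
    rw [Subgroup.card_map_of_injective H.subtype_injective, ← hn]
    exact lt_of_le_of_ne (Subgroup.card_le_card_group _)
      fun e => hres (Subgroup.eq_top_of_card_eq _ e)
  rw [hasNormalPComplement_iff_pResidual] at hKc ⊢
  have hle : K ≤ (Cfsg.pResidual p K).map K.subtype := by
    rw [hK, Cfsg.pResidual, Subgroup.closure_le]
    intro x hx
    refine ⟨⟨x, mem_pResidual_of_coprime hx⟩, mem_pResidual_of_coprime ?_, rfl⟩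
    rwa [← Subgroup.orderOf_coe]
  intro hp
  apply hKc
  rw [← Subgroup.card_map_of_injective K.subtype_injective]
  exact hp.trans (Subgroup.card_dvd_of_le hle)

/-- A normal `p`-complement forces `PAutomizers`. -/
theorem pAutomizers_of_hasNormalPComplement [Finite G] [Fact p.Prime]
    (h : Cfsg.HasNormalPComplement p G) : PAutomizers p G := by
  intro Q hQ g hg hgc
  haveI := pResidual_normal p G
  have hK := hasNormalPComplement_iff_pResidual.mp h
  rw [Subgroup.mem_centralizer_iff]
  intro q hq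
  have h1 : g * q * g⁻¹ * q⁻¹ ∈ Q :=
    Q.mul_mem ((Subgroup.mem_normalizer_iff.mp hg q).mp hq) (Q.inv_mem hq)
  have h2 : g * q * g⁻¹ * q⁻¹ ∈ Cfsg.pResidual p G := by
    have hgK := mem_pResidual_of_coprime (G := G) hgc
    have := Subgroup.mul_mem _ hgK
      (Subgroup.Normal.conj_mem inferInstance _ (Subgroup.inv_mem _ hgK) q)
    simpa [mul_assoc] using this
  obtain ⟨k, hk⟩ := IsPGroup.iff_orderOf.mp hQ ⟨_, h1⟩
  rw [← Subgroup.orderOf_coe] at hk
  have h3 : g * q * g⁻¹ * q⁻¹ = 1 := by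
    rw [← orderOf_eq_one_iff]
    rcases Nat.eq_zero_or_pos k with rfl | hk0
    · simpa using hk
    · exact absurd ((dvd_pow_self p hk0.ne').trans
        (hk.symm.dvd.trans ((Cfsg.pResidual p G).orderOf_dvd_natCard h2))) hK
  exact (mul_inv_eq_iff_eq_mul.mp (mul_inv_eq_one.mp h3)).symm

theorem pAutomizers_iff [Finite G] [Fact p.Prime] :
    PAutomizers p G ↔ Cfsg.HasNormalPComplement p G :=
  ⟨hasNormalPComplement_of_pAutomizers, pAutomizers_of_hasNormalPComplement⟩

/-- Local form of Frobenius' theorem. -/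
theorem hasNormalPComplement_of_normalizers [Finite G] [Fact p.Prime]
    (h : ∀ Q : Subgroup G, IsPGroup p Q → Q ≠ ⊥ →
      Cfsg.HasNormalPComplement p (Subgroup.normalizer (Q : Set G))) :
    Cfsg.HasNormalPComplement p G := by
  refine hasNormalPComplement_of_pAutomizers fun Q hQ g hg hgc => ?_
  rcases eq_or_ne Q ⊥ with rfl | hQ1
  · rw [Subgroup.mem_centralizer_iff]
    intro q hq
    rw [SetLike.mem_coe, Subgroup.mem_bot] at hq
    rw [hq, one_mul, mul_one]
  · set N := Subgroup.normalizer (Q : Set G) with hN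
    have := pAutomizers_of_hasNormalPComplement (h Q hQ hQ1) (Q.subgroupOf N)
      (hQ.comap_of_injective _ N.subtype_injective) ⟨g, hg⟩ ?_
      (by rwa [← Subgroup.orderOf_coe])
    · rw [Subgroup.mem_centralizer_iff] at this ⊢
      intro q hq
      exact congrArg Subtype.val (this ⟨q, Subgroup.le_normalizer hq⟩ hq)
    · rw [Subgroup.mem_normalizer_iff]
      intro y
      exact Subgroup.mem_normalizer_iff.mp hg y

/-- If fusion of elements of a Sylow subgroup `P` is controlled by `P`, there is a normal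
`p`-complement. -/
theorem hasNormalPComplement_of_no_fusion [Finite G] [Fact p.Prime] (P : Sylow p G)
    (h : ∀ x ∈ (P : Subgroup G), ∀ g : G, g * x * g⁻¹ ∈ (P : Subgroup G) →
      ∃ z ∈ (P : Subgroup G), z * x * z⁻¹ = g * x * g⁻¹) :
    Cfsg.HasNormalPComplement p G := by
  refine hasNormalPComplement_of_pAutomizers (pAutomizers_of_sylow P fun Q hQP g hg hgc => ?_)
  haveI : Group.IsNilpotent (P : Subgroup G) := P.2.isNilpotent
  obtain ⟨c, hc⟩ := Group.IsNilpotent.nilpotent (G := (P : Subgroup G))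
  suffices key : ∀ i : ℕ, ∀ a : G, a ∈ Q →
      a ∈ (Subgroup.upperCentralSeries (P : Subgroup G) i).map (P : Subgroup G).subtype →
      g * a * g⁻¹ = a by
    rw [Subgroup.mem_centralizer_iff]
    intro a ha
    refine (mul_inv_eq_iff_eq_mul.mp (key c a ha ?_)).symm
    exact ⟨⟨a, hQP ha⟩, by rw [hc]; trivial, rfl⟩
  intro i
  induction i with
  | zero =>
    intro a _ ha
    rw [Subgroup.upperCentralSeries_zero, Subgroup.map_bot, Subgroup.mem_bot] at ha
    simp [ha]
  | succ i IH =>
    intro a haQ ha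
    obtain ⟨⟨a', ha'⟩, haZ, rfl⟩ := ha
    change g * a' * g⁻¹ = a'
    change a' ∈ Q at haQ
    have hgaQ := (Subgroup.mem_normalizer_iff.mp hg a').mp haQ
    obtain ⟨z, hz, hza⟩ := h a' ha' g (hQP hgaQ)
    set w := g * a' * g⁻¹ * a'⁻¹ with hw
    have hwQ : w ∈ Q := Q.mul_mem hgaQ (Q.inv_mem haQ)
    have hwZ : w ∈ (Subgroup.upperCentralSeries (P : Subgroup G) i).map
        (P : Subgroup G).subtype := by
      have h2 := Subgroup.mem_upperCentralSeries_succ_iff.mp haZ ⟨z, hz⟩
      refine ⟨⟨w, hQP hwQ⟩, ?_, rfl⟩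
      have h3 := (Subgroup.upperCentralSeries (P : Subgroup G) i).inv_mem h2
      have e : (⟨w, hQP hwQ⟩ : (P : Subgroup G)) =
          ⁅(⟨a', ha'⟩ : (P : Subgroup G)), ⟨z, hz⟩⁆⁻¹ := by
        apply Subtype.ext
        simp [hw, ← hza, commutatorElement_def, mul_assoc]
      rw [SetLike.mem_coe, e]
      exact h3
    have hfix := IH w hwQ hwZ
    have hpow : ∀ m : ℕ, g ^ m * a' * (g ^ m)⁻¹ = w ^ m * a' := by
      intro m
      induction m with
      | zero => simp
      | succ m ihm =>
        calc g ^ (m + 1) * a' * (g ^ (m + 1))⁻¹ = g * (g ^ m * a' * (g ^ m)⁻¹) * g⁻¹ := by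
              rw [pow_succ']; group
          _ = (g * w * g⁻¹) ^ m * (g * a' * g⁻¹) := by rw [ihm, conj_pow]; group
          _ = w ^ m * (w * a') := by
              have hga : g * a' * g⁻¹ = w * a' := by rw [hw]; group
              rw [hfix, hga]
          _ = w ^ (m + 1) * a' := by rw [pow_succ, mul_assoc (w ^ m)]
    have h1 := hpow (orderOf g)
    rw [pow_orderOf_eq_one, one_mul, inv_one, mul_one] at h1
    have h2 : w ^ orderOf g = 1 := by simpa using h1.symm
    obtain ⟨k, hk⟩ := IsPGroup.iff_orderOf.mp (P.2.to_le hQP) ⟨w, hwQ⟩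
    rw [← Subgroup.orderOf_coe] at hk
    have h3 : w = 1 := by
      rw [← orderOf_eq_one_iff]
      refine Nat.eq_one_of_dvd_coprimes hgc (orderOf_dvd_of_pow_eq_one h2) ?_
      rcases Nat.eq_zero_or_pos k with rfl | hk0
      · simp [hk]
      · exfalso
        exact (Fact.out : p.Prime).ne_one (Nat.eq_one_of_dvd_coprimes hgc
          ((dvd_pow_self p hk0.ne').trans (hk.symm.dvd.trans (orderOf_dvd_of_pow_eq_one h2)))
          dvd_rfl)
    exact mul_inv_eq_one.mp h3

end CfsgLib.Transfer
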