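import Mathlib
import Cfsg.Prelude.Def_Transfer
import Cfsg.Prelude.Def_PLocal
import Cfsg.Agent.Lib.Coprime.Action

/-!
The Thompson subgroup with an exponent parameter: `thompsonJ e P` is generated by the abelian
subgroups of exponent dividing `e` of largest order in `P` (`e = p`: elementary abelian ones,
`e = 0`: all abelian ones).
-/

set_option autoImplicit false
set_option linter.style.haveILetI false

namespace CfsgLib.Transfer

variable {G : Type*} [Group G]

/-- Abelian of exponent dividing `e`. -/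
def IsAbExp (e : ℕ) (A : Subgroup G) : Prop :=
  IsMulCommutative A ∧ ∀ a ∈ A, a ^ e = 1

/-- The subgroups of `P` of largest order among those abelian of exponent dividing `e`. -/
def maxAbExp (e : ℕ) (P : Subgroup G) : Set (Subgroup G) :=
  {A | A ≤ P ∧ IsAbExp e A ∧ ∀ B : Subgroup G, B ≤ P → IsAbExp e B → Nat.card B ≤ Nat.card A}

/-- The Thompson subgroup of `P` for the exponent `e`. -/
def thompsonJ (e : ℕ) (P : Subgroup G) : Subgroup G :=
  sSup (maxAbExp e P)

theorem thompsonJ_le (e : ℕ) (P : Subgroup G) : thompsonJ e P ≤ P :=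
  sSup_le fun _ h => h.1

theorem isAbExp_map_iff {G' : Type*} [Group G'] (e : ℕ) (f : G →* G') {A : Subgroup G}
    (hf : Set.InjOn f (A : Set G)) : IsAbExp e (A.map f) ↔ IsAbExp e A := by
  constructor
  · rintro ⟨hc, he⟩
    refine ⟨⟨⟨fun a b => Subtype.ext (hf (mul_mem a.2 b.2) (mul_mem b.2 a.2) ?_)⟩⟩, fun a ha =>
      hf (pow_mem ha e) (one_mem A) ?_⟩
    · show f ((a : G) * b) = f ((b : G) * a)
      rw [map_mul, map_mul]
      exact congrArg Subtype.val (mul_comm' (⟨f a, a, a.2, rfl⟩ : A.map f) ⟨f b, b, b.2, rfl⟩)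
    · rw [map_pow, map_one]
      exact he _ ⟨a, ha, rfl⟩
  · rintro ⟨hc, he⟩
    refine ⟨⟨⟨?_⟩⟩, ?_⟩
    · rintro ⟨_, a, ha, rfl⟩ ⟨_, b, hb, rfl⟩
      refine Subtype.ext ?_
      show f a * f b = f b * f a
      rw [← map_mul, ← map_mul]
      exact congrArg (fun t : A => f t) (mul_comm' (⟨a, ha⟩ : A) ⟨b, hb⟩)
    · rintro _ ⟨a, ha, rfl⟩
      rw [← map_pow, he a ha, map_one]

theorem card_map_of_injOn {G' : Type*} [Group G'] (f : G →* G') {A : Subgroup G}
    (hf : Set.InjOn f (A : Set G)) : Nat.card (A.map f) = Nat.card A :=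
  (Nat.card_congr (Equiv.ofBijective (f.subgroupMap A)
    ⟨fun a b h => Subtype.ext (hf a.2 b.2 (congrArg Subtype.val h :)),
      f.subgroupMap_surjective A⟩)).symm

/-- The construction commutes with homomorphisms injective on `P`. -/
theorem map_thompsonJ {G' : Type*} [Group G'] (e : ℕ) (f : G →* G') {P : Subgroup G}
    (hf : Set.InjOn f (P : Set G)) : (thompsonJ e P).map f = thompsonJ e (P.map f) := by
  have hback : ∀ B : Subgroup G', B ≤ P.map f → ∃ A ≤ P, A.map f = B := fun B hB =>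
    ⟨P ⊓ B.comap f, inf_le_left, le_antisymm (Subgroup.map_le_iff_le_comap.mpr inf_le_right)
      fun b hb => by
        obtain ⟨a, ha, rfl⟩ := hB hb
        exact ⟨a, ⟨ha, hb⟩, rfl⟩⟩
  have hinj : ∀ A : Subgroup G, A ≤ P → Set.InjOn f (A : Set G) := fun A hA => hf.mono hA
  refine le_antisymm ?_ (sSup_le ?_)
  · rw [Subgroup.map_le_iff_le_comap]
    refine sSup_le fun A hA => ?_
    obtain ⟨hAP, hAe, hmax⟩ := hA
    rw [← Subgroup.map_le_iff_le_comap]
    refine le_sSup ⟨Subgroup.map_mono hAP, (isAbExp_map_iff e f (hinj A hAP)).mpr hAe,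
      fun B hB hBe => ?_⟩
    obtain ⟨C, hC, rfl⟩ := hback B hB
    rw [card_map_of_injOn f (hinj A hAP), card_map_of_injOn f (hinj C hC)]
    exact hmax C hC ((isAbExp_map_iff e f (hinj C hC)).mp hBe)
  · rintro B ⟨hB, hBe, hmax⟩
    obtain ⟨A, hA, rfl⟩ := hback B hB
    refine Subgroup.map_mono (le_sSup ⟨hA, (isAbExp_map_iff e f (hinj A hA)).mp hBe,
      fun C hC hCe => ?_⟩)
    have h := hmax (C.map f) (Subgroup.map_mono hC) ((isAbExp_map_iff e f (hinj C hC)).mpr hCe)
    rwa [card_map_of_injOn f (hinj A hA), card_map_of_injOn f (hinj C hC)] at h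

theorem thompsonSubgroupOf_eq (p : ℕ) (P : Subgroup G) :
    Cfsg.thompsonSubgroupOf p P = thompsonJ p P := by
  have h1 : Cfsg.thompsonSubgroup p P = thompsonJ p (⊤ : Subgroup P) := by
    unfold Cfsg.thompsonSubgroup thompsonJ
    congr 1
    ext A
    simp [Cfsg.maxElementaryAbelianSubgroups, maxAbExp, Cfsg.IsElementaryAbelian, IsAbExp]
  rw [Cfsg.thompsonSubgroupOf, h1, map_thompsonJ p P.subtype (fun a _ b _ h => Subtype.ext h),
    ← MonoidHom.range_eq_map, Subgroup.range_subtype]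

theorem thompsonSubgroupAOf_eq (P : Subgroup G) :
    Cfsg.thompsonSubgroupAOf P = thompsonJ 0 P := by
  have h1 : Cfsg.thompsonSubgroupA P = thompsonJ 0 (⊤ : Subgroup P) := by
    unfold Cfsg.thompsonSubgroupA thompsonJ
    congr 1
    ext A
    simp [Cfsg.maxAbelianSubgroups, maxAbExp, IsAbExp]
  rw [Cfsg.thompsonSubgroupAOf, h1, map_thompsonJ 0 P.subtype (fun a _ b _ h => Subtype.ext h),
    ← MonoidHom.range_eq_map, Subgroup.range_subtype]

theorem normalizer_le_normalizer_thompsonJ (e : ℕ) (P : Subgroup G) :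
    Subgroup.normalizer (P : Set G) ≤ Subgroup.normalizer (thompsonJ e P : Set G) := by
  intro g hg
  rw [Coprime.mem_normalizer_iff_conj_smul, Subgroup.pointwise_smul_def] at *
  exact (map_thompsonJ e _ (MulEquiv.injective (MulAut.conj g)).injOn).trans (congrArg _ hg)

theorem thompsonJ_nonempty [Finite G] (e : ℕ) (P : Subgroup G) :
    (maxAbExp e P).Nonempty := by
  classical
  haveI := Fintype.ofFinite (Subgroup G)
  obtain ⟨A, hA, hmax⟩ := Finset.exists_max_image
    (Finset.univ.filter fun A : Subgroup G => A ≤ P ∧ IsAbExp e A) (fun A => Nat.card A)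
    ⟨⊥, Finset.mem_filter.mpr ⟨Finset.mem_univ _, bot_le, inferInstance,
      fun a ha => by rw [Subgroup.mem_bot.mp ha, one_pow]⟩⟩
  simp only [Finset.mem_filter, Finset.mem_univ, true_and] at hA hmax
  exact ⟨A, hA.1, hA.2, fun B hB hBe => hmax B ⟨hB, hBe⟩⟩

theorem thompsonJ_ne_bot [Finite G] {p : ℕ} [Fact p.Prime] {e : ℕ} (he : p ∣ e)
    {P : Subgroup G} (hP : IsPGroup p P) (hP1 : P ≠ ⊥) : thompsonJ e P ≠ ⊥ := by
  haveI : Nontrivial P := (Subgroup.nontrivial_iff_ne_bot _).mpr hP1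
  obtain ⟨n, hn0, hn⟩ := hP.nontrivial_iff_card.mp inferInstance
  obtain ⟨x, hx⟩ := exists_prime_orderOf_dvd_card' (G := P) p (hn ▸ dvd_pow_self p hn0.ne')
  rw [← Subgroup.orderOf_coe] at hx
  obtain ⟨A, hA⟩ := thompsonJ_nonempty e P
  intro h
  have hA1 : A = ⊥ := le_bot_iff.mp (h ▸ le_sSup hA)
  have := hA.2.2 (Subgroup.zpowers (x : G)) (Subgroup.zpowers_le.mpr x.2)
    ⟨inferInstance, fun a ha => orderOf_dvd_iff_pow_eq_one.mp
      ((orderOf_dvd_of_mem_zpowers ha).trans (hx ▸ he))⟩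
  rw [hA1, Subgroup.card_bot, Nat.card_zpowers, hx] at this
  exact absurd this (not_le.mpr (Fact.out : p.Prime).one_lt)

end CfsgLib.Transfer
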