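import Mathlib
import Cfsg.Agent.Lib.Offender.Basic
import Cfsg.Agent.Lib.Offender.Involves
import Cfsg.Agent.Lib.Transfer.ThompsonJ
import Cfsg.Agent.Lib.Transfer.Frobenius
import Cfsg.Agent.Lib.Transfer.Sylow
import Cfsg.Agent.Lib.PSolvable.Core

/-!
Thompson's normal `p`-complement theorem: if `N(J(S))` and `C(Z(S))` have normal `p`-complements,
so has `G`, unless `p = 2` and `S₄` is involved. `J` is the Thompson subgroup of exponent `e`,
`p ∣ e`.
-/

set_option autoImplicit false
set_option linter.style.haveILetI false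

namespace CfsgLib.Transfer

universe u

variable {G : Type*} [Group G] {p : ℕ} [hp : Fact p.Prime] {e : ℕ}

/-- The two local hypotheses of Thompson's theorem. -/
def ThompsonHyp (p e : ℕ) (S : Subgroup G) : Prop :=
  Cfsg.HasNormalPComplement p ↥(Subgroup.normalizer (thompsonJ e S : Set G)) ∧
    Cfsg.HasNormalPComplement p
      ↥(Subgroup.centralizer ((S ⊓ Subgroup.centralizer (S : Set G) : Subgroup G) : Set G))

theorem hasNPC_of_le [Finite G] {H K : Subgroup G} (h : H ≤ K)
    (hK : Cfsg.HasNormalPComplement p K) : Cfsg.HasNormalPComplement p H :=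
  hasNormalPComplement_of_injective (Subgroup.inclusion h) (Subgroup.inclusion_injective h) hK

theorem hasNPC_top [Finite G] :
    Cfsg.HasNormalPComplement p (⊤ : Subgroup G) ↔ Cfsg.HasNormalPComplement p G :=
  hasNormalPComplement_congr Subgroup.topEquiv

theorem map_centerOf {G' : Type*} [Group G'] (f : G →* G') {P : Subgroup G}
    (hf : Set.InjOn f (P : Set G)) :
    (P ⊓ Subgroup.centralizer (P : Set G)).map f
      = P.map f ⊓ Subgroup.centralizer ((P.map f : Subgroup G') : Set G') := by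
  refine le_antisymm ?_ ?_
  · rintro _ ⟨z, hz, rfl⟩
    refine ⟨⟨z, hz.1, rfl⟩, ?_⟩
    rintro _ ⟨q, hq, rfl⟩
    rw [← map_mul, ← map_mul, hz.2 q hq]
  · rintro _ ⟨⟨z, hz, rfl⟩, hc⟩
    refine ⟨z, ⟨hz, fun q hq => hf (mul_mem hq hz) (mul_mem hz hq) ?_⟩, rfl⟩
    rw [map_mul, map_mul]
    exact hc _ ⟨q, hq, rfl⟩

theorem thompsonHyp_of_map [Finite G] {H : Type*} [Group H] [Finite H] (f : H →* G)
    (hf : Function.Injective f) {T : Subgroup H} (h : ThompsonHyp p e (T.map f)) :
    ThompsonHyp p e T := by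
  have key : ∀ (X : Subgroup H) (Y : Subgroup G), X.map f ≤ Y →
      Cfsg.HasNormalPComplement p Y → Cfsg.HasNormalPComplement p X := fun X Y hXY hY =>
    hasNormalPComplement_of_injective ((Subgroup.inclusion hXY).comp (f.subgroupMap X))
      ((Subgroup.inclusion_injective hXY).comp fun a b h => Subtype.ext
        (hf (congrArg Subtype.val h :))) hY
  obtain ⟨h1, h2⟩ := h
  rw [← map_thompsonJ e f hf.injOn] at h1
  rw [← map_centerOf f hf.injOn] at h2
  refine ⟨key _ _ (Subgroup.le_normalizer_map f) h1, key _ _ ?_ h2⟩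
  rintro _ ⟨c, hc, rfl⟩ _ ⟨z, hz, rfl⟩
  rw [← map_mul, ← map_mul, hc z hz]

theorem thompsonHyp_sylow [Finite G] (S S' : Sylow p G) (h : ThompsonHyp p e (S : Subgroup G)) :
    ThompsonHyp p e (S' : Subgroup G) := by
  obtain ⟨g, hg⟩ := exists_map_conj_sylow_eq S' S
  exact thompsonHyp_of_map (MulAut.conj g).toMonoidHom (MulAut.conj g).injective (hg ▸ h)

/-- An extension by a normal `p'`-subgroup keeps normal `p`-complements. -/
theorem hasNPC_of_ker [Finite G] {Q : Type*} [Group Q] (f : G →* Q) (hf : Function.Surjective f)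
    (hker : (Nat.card f.ker).Coprime p) (h : Cfsg.HasNormalPComplement p Q) :
    Cfsg.HasNormalPComplement p G := by
  haveI : Finite Q := Finite.of_surjective f hf
  haveI := pResidual_normal p Q
  have hM := hasNormalPComplement_iff_pResidual.mp h
  haveI := (pResidual_normal p Q).comap f
  refine hasNormalPComplement_of_le_of_isPGroup_quotient ((Cfsg.pResidual p Q).comap f) ?_ ?_
  · rw [PSolvable.card_comap_of_surjective hf]
    exact Nat.Coprime.mul_left hker (hp.out.coprime_iff_not_dvd.mpr hM).symm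
  · have hq : IsPGroup p (Q ⧸ Cfsg.pResidual p Q) := isPGroup_quotient_pResidual
    refine hq.of_injective
      (QuotientGroup.map _ _ f le_rfl) ?_
    rw [← MonoidHom.ker_eq_bot_iff, QuotientGroup.ker_map, QuotientGroup.map_mk'_self]

/-- A normal `p`-complement of a subgroup `H`, seen in `G`. -/
theorem exists_complement_in [Finite G] {H : Subgroup G} (h : Cfsg.HasNormalPComplement p H) :
    ∃ M ≤ H, H ≤ Subgroup.normalizer (M : Set G) ∧ (Nat.card M).Coprime p ∧
      (M = ⊥ → IsPGroup p H) := by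
  haveI := pResidual_normal p H
  refine ⟨(Cfsg.pResidual p H).map H.subtype, Subgroup.map_subtype_le _, ?_, ?_, ?_⟩
  · calc H = (⊤ : Subgroup H).map H.subtype := by
          rw [← MonoidHom.range_eq_map, Subgroup.range_subtype]
      _ ≤ _ := by
          rw [← Subgroup.normalizer_eq_top (Cfsg.pResidual p H)]
          exact Subgroup.le_normalizer_map _
  · rw [Subgroup.card_map_of_injective H.subtype_injective]
    exact (hp.out.coprime_iff_not_dvd.mpr (hasNormalPComplement_iff_pResidual.mp h)).symm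
  · intro hM
    have hM' : Cfsg.pResidual p H = ⊥ :=
      (Subgroup.map_eq_bot_iff_of_injective _ H.subtype_injective).mp hM
    have hq : IsPGroup p (H ⧸ Cfsg.pResidual p H) := isPGroup_quotient_pResidual
    refine hq.of_injective (QuotientGroup.mk' _) ?_
    rw [← MonoidHom.ker_eq_bot_iff, QuotientGroup.ker_mk', hM']

/-- Over a normal `p`-subgroup containing its centralizer only `p`-groups have normal
`p`-complements. -/
theorem isPGroup_of_hasNPC [Finite G] {U H : Subgroup G} [U.Normal] (hU : IsPGroup p U)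
    (hCU : Subgroup.centralizer (U : Set G) ≤ U) (hUH : U ≤ H)
    (h : Cfsg.HasNormalPComplement p H) : IsPGroup p H := by
  obtain ⟨M, hMH, hHM, hM, hbot⟩ := exists_complement_in h
  refine hbot (eq_bot_iff.mpr fun m hm => ?_)
  have hd : M ⊓ U = ⊥ :=
    Coprime.inf_eq_bot_of_coprime_card (PSolvable.coprime_card_of_isPGroup hU hM).symm
  have h1 : m ∈ Subgroup.centralizer (U : Set G) := Coprime.commute_of_mem_normalizer
    (hUH.trans hHM) hd hm (by rw [Subgroup.normalizer_eq_top]; trivial)
  rw [Subgroup.mem_bot]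
  exact PSolvable.eq_one_of_mem_of_mem hU hM (hCU h1) hm

/-- The size of a Sylow `p`-subgroup of `N`. -/
noncomputable def sylowCard (p : ℕ) (N : Subgroup G) : ℕ :=
  Nat.card ((default : Sylow p N) : Subgroup N)

theorem card_le_sylowCard [Finite G] {X N : Subgroup G} (hX : IsPGroup p X) (h : X ≤ N) :
    Nat.card X ≤ sylowCard p N := by
  obtain ⟨T, hT⟩ := (hX.comap_of_injective N.subtype N.subtype_injective).exists_le_sylow
  rw [← Nat.card_congr (Subgroup.subgroupOfEquivOfLe h).toEquiv, sylowCard,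
    (default : Sylow p N).card_eq_multiplicity, ← T.card_eq_multiplicity]
  exact Subgroup.card_le_of_le hT

theorem sylowCard_le [Finite G] (N : Subgroup G) (S : Sylow p G) :
    sylowCard p N ≤ Nat.card (S : Subgroup G) := by
  obtain ⟨S', hS'⟩ := ((default : Sylow p N).2.map N.subtype).exists_le_sylow
  rw [sylowCard, ← Subgroup.card_map_of_injective N.subtype_injective,
    S.card_eq_multiplicity, ← S'.card_eq_multiplicity]
  exact Subgroup.card_le_of_le hS'

theorem sup_sylow_eq_top [Finite G] (S : Sylow p G) :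
    Cfsg.pResidual p G ⊔ (S : Subgroup G) = ⊤ := by
  rw [sup_comm]; exact sylow_sup_pResidual S

/-- The end of the proof: the constrained configuration gives an offender. -/
theorem involves_of_constrained [Finite G] (he : p ∣ e) {U : Subgroup G} [U.Normal]
    (hU : IsPGroup p U) (hU1 : U ≠ ⊥) (hCU : Subgroup.centralizer (U : Set G) ≤ U)
    (S : Sylow p G) (hyp : ThompsonHyp p e (S : Subgroup G))
    (hG : ¬ Cfsg.HasNormalPComplement p G) (Kb : Subgroup (G ⧸ U)) [Kb.Normal]
    (hKc : (Nat.card Kb).Coprime p) (hKab : ∀ x ∈ Kb, ∀ y ∈ Kb, x * y = y * x) (hK1 : Kb ≠ ⊥)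
    (hKmin : ∀ L ≤ Kb, L.Normal → L = ⊥ ∨ L = Kb)
    (hfaith : Subgroup.centralizer (Kb : Set (G ⧸ U)) ≤ Kb) :
    p = 2 ∧ Cfsg.Involves (Equiv.Perm (Fin 4)) G := by
  classical
  set π := QuotientGroup.mk' U with hπ
  have hπs : Function.Surjective π := QuotientGroup.mk'_surjective U
  have hUS : U ≤ (S : Subgroup G) := by
    have h := (S.3 (hU.to_sup_of_normal_left S.2) le_sup_right)
    exact le_sup_left.trans h.le
  have hZU : (S : Subgroup G) ⊓ Subgroup.centralizer ((S : Subgroup G) : Set G) ≤ U :=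
    fun z hz => hCU fun u hu => hz.2 u (hUS hu)
  have hCZ : IsPGroup p ↥(Subgroup.centralizer
      (((S : Subgroup G) ⊓ Subgroup.centralizer ((S : Subgroup G) : Set G) : Subgroup G) : Set G)) :=
    isPGroup_of_hasNPC hU hCU (fun u hu z hz => (hz.2 u (hUS hu)).symm) hyp.2
  -- an offender outside `U`
  obtain ⟨A, hA, hAU⟩ : ∃ A ∈ maxAbExp e (S : Subgroup G), ¬ A ≤ U := by
    by_contra hne
    push Not at hne
    have hJ : thompsonJ e (S : Subgroup G) = thompsonJ e U := by
      unfold thompsonJ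
      congr 1
      ext B
      refine ⟨fun hB => ⟨hne B hB, hB.2.1, fun C hC => hB.2.2 C (hC.trans hUS)⟩, fun hB => ?_⟩
      obtain ⟨C, hC⟩ := thompsonJ_nonempty e (S : Subgroup G)
      exact ⟨hB.1.trans hUS, hB.2.1, fun D hD hDe =>
        (hC.2.2 D hD hDe).trans (hB.2.2 C (hne C hC) hC.2.1)⟩
    refine hG (hasNPC_top.mp (hasNPC_of_le ?_ hyp.1))
    rw [hJ, ← Subgroup.normalizer_eq_top U]
    exact normalizer_le_normalizer_thompsonJ e U
  haveI : IsMulCommutative A := hA.2.1.1
  -- the module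
  let Vs : Subgroup G :=
    { carrier := {v | v ∈ U ∧ v ∈ Subgroup.centralizer (U : Set G) ∧ v ^ p = 1}
      one_mem' := ⟨one_mem _, one_mem _, one_pow p⟩
      mul_mem' := fun {a b} ha hb => ⟨mul_mem ha.1 hb.1, mul_mem ha.2.1 hb.2.1, by
        rw [Commute.mul_pow (hb.2.1 a ha.1), ha.2.2, hb.2.2, mul_one]⟩
      inv_mem' := fun {a} ha => ⟨inv_mem ha.1, inv_mem ha.2.1, by rw [inv_pow, ha.2.2, inv_one]⟩ }
  have hVcomm : ∀ u ∈ Vs, ∀ v ∈ Vs, u * v = v * u := fun u hu v hv => hv.2.1 u hu.1
  haveI hVn : Vs.Normal := ⟨fun v hv g => ⟨Subgroup.Normal.conj_mem inferInstance v hv.1 g,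
    Subgroup.Normal.conj_mem inferInstance v hv.2.1 g, by rw [conj_pow, hv.2.2]; group⟩⟩
  haveI : IsMulCommutative Vs := ⟨⟨fun a b => Subtype.ext (hVcomm a a.2 b b.2)⟩⟩
  letI : CommGroup Vs := { (inferInstance : Group Vs) with mul_comm := mul_comm' }
  have hexp : ∀ v : Additive Vs, p • v = 0 := fun v => Subtype.ext (Additive.toMul v).2.2.2
  haveI : Nontrivial (Additive Vs) := by
    haveI : Nontrivial U := (Subgroup.nontrivial_iff_ne_bot U).mpr hU1
    haveI := hU.center_nontrivial
    obtain ⟨n, hn0, hn⟩ :=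
      (hU.to_subgroup (Subgroup.center U)).nontrivial_iff_card.mp inferInstance
    obtain ⟨z, hz⟩ := exists_prime_orderOf_dvd_card' (G := Subgroup.center U) p
      (hn ▸ dvd_pow_self p hn0.ne')
    have hzV : ((z : U) : G) ∈ Vs := ⟨(z : U).2, fun u hu =>
      congrArg Subtype.val (Subgroup.mem_center_iff.mp z.2 ⟨u, hu⟩), by
        have := pow_orderOf_eq_one z
        rw [hz] at this
        simpa using congrArg (fun t : Subgroup.center U => ((t : U) : G)) this⟩
    refine ⟨⟨Additive.ofMul (⟨_, hzV⟩ : Vs), 0, fun h => hp.out.ne_one ?_⟩⟩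
    rw [← hz, orderOf_eq_one_iff]
    exact Subtype.ext (Subtype.ext (congrArg (fun t : Additive Vs => ((Additive.toMul t : Vs) : G)) h :))
  let φ₀ : G →* AddMonoid.End (Additive Vs) :=
    { toFun := fun g => MonoidHom.toAdditive ((MulAut.conjNormal g : MulAut Vs).toMonoidHom)
      map_one' := by rw [map_one]; rfl
      map_mul' := fun g h => by rw [map_mul]; rfl }
  have hφ₀ : ∀ (g : G) (v : Additive Vs),
      ((Additive.toMul (φ₀ g v) : Vs) : G) = g * (Additive.toMul v : Vs) * g⁻¹ := fun g v =>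
    MulAut.conjNormal_apply g _
  -- the action of `G / U` is faithful
  have hCV : Subgroup.centralizer (Vs : Set G) ≤ U := by
    have hCn : (Subgroup.centralizer (Vs : Set G)).Normal := inferInstance
    haveI := hCn.map π hπs
    set Cb := (Subgroup.centralizer (Vs : Set G)).map π with hCb
    suffices Cb = ⊥ by
      rwa [hCb, Subgroup.map_eq_bot_iff, hπ, QuotientGroup.ker_mk'] at this
    have hint : Cb ⊓ Kb = ⊥ := by
      refine (hKmin _ inf_le_right inferInstance).resolve_right fun heq => hK1 ?_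
      rw [eq_bot_iff]
      intro x hx
      have hxC : x ∈ Cb := (heq.ge hx).1
      obtain ⟨c, hc, rfl⟩ := hxC
      rw [Subgroup.mem_bot]
      obtain ⟨n, hn, hdvd⟩ : ∃ n, π c = (π c) ^ (p ^ n) ∧ (orderOf (c ^ (p ^ n))).Coprime p := by
        set m := orderOf c
        have hm : m ≠ 0 := (orderOf_pos c).ne'
        have hxo : (orderOf (π c)).Coprime p :=
          Nat.Coprime.coprime_dvd_left (Kb.orderOf_dvd_natCard hx) hKc
        obtain ⟨t, ht0, ht⟩ : ∃ t, 0 < t ∧ p ^ t ≡ 1 [MOD orderOf (π c)] :=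
          ⟨_, Nat.totient_pos.mpr (orderOf_pos _), Nat.ModEq.pow_totient hxo.symm⟩
        refine ⟨t * m, ?_, ?_⟩
        · conv_lhs => rw [← pow_one (π c)]
          refine pow_eq_pow_iff_modEq.mpr ?_
          rw [pow_mul]
          simpa using (ht.pow m).symm
        · rw [orderOf_pow' c (pow_ne_zero _ hp.out.ne_zero)]
          have hfac : m.factorization p ≤ t * m :=
            ((Nat.factorization_le_of_le_pow (Nat.le_of_lt (Nat.lt_pow_self hp.out.one_lt)))).trans
              (Nat.le_mul_of_pos_left m ht0)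
          have hdvd : p ^ m.factorization p ∣ m.gcd (p ^ (t * m)) :=
            Nat.dvd_gcd (Nat.ordProj_dvd m p) (pow_dvd_pow p hfac)
          refine Nat.Coprime.coprime_dvd_left (Nat.div_dvd_div_left
            (Nat.gcd_dvd_left _ _) hdvd) ?_
          exact (Nat.coprime_ordCompl hp.out hm).symm
      set d := c ^ (p ^ n) with hd
      have hdC : d ∈ Subgroup.centralizer (Vs : Set G) := pow_mem hc _
      haveI : IsMulCommutative ↥(U ⊓ Subgroup.centralizer (U : Set G)) :=
        ⟨⟨fun a b => Subtype.ext (b.2.2 a a.2.1)⟩⟩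
      have hcop : (Nat.card (Subgroup.zpowers d)).Coprime
          (Nat.card ↥(U ⊓ Subgroup.centralizer (U : Set G))) := by
        rw [Nat.card_zpowers]
        obtain ⟨i, hi⟩ := (hU.to_le inf_le_left :
          IsPGroup p ↥(U ⊓ Subgroup.centralizer (U : Set G))).exists_card_eq
        rw [hi]
        exact hdvd.pow_right i
      have h1 := Coprime.le_centralizer_of_prime_order (A := Subgroup.zpowers d)
        (V := U ⊓ Subgroup.centralizer (U : Set G))
        Subgroup.le_normalizer_of_normal hcop ?_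
      · have h2 : d ∈ Subgroup.centralizer
            (((S : Subgroup G) ⊓ Subgroup.centralizer ((S : Subgroup G) : Set G) : Subgroup G)
              : Set G) := fun z hz => h1 (Subgroup.mem_zpowers d) z
            ⟨hZU hz, fun u hu => hz.2 u (hUS hu)⟩
        obtain ⟨k, hk⟩ := hCZ ⟨d, h2⟩
        have h3 : d ^ p ^ k = 1 := congrArg Subtype.val hk
        have h4 : d = 1 := by
          rw [← orderOf_eq_one_iff]
          exact Nat.eq_one_of_dvd_coprimes (hdvd.pow_right k) dvd_rfl
            (orderOf_dvd_of_pow_eq_one h3)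
        rw [hn, ← map_pow, ← hd, h4, map_one]
      · intro v hv hprime a ha
        have hvp : v ^ p = 1 := by
          obtain ⟨k, hk⟩ := hU ⟨v, hv.1⟩
          have hk' : v ^ p ^ k = 1 := congrArg Subtype.val hk
          have h5 : orderOf v = p :=
            (Nat.prime_dvd_prime_iff_eq hprime hp.out).mp
              (hprime.dvd_of_dvd_pow (orderOf_dvd_of_pow_eq_one hk'))
          rw [← h5, pow_orderOf_eq_one]
        have hdv : d * v = v * d := (hdC v ⟨hv.1, hv.2, hvp⟩).symm
        obtain ⟨i, rfl⟩ := Subgroup.mem_zpowers_iff.mp ha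
        exact (Commute.zpow_left hdv i).eq
    have hle : Cb ≤ Kb := by
      intro x hx
      refine hfaith fun k hk => ?_
      exact (Coprime.commute_of_mem_normalizer (A := Kb) Subgroup.le_normalizer_of_normal hint hx
        (by rw [Subgroup.normalizer_eq_top]; trivial)) k hk
    exact le_bot_iff.mp (hint ▸ le_inf le_rfl hle)
  have hkerU : U ≤ φ₀.ker := fun g hg => by
    refine DFunLike.ext _ _ fun v => ?_
    apply Additive.toMul.injective
    apply Subtype.ext
    rw [hφ₀]
    show g * _ * g⁻¹ = ((Additive.toMul v : Vs) : G)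
    rw [(Additive.toMul v : Vs).2.2.1 g hg, mul_inv_cancel_right]
  let φ : G ⧸ U →* AddMonoid.End (Additive Vs) := QuotientGroup.lift U φ₀ hkerU
  have hφπ : ∀ g, φ (π g) = φ₀ g := fun g => rfl
  have hφinj : Function.Injective φ := by
    rw [← MonoidHom.ker_eq_bot_iff, eq_bot_iff]
    intro x hx
    obtain ⟨g, rfl⟩ := hπs x
    rw [Subgroup.mem_bot, hπ, QuotientGroup.mk'_apply, QuotientGroup.eq_one_iff]
    refine hCV fun v hv => ?_
    have h1 := hφ₀ g (Additive.ofMul ⟨v, hv⟩)
    rw [← hφπ, MonoidHom.mem_ker.mp hx] at h1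
    exact mul_inv_eq_iff_eq_mul.mp h1.symm |>.symm
  -- cardinalities
  set Ab := A.map π with hAb
  have hAS : A ≤ (S : Subgroup G) := hA.1
  have hoff : Nat.card (Additive Vs) ≤ Nat.card Ab * Nat.card (Offender.fixSub φ Ab) := by
    have hW := Coprime.card_sup_mul_card_inf (K := Vs) (S := A ⊓ U)
      Subgroup.le_normalizer_of_normal
    have hWmax : Nat.card ↥(Vs ⊔ (A ⊓ U)) ≤ Nat.card A := by
      refine hA.2.2 _ (sup_le (fun v hv => hUS hv.1) (inf_le_left.trans hAS)) ⟨⟨⟨?_⟩⟩, ?_⟩
      · rintro ⟨x, hx⟩ ⟨y, hy⟩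
        obtain ⟨v, hv, a, ha, rfl⟩ := Subgroup.mem_sup_of_normal_left.mp hx
        obtain ⟨w, hw, b, hb, rfl⟩ := Subgroup.mem_sup_of_normal_left.mp hy
        refine Subtype.ext (show v * a * (w * b) = w * b * (v * a) from ?_)
        have hab : a * b = b * a := congrArg Subtype.val (mul_comm' (⟨a, ha.1⟩ : A) ⟨b, hb.1⟩)
        have haw : a * w = w * a := hw.2.1 a ha.2
        have hbv : b * v = v * b := hv.2.1 b hb.2
        calc v * a * (w * b) = v * (a * w) * b := by group
          _ = (v * w) * (a * b) := by rw [haw]; group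
          _ = (w * v) * (b * a) := by rw [hVcomm v hv w hw, hab]
          _ = w * (v * b) * a := by group
          _ = w * (b * v) * a := by rw [hbv]
          _ = _ := by group
      · intro x hx
        obtain ⟨v, hv, a, ha, rfl⟩ := Subgroup.mem_sup_of_normal_left.mp hx
        rw [Commute.mul_pow (hv.2.1 a ha.2).symm, hA.2.1.2 a ha.1, mul_one]
        obtain ⟨c, rfl⟩ := he
        rw [pow_mul, hv.2.2, one_pow]
    have hAcard : Nat.card Ab * Nat.card ↥(A ⊓ U) = Nat.card A := by
      let g : A →* G ⧸ U := π.comp A.subtype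
      have h1 := g.ker.card_mul_index
      rw [Subgroup.index_ker, show g.range = Ab by rw [MonoidHom.range_comp, Subgroup.range_subtype],
        show g.ker = (A ⊓ U).subgroupOf A by
          ext x; simp [g, π, Subgroup.mem_subgroupOf],
        Nat.card_congr (Subgroup.subgroupOfEquivOfLe inf_le_left).toEquiv, mul_comm] at h1
      exact h1
    have hfix : Nat.card ↥(Vs ⊓ (A ⊓ U)) ≤ Nat.card (Offender.fixSub φ Ab) := by
      refine Nat.card_le_card_of_injective
        (fun v => ⟨Additive.ofMul ⟨(v : G), v.2.1⟩, ?_⟩) fun v w h => Subtype.ext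
          (congrArg (fun t : Offender.fixSub φ Ab => ((Additive.toMul (t : Additive Vs) : Vs) : G)) h :)
      rintro _ ⟨a, ha, rfl⟩
      apply Additive.toMul.injective
      apply Subtype.ext
      rw [hφπ, hφ₀]
      have : a * (v : G) = v * a := congrArg Subtype.val (mul_comm' (⟨a, ha⟩ : A) ⟨v, v.2.2.1⟩)
      show a * (v : G) * a⁻¹ = v
      rw [this, mul_inv_cancel_right]
    rw [show Nat.card (Additive Vs) = Nat.card Vs from Nat.card_congr Additive.toMul]
    refine Nat.le_of_mul_le_mul_left (c := ↥(A ⊓ U) |> Nat.card) ?_ Nat.card_pos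
    calc Nat.card ↥(A ⊓ U) * Nat.card Vs
        = Nat.card ↥(Vs ⊔ (A ⊓ U)) * Nat.card ↥(Vs ⊓ (A ⊓ U)) := by rw [hW, mul_comm]
      _ ≤ Nat.card A * Nat.card (Offender.fixSub φ Ab) := Nat.mul_le_mul hWmax hfix
      _ = _ := by rw [← hAcard]; ring
  have hAb1 : Ab ≠ ⊥ := fun h => hAU (by
    rwa [hAb, Subgroup.map_eq_bot_iff, hπ, QuotientGroup.ker_mk'] at h)
  have hAbp : IsPGroup p Ab := (S.2.to_le hAS).map π
  have hAC : Ab ⊓ Subgroup.centralizer (Kb : Set (G ⧸ U)) = ⊥ := by
    rw [eq_bot_iff]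
    intro x hx
    rw [Subgroup.mem_bot]
    exact PSolvable.eq_one_of_mem_of_mem hAbp hKc hx.1 (hfaith hx.2)
  have hAbc : ∀ a ∈ Ab, ∀ b ∈ Ab, a * b = b * a := by
    rintro _ ⟨a, ha, rfl⟩ _ ⟨b, hb, rfl⟩
    rw [← map_mul, ← map_mul]
    exact congrArg (fun t : A => π t) (mul_comm' (⟨a, ha⟩ : A) ⟨b, hb⟩)
  obtain ⟨hp2, a, y, V₁, hV₁, hodd, hinv, haV, hyV, v₀, hv₀, hmove⟩ :=
    Offender.eq_two_of_offender hexp φ hφinj hAb1 hAbp hAbc hKab hKc
      Subgroup.le_normalizer_of_normal hAC hoff
  refine ⟨hp2, ?_⟩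
  obtain ⟨ga, rfl⟩ := hπs a
  obtain ⟨gy, rfl⟩ := hπs y
  let V₁' : Subgroup Vs :=
    { carrier := {v | Additive.ofMul v ∈ V₁}
      one_mem' := zero_mem V₁
      mul_mem' := fun {a b} ha hb =>
        show Additive.ofMul a + Additive.ofMul b ∈ V₁ from add_mem ha hb
      inv_mem' := fun {a} ha => show -(Additive.ofMul a) ∈ V₁ from neg_mem ha }
  set W := V₁'.map Vs.subtype with hW
  have hWcard : Nat.card W = 4 := by
    rw [hW, Subgroup.card_map_of_injective Vs.subtype_injective]
    exact (Nat.card_congr ⟨fun v => ⟨Additive.ofMul (v : Vs), v.2⟩,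
      fun v => ⟨Additive.toMul (v : Additive Vs), v.2⟩, fun _ => rfl, fun _ => rfl⟩).trans hV₁
  have hnorm : ∀ g : G, (∀ v ∈ V₁, φ (π g) v ∈ V₁) → g ∈ Subgroup.normalizer (W : Set G) := by
    intro g hg
    rw [Coprime.mem_normalizer_iff_conj_smul]
    refine Subgroup.eq_of_le_of_card_ge ?_ (by rw [Coprime.card_conj_smul])
    rw [Subgroup.pointwise_smul_def]
    rintro _ ⟨_, ⟨v, hv, rfl⟩, rfl⟩
    exact ⟨Additive.toMul (φ (π g) (Additive.ofMul v)), hg _ hv, hφ₀ g (Additive.ofMul v)⟩
  refine Offender.involves_perm_four hWcard (hnorm ga haV) (hnorm gy hyV) ?_ ?_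
    ⟨orderOf (π gy), hodd, ?_⟩
  · rintro _ ⟨v, hv, rfl⟩
    have h1 := hφ₀ (ga * gy * ga⁻¹) (Additive.ofMul v)
    have h2 := hφ₀ gy⁻¹ (Additive.ofMul v)
    have h3 : π (ga * gy * ga⁻¹) = π gy⁻¹ := by rw [map_mul, map_mul, map_inv, hinv, map_inv]
    rw [← hφπ, h3, hφπ, h2, inv_inv] at h1
    exact h1.symm
  · refine ⟨_, ⟨Additive.toMul v₀, hv₀, rfl⟩, fun h => hmove ?_⟩
    apply Additive.toMul.injective
    apply Subtype.ext
    rw [hφπ, hφ₀]
    exact h
  · rintro _ ⟨v, hv, rfl⟩
    have h1 : gy ^ orderOf (π gy) ∈ U := by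
      rw [← QuotientGroup.eq_one_iff, ← QuotientGroup.mk'_apply, map_pow]
      exact pow_orderOf_eq_one _
    show _ * (v : G) * _ = (v : G)
    rw [v.2.2.1 _ h1, mul_inv_cancel_right]

/-- **Thompson's normal `p`-complement theorem**, the induction. -/
theorem thompson_aux (he : p ∣ e) (n : ℕ) :
    ∀ (G : Type u) [Group G] [Finite G], Nat.card G = n → ∀ S : Sylow p G,
      ThompsonHyp p e (S : Subgroup G) →
      Cfsg.HasNormalPComplement p G ∨ (p = 2 ∧ Cfsg.Involves (Equiv.Perm (Fin 4)) G) := by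
  induction n using Nat.strong_induction_on with
  | _ n IH =>
  intro G _ _ hn S hS
  classical
  by_contra hcon
  push Not at hcon
  obtain ⟨hG, hS4⟩ := hcon
  -- proper subgroups with the hypotheses
  have hsub : ∀ H : Subgroup G, H ≠ ⊤ → ∀ T : Sylow p H,
      ThompsonHyp p e ((T : Subgroup H).map H.subtype) → Cfsg.HasNormalPComplement p H := by
    intro H hH T hT
    have hlt : Nat.card H < n := hn ▸ lt_of_le_of_ne (Subgroup.card_le_card_group H)
      (fun h => hH (Subgroup.eq_top_of_card_eq H h))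
    exact (IH _ hlt H rfl T (thompsonHyp_of_map H.subtype H.subtype_injective hT)).resolve_right
      fun h => hS4 h.1 (Offender.involves_of_injective H.subtype H.subtype_injective h.2)
  have hsubS : ∀ H : Subgroup G, H ≠ ⊤ → (S : Subgroup G) ≤ H →
      Cfsg.HasNormalPComplement p H := fun H hH hSH => by
    refine hsub H hH (S.subtype hSH) ?_
    rw [Sylow.coe_subtype, Subgroup.map_subgroupOf_eq_of_le hSH]
    exact hS
  -- the maximal bad local subgroup
  haveI := Fintype.ofFinite (Subgroup G)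
  let bad : Subgroup G → Prop := fun Q => IsPGroup p Q ∧ Q ≠ ⊥ ∧
    ¬ Cfsg.HasNormalPComplement p ↥(Subgroup.normalizer (Q : Set G))
  obtain ⟨U, ⟨hU, hU1, hUN⟩, hUmax⟩ : ∃ U, bad U ∧ ∀ Q, bad Q →
      sylowCard p (Subgroup.normalizer (Q : Set G)) < sylowCard p (Subgroup.normalizer (U : Set G)) ∨
      sylowCard p (Subgroup.normalizer (Q : Set G)) = sylowCard p (Subgroup.normalizer (U : Set G))
        ∧ Nat.card Q ≤ Nat.card U := by
    obtain ⟨Q₀, hQ₀⟩ : ∃ Q, bad Q := by
      by_contra h
      exact hG (hasNormalPComplement_of_normalizers fun Q hQ hQ1 =>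
        by_contra fun hc => h ⟨Q, hQ, hQ1, hc⟩)
    obtain ⟨U₁, hU₁, h₁⟩ := Finset.exists_max_image (Finset.univ.filter bad)
      (fun Q => sylowCard p (Subgroup.normalizer (Q : Set G))) ⟨Q₀, by simp [hQ₀]⟩
    obtain ⟨U, hU, h₂⟩ := Finset.exists_max_image (Finset.univ.filter fun Q => bad Q ∧
      sylowCard p (Subgroup.normalizer (Q : Set G)) = sylowCard p (Subgroup.normalizer (U₁ : Set G)))
      (fun Q => Nat.card Q) ⟨U₁, by simpa using hU₁⟩
    simp only [Finset.mem_filter, Finset.mem_univ, true_and] at hU h₁ h₂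
    refine ⟨U, hU.1, fun Q hQ => ?_⟩
    rcases lt_or_eq_of_le (h₁ Q hQ) with h | h
    · exact Or.inl (hU.2 ▸ h)
    · exact Or.inr ⟨h.trans hU.2.symm, h₂ Q ⟨hQ, h⟩⟩
  set N := Subgroup.normalizer (U : Set G) with hN
  -- `U` is normal
  have hNtop : N = ⊤ := by
    by_contra hNtop
    let T : Sylow p N := default
    set TG := (T : Subgroup N).map N.subtype with hTG
    have hTGp : IsPGroup p TG := T.2.map _
    have hUT : U ≤ TG := by
      haveI : (U.subgroupOf N).Normal :=
        (Subgroup.normal_subgroupOf_iff_le_normalizer Subgroup.le_normalizer).mpr le_rfl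
      haveI : (U.comap N.subtype).Normal := ‹(U.subgroupOf N).Normal›
      have h := (T.3 ((hU.comap_of_injective N.subtype N.subtype_injective).to_sup_of_normal_left
        T.2) le_sup_right)
      have h' : U.subgroupOf N ≤ (T : Subgroup N) := le_sup_left.trans h.le
      rw [hTG, ← Subgroup.map_subgroupOf_eq_of_le (Subgroup.le_normalizer : U ≤ N)]
      exact Subgroup.map_mono h'
    obtain ⟨S', hS'⟩ := hTGp.exists_le_sylow
    refine hUN (hsub N hNtop T ?_)
    rcases hS'.eq_or_lt with h | h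
    · rw [show (T : Subgroup N).map N.subtype = (S' : Subgroup G) from h]
      exact thompsonHyp_sylow S S' hS
    · have hgrow := lt_inf_normalizer S'.2 h
      have key : ∀ X : Subgroup G, IsPGroup p X → X ≠ ⊥ →
          Subgroup.normalizer (TG : Set G) ≤ Subgroup.normalizer (X : Set G) →
          Cfsg.HasNormalPComplement p ↥(Subgroup.normalizer (X : Set G)) := by
        intro X hX hX1 hle
        by_contra hbad
        have h1 : Nat.card TG < sylowCard p (Subgroup.normalizer (X : Set G)) :=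
          (Set.ncard_lt_ncard hgrow (Set.toFinite _)).trans_le (card_le_sylowCard
            (S'.2.to_le inf_le_left) (inf_le_right.trans hle))
        have h2 : sylowCard p N = Nat.card TG := by
          rw [hTG, Subgroup.card_map_of_injective N.subtype_injective]
          rfl
        rcases hUmax X ⟨hX, hX1, hbad⟩ with h3 | ⟨h3, -⟩ <;> omega
      refine ⟨key _ (hTGp.to_le (thompsonJ_le e TG)) ?_ (normalizer_le_normalizer_thompsonJ e TG),
        hasNPC_of_le (Subgroup.centralizer_le_normalizer _) (key _ (hTGp.to_le inf_le_left) ?_ ?_)⟩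
      · exact thompsonJ_ne_bot he hTGp (ne_bot_of_le_ne_bot hU1 hUT)
      · intro hZ
        haveI : Nontrivial TG :=
          (Subgroup.nontrivial_iff_ne_bot _).mpr (ne_bot_of_le_ne_bot hU1 hUT)
        haveI := hTGp.center_nontrivial
        obtain ⟨z, hz⟩ := exists_ne (1 : Subgroup.center TG)
        apply hz
        have : ((z : TG) : G) ∈ TG ⊓ Subgroup.centralizer (TG : Set G) :=
          ⟨(z : TG).2, fun t ht => congrArg Subtype.val (Subgroup.mem_center_iff.mp z.2 ⟨t, ht⟩)⟩
        rw [hZ, Subgroup.mem_bot] at this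
        exact Subtype.ext (Subtype.ext this)
      · exact Coprime.le_normalizer_inf_of_le le_rfl (Coprime.le_normalizer_centralizer le_rfl)
  haveI hUn : U.Normal := Subgroup.normalizer_eq_top_iff.mp hNtop
  have hUS : U ≤ (S : Subgroup G) := by
    have h := (S.3 (hU.to_sup_of_normal_left S.2) le_sup_right)
    exact le_sup_left.trans h.le
  -- `U = O_p(G)`; larger subgroups normal in `S` have good normalizers
  have hbigger : ∀ V : Subgroup G, IsPGroup p V → Nat.card U < Nat.card V →
      (S : Subgroup G) ≤ Subgroup.normalizer (V : Set G) →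
      Cfsg.HasNormalPComplement p ↥(Subgroup.normalizer (V : Set G)) := by
    intro V hV hlt hSV
    by_contra hbad
    have hV1 : V ≠ ⊥ := by
      rintro rfl
      rw [Subgroup.card_bot] at hlt
      exact absurd hlt (not_lt.mpr Nat.card_pos)
    have h1 : sylowCard p N ≤ sylowCard p (Subgroup.normalizer (V : Set G)) :=
      (sylowCard_le N S).trans (card_le_sylowCard S.2 hSV)
    rcases hUmax V ⟨hV, hV1, hbad⟩ with h2 | ⟨-, h2⟩ <;> omega
  have hUcore : U = Cfsg.pCore p G := by
    refine Subgroup.eq_of_le_of_card_ge (Fitting.le_pCore hUn hU) ?_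
    by_contra h
    haveI := Fitting.pCore_normal (G := G) p
    refine hG (hasNPC_top.mp ?_)
    rw [← Subgroup.normalizer_eq_top (Cfsg.pCore p G)]
    exact hbigger _ (Fitting.pCore_isPGroup p) (not_le.mp h) (by simp [Subgroup.normalizer_eq_top])
  -- `O_{p'}(G) = 1`
  have hO : Cfsg.pPrimeCore p G = ⊥ := by
    by_contra hne
    haveI := pPrimeCore_normal p G
    set f := QuotientGroup.mk' (Cfsg.pPrimeCore p G) with hf
    have hfs : Function.Surjective f := QuotientGroup.mk'_surjective _
    have hker : (Nat.card f.ker).Coprime p := by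
      rw [hf, QuotientGroup.ker_mk']; exact pPrimeCore_coprime p
    have hlt : Nat.card (G ⧸ Cfsg.pPrimeCore p G) < n := by
      rw [← hn, Subgroup.card_eq_card_quotient_mul_card_subgroup (Cfsg.pPrimeCore p G)]
      exact lt_mul_of_one_lt_right Nat.card_pos ((Subgroup.one_lt_card_iff_ne_bot _).mpr hne)
    have hinj : Set.InjOn f ((S : Subgroup G) : Set G) := fun a ha b hb h => by
      refine inv_mul_eq_one.mp (PSolvable.eq_one_of_mem_of_mem S.2 hker (mul_mem (inv_mem ha) hb) ?_)
      rw [MonoidHom.mem_ker, map_mul, map_inv, h, inv_mul_cancel]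
    have hT : ThompsonHyp p e (↑(S.mapSurjective hfs) : Subgroup (G ⧸ Cfsg.pPrimeCore p G)) := by
      rw [Sylow.coe_mapSurjective]
      refine ⟨?_, ?_⟩
      · rw [← map_thompsonJ e f hinj, ← PSolvable.map_normalizer_eq hfs hker
          (S.2.to_le (thompsonJ_le e _))]
        exact hasNormalPComplement_of_surjective _ (f.subgroupMap_surjective _) hS.1
      · rw [← map_centerOf f hinj, ← PSolvable.map_centralizer_eq hfs hker (S.2.to_le inf_le_left)]
        exact hasNormalPComplement_of_surjective _ (f.subgroupMap_surjective _) hS.2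
    rcases IH _ hlt _ rfl _ hT with h | h
    · exact hG (hasNPC_of_ker f hfs hker h)
    · exact hS4 h.1 (Offender.involves_of_surjective f hfs h.2)
  -- the quotient by `U`
  set π := QuotientGroup.mk' U with hπ
  have hπs : Function.Surjective π := QuotientGroup.mk'_surjective U
  set Sb : Sylow p (G ⧸ U) := S.mapSurjective hπs with hSb
  have hSb1 : (Sb : Subgroup (G ⧸ U)) ≠ ⊥ := by
    intro h
    rw [hSb, Sylow.coe_mapSurjective, Subgroup.map_eq_bot_iff, hπ, QuotientGroup.ker_mk'] at h
    refine hG (hasNPC_top.mp (hasNPC_of_le ?_ hS.1))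
    rw [le_antisymm h hUS, ← Subgroup.normalizer_eq_top U]
    exact normalizer_le_normalizer_thompsonJ e U
  have hltU : Nat.card (G ⧸ U) < n := by
    rw [← hn, Subgroup.card_eq_card_quotient_mul_card_subgroup U]
    exact lt_mul_of_one_lt_right Nat.card_pos ((Subgroup.one_lt_card_iff_ne_bot U).mpr hU1)
  have hquot : ∀ Q : Subgroup (G ⧸ U), IsPGroup p Q → Q ≠ ⊥ →
      (Sb : Subgroup (G ⧸ U)) ≤ Subgroup.normalizer (Q : Set (G ⧸ U)) →
      Cfsg.HasNormalPComplement p ↥(Subgroup.normalizer (Q : Set (G ⧸ U))) := by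
    intro Q hQ hQ1 hSQ
    have hV : IsPGroup p ↥(Q.comap π) :=
      hQ.comap_of_ker_isPGroup π (by rw [hπ, QuotientGroup.ker_mk']; exact hU)
    have hcard : Nat.card U < Nat.card ↥(Q.comap π) := by
      rw [PSolvable.card_comap_of_surjective hπs, hπ, QuotientGroup.ker_mk']
      exact lt_mul_of_one_lt_right Nat.card_pos ((Subgroup.one_lt_card_iff_ne_bot Q).mpr hQ1)
    have hN' := hbigger _ hV hcard (by
      rw [← Subgroup.comap_normalizer_eq_of_surjective Q hπs, ← Subgroup.map_le_iff_le_comap]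
      rwa [hSb, Sylow.coe_mapSurjective] at hSQ)
    rw [← Subgroup.map_comap_eq_self_of_surjective hπs (Subgroup.normalizer (Q : Set (G ⧸ U))),
      Subgroup.comap_normalizer_eq_of_surjective Q hπs]
    exact hasNormalPComplement_of_surjective _ (π.subgroupMap_surjective _) hN'
  have hquotNPC : Cfsg.HasNormalPComplement p (G ⧸ U) := by
    refine (IH _ hltU _ rfl Sb ⟨?_, ?_⟩).resolve_right fun h =>
      hS4 h.1 (Offender.involves_of_surjective π hπs h.2)
    · exact hquot _ (Sb.2.to_le (thompsonJ_le e _)) (thompsonJ_ne_bot he Sb.2 hSb1)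
        (Subgroup.le_normalizer.trans (normalizer_le_normalizer_thompsonJ e _))
    · refine hasNPC_of_le (Subgroup.centralizer_le_normalizer _)
        (hquot _ (Sb.2.to_le inf_le_left) ?_ (Coprime.le_normalizer_inf_of_le Subgroup.le_normalizer
          (Coprime.le_normalizer_centralizer Subgroup.le_normalizer)))
      intro hZ
      haveI : Nontrivial (Sb : Subgroup (G ⧸ U)) := (Subgroup.nontrivial_iff_ne_bot _).mpr hSb1
      haveI := Sb.2.center_nontrivial
      obtain ⟨z, hz⟩ := exists_ne (1 : Subgroup.center (Sb : Subgroup (G ⧸ U)))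
      apply hz
      have : ((z : (Sb : Subgroup (G ⧸ U))) : G ⧸ U)
          ∈ (Sb : Subgroup (G ⧸ U)) ⊓ Subgroup.centralizer ((Sb : Subgroup (G ⧸ U)) : Set (G ⧸ U)) :=
        ⟨z.1.2, fun t ht => congrArg Subtype.val (Subgroup.mem_center_iff.mp z.2 ⟨t, ht⟩)⟩
      rw [hZ, Subgroup.mem_bot] at this
      exact Subtype.ext (Subtype.ext this)
  set Kb := Cfsg.pResidual p (G ⧸ U) with hKb
  haveI hKn : Kb.Normal := pResidual_normal p _
  have hKc : (Nat.card Kb).Coprime p :=
    (hp.out.coprime_iff_not_dvd.mpr (hasNormalPComplement_iff_pResidual.mp hquotNPC)).symm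
  -- `C(U) ≤ U`
  have hsol : Cfsg.IsPSolvable p G := by
    refine PSolvable.isPSolvable_of_quotient U (Or.inl hU)
      (PSolvable.isPSolvable_of_quotient Kb (Or.inr hKc)
        (PSolvable.isPSolvable_of_isSolvable ?_))
    haveI := (isPGroup_quotient_pResidual (p := p) (G := G ⧸ U)).isNilpotent
    exact inferInstance
  have hCU : Subgroup.centralizer (U : Set G) ≤ U := by
    have h := PSolvable.centralizer_pCore_le hsol hO
    rwa [← hUcore] at h
  -- `S̄` acts irreducibly on `K̄`
  have hmin : ∀ L : Subgroup (G ⧸ U), L ≤ Kb →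
      (Sb : Subgroup (G ⧸ U)) ≤ Subgroup.normalizer (L : Set (G ⧸ U)) → L = ⊥ ∨ L = Kb := by
    intro L hLK hSL
    have hcop : (Nat.card L).Coprime p := hKc.coprime_dvd_left (Subgroup.card_dvd_of_le hLK)
    have hdL : L ⊓ (Sb : Subgroup (G ⧸ U)) = ⊥ :=
      Coprime.inf_eq_bot_of_coprime_card (PSolvable.coprime_card_of_isPGroup Sb.2 hcop).symm
    by_cases htop : L ⊔ (Sb : Subgroup (G ⧸ U)) = ⊤
    · right
      refine Subgroup.eq_of_le_of_card_ge hLK ?_
      have h1 := Coprime.card_sup_mul_card_inf hSL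
      rw [htop, hdL, Subgroup.card_bot, mul_one, Subgroup.card_top] at h1
      have h2 := Coprime.card_sup_mul_card_inf (K := Kb) (S := (Sb : Subgroup (G ⧸ U)))
        Subgroup.le_normalizer_of_normal
      rw [sup_sylow_eq_top Sb, Subgroup.card_top, Coprime.inf_eq_bot_of_coprime_card
        (PSolvable.coprime_card_of_isPGroup Sb.2 hKc).symm, Subgroup.card_bot, mul_one, h1] at h2
      exact (Nat.eq_of_mul_eq_mul_right Nat.card_pos h2).ge
    · left
      set H := (L ⊔ (Sb : Subgroup (G ⧸ U))).comap π with hH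
      have hHtop : H ≠ ⊤ := fun h => htop (by
        rw [← Subgroup.map_comap_eq_self_of_surjective hπs (L ⊔ _), ← hH, h,
          Subgroup.map_top_of_surjective _ hπs])
      have hSH : (S : Subgroup G) ≤ H := by
        rw [hH, ← Subgroup.map_le_iff_le_comap]
        exact le_trans (le_of_eq (by rw [hSb, Sylow.coe_mapSurjective])) le_sup_right
      have hHp : IsPGroup p H := isPGroup_of_hasNPC hU hCU (hUS.trans hSH) (hsubS H hHtop hSH)
      have hLp : IsPGroup p L := by
        refine (hHp.map π).to_le ?_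
        rw [hH, Subgroup.map_comap_eq_self_of_surjective hπs]
        exact le_sup_left
      rw [eq_bot_iff]
      intro x hx
      rw [Subgroup.mem_bot]
      exact PSolvable.eq_one_of_mem_of_mem hLp hcop hx hx
  have hK1 : Kb ≠ ⊥ := by
    intro h
    refine hG (hasNormalPComplement_of_isPGroup ?_)
    have hq : IsPGroup p (G ⧸ U) := by
      have hq' : IsPGroup p ((G ⧸ U) ⧸ Kb) := isPGroup_quotient_pResidual
      refine hq'.of_injective (QuotientGroup.mk' Kb) ?_
      rw [← MonoidHom.ker_eq_bot_iff, QuotientGroup.ker_mk', h]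
    have h2 := (hq.to_subgroup ⊤).comap_of_ker_isPGroup π (by rw [hπ, QuotientGroup.ker_mk']; exact hU)
    rw [Subgroup.comap_top] at h2
    exact h2.of_equiv Subgroup.topEquiv
  -- `K̄` is an abelian `q`-group
  obtain ⟨q, hq, hKq⟩ : ∃ q, q.Prime ∧ IsPGroup q Kb := by
    obtain ⟨q, hq, hqd⟩ := Nat.exists_prime_and_dvd (fun h => hK1 (Subgroup.card_eq_one.mp h))
    haveI := Fact.mk hq
    haveI : Group.IsNilpotent (Sb : Subgroup (G ⧸ U)) := Sb.2.isNilpotent
    obtain ⟨Q, hQ⟩ := Coprime.exists_invariant_sylow (A := (Sb : Subgroup (G ⧸ U))) (K := Kb)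
      Subgroup.le_normalizer_of_normal (PSolvable.coprime_card_of_isPGroup Sb.2 hKc)
      (Or.inl inferInstance) q
    refine ⟨q, hq, ?_⟩
    rcases hmin _ (Subgroup.map_subtype_le _) hQ with h | h
    · exact absurd ((Subgroup.map_eq_bot_iff_of_injective _ Kb.subtype_injective).mp h)
        (Q.ne_bot_of_dvd_card hqd)
    · rw [← h]; exact Q.2.map _
  haveI := Fact.mk hq
  have hKab : ∀ x ∈ Kb, ∀ y ∈ Kb, x * y = y * x := by
    rcases hmin ⁅Kb, Kb⁆ (Subgroup.commutator_le_self Kb) (Subgroup.le_normalizer_of_normal) with h | h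
    · exact fun x hx y hy => (Subgroup.commutator_eq_bot_iff_le_centralizer.mp h hy x hx)
    · haveI := hKq.isNilpotent
      exact absurd (eq_bot_of_le_commutator_self h.ge) hK1
  have hfaith : Subgroup.centralizer (Kb : Set (G ⧸ U)) ≤ Kb := by
    have hCb : (Sb : Subgroup (G ⧸ U)) ⊓ Subgroup.centralizer (Kb : Set (G ⧸ U)) = ⊥ := by
      set D := (Sb : Subgroup (G ⧸ U)) ⊓ Subgroup.centralizer (Kb : Set (G ⧸ U)) with hD
      have hDn : D.Normal := by
        rw [← Subgroup.normalizer_eq_top_iff, eq_top_iff, ← sup_sylow_eq_top Sb]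
        refine sup_le (fun k hk => Subgroup.centralizer_le_normalizer _ fun d hd =>
          (hd.2 k hk).symm) (Coprime.le_normalizer_inf_of_le Subgroup.le_normalizer
          (Coprime.le_normalizer_centralizer Subgroup.le_normalizer_of_normal))
      have hV : IsPGroup p ↥(D.comap π) := (Sb.2.to_le inf_le_left).comap_of_ker_isPGroup π
        (by rw [hπ, QuotientGroup.ker_mk']; exact hU)
      have hVle : D.comap π ≤ U := (Fitting.le_pCore (hDn.comap π) hV).trans hUcore.ge
      rw [← Subgroup.map_comap_eq_self_of_surjective hπs D, Subgroup.map_eq_bot_iff, hπ,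
        QuotientGroup.ker_mk']
      exact hVle
    intro c hc
    have hc' : c ∈ Kb ⊔ (Sb : Subgroup (G ⧸ U)) := sup_sylow_eq_top Sb ▸ Subgroup.mem_top c
    obtain ⟨k, hk, s, hs, rfl⟩ := Subgroup.mem_sup_of_normal_left.mp hc'
    have hs' : s ∈ (Sb : Subgroup (G ⧸ U)) ⊓ Subgroup.centralizer (Kb : Set (G ⧸ U)) :=
      ⟨hs, by
        have : k⁻¹ * (k * s) ∈ Subgroup.centralizer (Kb : Set (G ⧸ U)) :=
          mul_mem (inv_mem fun x hx => hKab x hx k hk) hc
        rwa [inv_mul_cancel_left] at this⟩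
    rw [hCb, Subgroup.mem_bot] at hs'
    rw [hs', mul_one]
    exact hk
  exact absurd (involves_of_constrained he hU hU1 hCU S hS hG Kb hKc hKab hK1
    (fun L hL hLn => hmin L hL Subgroup.le_normalizer_of_normal) hfaith) (fun h => hS4 h.1 h.2)

/-- **Thompson's normal `p`-complement theorem.** -/
theorem thompson_normal_complement {G : Type*} [Group G] [Finite G] (he : p ∣ e)
    (h : p ≠ 2 ∨ ¬ Cfsg.Involves (Equiv.Perm (Fin 4)) G) (S : Sylow p G)
    (hS : ThompsonHyp p e (S : Subgroup G)) : Cfsg.HasNormalPComplement p G :=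
  (thompson_aux he _ G rfl S hS).resolve_right fun h' => h.elim (fun h => h h'.1) (fun h => h h'.2)

end CfsgLib.Transfer
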