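import Mathlib
import Cfsg.Agent.Lib.Transfer.Basic
import Cfsg.Agent.Lib.Transfer.Sylow
import Cfsg.Agent.Lib.Fusion.HyperfocalGroup
import Cfsg.Agent.Lib.Fusion.Tate

/-!
Tate's theorem for groups: if `O^p(G)` meets a Sylow `p`-subgroup inside its Frattini subgroup, then
there is a normal `p`-complement.
-/

set_option autoImplicit false

namespace CfsgLib.Transfer

open Cfsg Cfsg.FusionSystem

theorem hasNormalPComplement_of_le_frattini {G : Type*} [Group G] [Finite G] {p : ℕ}
    [Fact p.Prime] (S : Sylow p G)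
    (h : (S : Subgroup G) ⊓ Cfsg.pResidual p G ≤
      (frattini ↥(S : Subgroup G)).map (S : Subgroup G).subtype) :
    Cfsg.HasNormalPComplement p G := by
  haveI := pResidual_normal p G
  set T := (groupFusionSystem (S : Subgroup G)).hyperfocalSubgroup p with hTdef
  have hTS : T ≤ (S : Subgroup G) := Fusion.hyperfocal_le
  have hTf : T.subgroupOf (S : Subgroup G) ≤ frattini ↥(S : Subgroup G) := fun x hx => by
    obtain ⟨y, hy, e⟩ := h ⟨x.2, Fusion.hyperfocal_le_pResidual S hx⟩
    rwa [← Subtype.ext e]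
  have h0 : T.subgroupOf (S : Subgroup G) = ⊥ :=
    Fusion.hyperfocal_subgroupOf_eq S.2 (Fusion.isSaturated_group S) bot_le
      (hTf.trans le_sup_left)
  have hbot : T = ⊥ := by
    rw [Subgroup.subgroupOf_eq_bot] at h0
    exact h0.eq_bot_of_le hTS
  rw [hasNormalPComplement_iff_pResidual]
  intro hd
  haveI := Fact.mk (Fact.out : p.Prime)
  obtain ⟨x, hx⟩ := exists_prime_orderOf_dvd_card' p hd
  have hxp : IsPGroup p (Subgroup.zpowers (x : G)) :=
    isPGroup_zpowers ⟨1, by rw [Subgroup.orderOf_coe, hx, pow_one]⟩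
  obtain ⟨g, hg⟩ := exists_map_conj_le_sylow hxp S
  have h1 : g * x * g⁻¹ ∈ (S : Subgroup G) ⊓ Cfsg.pResidual p G :=
    ⟨hg ⟨x, Subgroup.mem_zpowers _, rfl⟩, Subgroup.Normal.conj_mem inferInstance _ x.2 g⟩
  have h2 : g * x * g⁻¹ = 1 :=
    Subgroup.mem_bot.mp (hbot.le (Fusion.pResidual_inf_le_hyperfocal S h1))
  have h3 : orderOf (x : G) = 1 := by
    rw [← orderOf_conj g (x : G), h2, orderOf_one]
  rw [Subgroup.orderOf_coe, hx] at h3
  exact (Fact.out : p.Prime).one_lt.ne' h3

end CfsgLib.Transfer
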