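import Cfsg.Agent.Lib.Transfer.Sylow

import Mathlib.NumberTheory.Basic

/-!
# Coprime automorphisms of cyclic Sylow subgroups
-/

namespace CfsgLib.Transfer

set_option linter.style.haveILetI false

variable {G : Type*} [Group G] {p : ℕ}

theorem conj_pow_eq_zpow {g t : G} {r : ℤ} (hg : g * t * g⁻¹ = t ^ r) (m : ℕ) :
    g ^ m * t * (g ^ m)⁻¹ = t ^ (r ^ m) := by
  induction m with
  | zero => simp
  | succ m ih =>
    calc g ^ (m + 1) * t * (g ^ (m + 1))⁻¹ = g * (g ^ m * t * (g ^ m)⁻¹) * g⁻¹ := by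
          rw [pow_succ']; group
      _ = (g * t * g⁻¹) ^ (r ^ m) := by rw [ih, conj_zpow]
      _ = t ^ (r ^ (m + 1)) := by rw [hg, ← zpow_mul, pow_succ']

/-- A `p'`-element inducing `t ↦ t ^ r` with `r ≡ 1 (mod p)` centralizes the `p`-element `t`. -/
theorem commute_of_conj_eq_zpow [Fact p.Prime] {g t : G} {r : ℤ} (hg : g * t * g⁻¹ = t ^ r)
    (hr : (p : ℤ) ∣ r - 1) (ht : ∃ k : ℕ, t ^ p ^ k = 1) (hgc : (orderOf g).Coprime p) :
    Commute g t := by
  obtain ⟨k, hk⟩ := ht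
  have h1 : ((p : ℤ) ^ k) ∣ r ^ p ^ k - 1 := by
    have h := dvd_sub_pow_of_dvd_sub (R := ℤ) hr k
    rw [one_pow] at h
    exact (pow_dvd_pow (p : ℤ) (Nat.le_succ k)).trans h
  obtain ⟨c, hc⟩ := h1
  have hk' : t ^ ((p : ℤ) ^ k) = 1 := by rw [← Nat.cast_pow, zpow_natCast, hk]
  have h2 : g ^ p ^ k * t * (g ^ p ^ k)⁻¹ = t := by
    rw [conj_pow_eq_zpow hg, show r ^ p ^ k = (p : ℤ) ^ k * c + 1 by omega, zpow_add_one, zpow_mul,
      hk', one_zpow, one_mul]
  have h3 : Commute (g ^ p ^ k) t := mul_inv_eq_iff_eq_mul.mp h2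
  obtain ⟨m, hm⟩ := exists_pow_eq_self_of_coprime (x := g) (hgc.symm.pow_left k)
  rw [← hm]
  exact h3.pow_left m

/-- If every `p'`-element normalizing the Sylow subgroup `⟨t⟩` acts as an `r`-th power with
`r ≡ 1 (mod p)`, then the normalizer centralizes it. -/
theorem normalizer_le_centralizer_of_zpow [Finite G] [Fact p.Prime] (P : Sylow p G) {t : G}
    (hP : (P : Subgroup G) = Subgroup.zpowers t)
    (h : ∀ g ∈ Subgroup.normalizer ((P : Subgroup G) : Set G), (orderOf g).Coprime p →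
      ∀ r : ℤ, g * t * g⁻¹ = t ^ r → (p : ℤ) ∣ r - 1) :
    Subgroup.normalizer ((P : Subgroup G) : Set G) ≤
      Subgroup.centralizer ((P : Subgroup G) : Set G) := by
  intro n hn
  suffices hnt : Commute n t by
    rw [Subgroup.mem_centralizer_iff]
    intro y hy
    rw [SetLike.mem_coe, hP] at hy
    obtain ⟨j, rfl⟩ := hy
    exact ((hnt.zpow_right j).eq).symm
  have htP : t ∈ (P : Subgroup G) := hP ▸ Subgroup.mem_zpowers t
  have htp : ∃ k : ℕ, t ^ p ^ k = 1 := by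
    obtain ⟨k, hk⟩ := P.2 ⟨t, htP⟩
    exact ⟨k, by simpa using congrArg Subtype.val hk⟩
  obtain ⟨a, m, hm, hno, hq, hpart⟩ := exists_pow_coprime_part (p := p) n
  -- the `p`-part lies in `P`
  have h1 : n ^ m ∈ (P : Subgroup G) := by
    have hN := Subgroup.pow_mem _ hn m
    have hQ : IsPGroup p ↥((P : Subgroup G) ⊔ Subgroup.zpowers (n ^ m)) :=
      P.2.to_sup_of_normal_left' (isPGroup_zpowers ⟨a, hpart⟩)
        (Subgroup.zpowers_le.mpr hN)
    rw [← P.is_maximal' hQ le_sup_left]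
    exact Subgroup.mem_sup_right (Subgroup.mem_zpowers _)
  have h2 : Commute (n ^ m) t := by
    rw [hP] at h1
    obtain ⟨j, hj⟩ := h1
    rw [← hj]
    exact Commute.zpow_self t j
  -- the `p'`-part
  have h3 : Commute (n ^ p ^ a) t := by
    have hN := Subgroup.pow_mem _ hn (p ^ a)
    have h4 := (Subgroup.mem_normalizer_iff.mp hN t).mp htP
    rw [hP] at h4
    obtain ⟨r, hr⟩ := h4
    exact commute_of_conj_eq_zpow hr.symm (h _ hN hq r hr.symm) htp hq
  have hgcd : m.Coprime (p ^ a) :=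
    ((Fact.out : p.Prime).coprime_iff_not_dvd.mpr hm).symm.pow_right a
  have hb := Nat.gcd_eq_gcd_ab m (p ^ a)
  rw [Nat.Coprime.gcd_eq_one hgcd] at hb
  rw [← zpow_one n, show (1 : ℤ) = ((1 : ℕ) : ℤ) from rfl, hb, zpow_add, zpow_mul, zpow_mul,
    zpow_natCast, zpow_natCast]
  exact (h2.zpow_left _).mul_left (h3.zpow_left _)

theorem exists_zpowers_eq_of_isCyclic (H : Subgroup G) (h : IsCyclic H) :
    ∃ t : G, H = Subgroup.zpowers t := by
  obtain ⟨⟨t, ht⟩, hgen⟩ := h.exists_generator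
  refine ⟨t, le_antisymm (fun x hx => ?_) (Subgroup.zpowers_le.mpr ht)⟩
  obtain ⟨k, hk⟩ := Subgroup.mem_zpowers_iff.mp (hgen ⟨x, hx⟩)
  exact ⟨k, by simpa using congrArg Subtype.val hk⟩

end CfsgLib.Transfer
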