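import Mathlib
import Cfsg.Agent.Lib.ZJ.StableClosure

/-!
Elementary properties of the Thompson subgroup.
-/

set_option autoImplicit false
set_option linter.style.haveILetI false

open scoped Pointwise

namespace CfsgLib.Transfer

variable {G : Type*} [Group G] {p : ℕ}

theorem maxAbExp_eq_of_le [Finite G] {e : ℕ} {P U : Subgroup G} (hJU : thompsonJ e P ≤ U)
    (hUP : U ≤ P) : maxAbExp e U = maxAbExp e P := by
  obtain ⟨A₀, hA₀⟩ := thompsonJ_nonempty e P
  have hA₀U : A₀ ≤ U := (le_sSup hA₀).trans hJU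
  ext A
  constructor
  · rintro ⟨hAU, hAe, hmax⟩
    exact ⟨hAU.trans hUP, hAe,
      fun B hB hBe => (hA₀.2.2 B hB hBe).trans (hmax A₀ hA₀U hA₀.2.1)⟩
  · rintro hA
    exact ⟨(le_sSup hA).trans hJU, hA.2.1, fun B hB hBe => hA.2.2 B (hB.trans hUP) hBe⟩

theorem thompsonJ_eq_of_le [Finite G] {e : ℕ} {P U : Subgroup G} (hJU : thompsonJ e P ≤ U)
    (hUP : U ≤ P) : thompsonJ e U = thompsonJ e P := by
  rw [thompsonJ, thompsonJ, maxAbExp_eq_of_le hJU hUP]

theorem mem_thompsonJ_top_of_commute [Finite G] {z : G} (hz : z ^ p = 1)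
    (hc : z ∈ Subgroup.centralizer (thompsonJ p (⊤ : Subgroup G) : Set G)) :
    ∀ A ∈ maxAbExp p (⊤ : Subgroup G), z ∈ A := fun _ hA =>
  ZJ.mem_of_commute hA (Subgroup.mem_top z) hz fun _ ha => hc _ (le_sSup hA ha)

variable [Finite G] [hp : Fact p.Prime]

omit [Finite G] hp in
theorem isPGroup_of_isAbExp {A : Subgroup G} (hA : IsAbExp p A) : IsPGroup p A :=
  fun a => ⟨1, Subtype.ext (by simpa using hA.2 a a.2)⟩

theorem thompsonJ_top_eq_iSup :
    thompsonJ p (⊤ : Subgroup G) = ⨆ S : Sylow p G, thompsonJ p (S : Subgroup G) := by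
  refine le_antisymm (sSup_le fun A hA => ?_) (iSup_le fun S => sSup_le fun A hA => le_sSup ?_)
  · obtain ⟨T, hT⟩ := (isPGroup_of_isAbExp hA.2.1).exists_le_sylow
    exact le_iSup_of_le T (le_sSup ⟨hT, hA.2.1, fun B hB hBe => hA.2.2 B le_top hBe⟩)
  · refine ⟨le_top, hA.2.1, fun B _ hBe => ?_⟩
    obtain ⟨T, hT⟩ := (isPGroup_of_isAbExp hBe).exists_le_sylow
    obtain ⟨g, hg⟩ := exists_map_conj_sylow_eq T S
    rw [← card_map_of_injOn (MulAut.conj g).toMonoidHom
      (MulEquiv.injective (MulAut.conj g)).injOn]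
    exact hA.2.2 _ (hg ▸ Subgroup.map_mono hT)
      ((isAbExp_map_iff p _ (MulEquiv.injective (MulAut.conj g)).injOn).mpr hBe)

end CfsgLib.Transfer
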