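import Mathlib
import Cfsg.Agent.Lib.Transfer.Focal
import Cfsg.Agent.Lib.Transfer.Thompson

/-!
Transfer into an abelian Sylow subgroup: an element of it centralized by its normalizer is not a
non-trivial element of the derived group.
-/

set_option autoImplicit false

namespace CfsgLib.Transfer

theorem eq_one_of_abelian_sylow {G : Type*} [Group G] [Finite G] {p : ℕ} [Fact p.Prime]
    (P : Sylow p G) (hP : IsMulCommutative (P : Subgroup G)) {x : G} (hx : x ∈ (P : Subgroup G))
    (hN : ∀ n ∈ Subgroup.normalizer ((P : Subgroup G) : Set G), n * x = x * n)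
    (hc : x ∈ commutator G) : x = 1 := by
  by_contra hne
  letI : CommGroup (P : Subgroup G) :=
    { (inferInstance : Group (P : Subgroup G)) with mul_comm := fun a b => hP.is_comm.comm a b }
  obtain ⟨k, hk⟩ := P.2 ⟨x, hx⟩
  refine notMem_commutator_of_controlled (MonoidHom.id (P : Subgroup G)) hx
    ⟨k, congrArg Subtype.val hk⟩ (fun h => hne (congrArg Subtype.val h))
    ((Fact.out : p.Prime).coprime_iff_not_dvd.mpr P.not_dvd_index) (fun j a h => ?_) hc
  obtain ⟨n, hn, e⟩ := exists_normalizer_conj_of_isMulCommutative P hP (pow_mem hx j) a⁻¹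
    (by rwa [inv_inv])
  rw [inv_inv] at e
  refine Subtype.ext ?_
  show a⁻¹ * x ^ j * a = x ^ j
  rw [← e]
  exact mul_inv_eq_iff_eq_mul.mpr ((show Commute n x from hN n hn).pow_right j).eq

theorem coprime_of_abelian {A : Type*} [CommGroup A] {p : ℕ} {s : Set A}
    (hs : ∀ x ∈ s, (orderOf x).Coprime p) (htop : Subgroup.closure s = ⊤) (x : A) :
    (orderOf x).Coprime p := by
  have hx : x ∈ Subgroup.closure s := htop ▸ Subgroup.mem_top x
  induction hx using Subgroup.closure_induction with
  | mem y hy => exact hs y hy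
  | one => simp
  | mul y z _ _ hy hz =>
    exact Nat.Coprime.coprime_dvd_left ((Commute.all y z).orderOf_mul_dvd_mul_orderOf)
      (hy.mul_left hz)
  | inv y _ hy => rwa [orderOf_inv]

end CfsgLib.Transfer
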