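import Mathlib
import Cfsg.Agent.Lib.Transfer.Frobenius
import Cfsg.Agent.Lib.OddOmega.Exp

/-!
Normal `p`-complements through the fusion of elements of order `p` (or `4`).
-/

set_option autoImplicit false
set_option linter.style.haveILetI false

namespace CfsgLib.Transfer

variable {G : Type*} [Group G] [Finite G] {p : ℕ} [Fact p.Prime]

/-- A `p'`-element fixing the elements of order dividing `p` (or `4`) of a `p`-group it normalizes
centralizes it. -/
theorem mem_centralizer_of_fixes_small {Q : Subgroup G} (hQ : IsPGroup p Q) {g : G}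
    (hg : g ∈ Subgroup.normalizer (Q : Set G)) (hgc : (orderOf g).Coprime p)
    (hfix : ∀ a ∈ Q, (a ^ p = 1 ∨ (p = 2 ∧ a ^ 4 = 1)) → g * a * g⁻¹ = a) :
    g ∈ Subgroup.centralizer (Q : Set G) := by
  set φ := Q.normalizerMonoidHom ⟨g, hg⟩ with hφ
  have h1 : φ = 1 := by
    refine CfsgLib.OddOmega.eq_one_of_fixes_exp hQ φ (fun h => ?_) fun x hx => ?_
    · exact (Fact.out : p.Prime).ne_one (Nat.eq_one_of_dvd_coprimes hgc
        (h.trans ((orderOf_map_dvd _ _).trans (by rw [← Subgroup.orderOf_coe]))) dvd_rfl)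
    · refine Subtype.ext (hfix x x.2 ?_)
      have hx' : (x : G) ^ CfsgLib.OddOmega.omegaExp p = 1 := congrArg Subtype.val hx
      unfold CfsgLib.OddOmega.omegaExp at hx'
      split at hx'
      · exact Or.inr ⟨by assumption, hx'⟩
      · exact Or.inl hx'
  have h2 : (⟨g, hg⟩ : Subgroup.normalizer (Q : Set G)) ∈ Q.normalizerMonoidHom.ker := h1
  rw [Subgroup.normalizerMonoidHom_ker] at h2
  exact h2

/-- If `p'`-elements move small elements of `F (i + 1)` only by elements of `F i`, they centralize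
every normalized `p`-subgroup of `F n`. -/
theorem mem_centralizer_of_series (F : ℕ → Subgroup G) (hF0 : F 0 = ⊥)
    (hstep : ∀ (i : ℕ) (Q : Subgroup G), IsPGroup p Q → Q ≤ F (i + 1) →
      ∀ g ∈ Subgroup.normalizer (Q : Set G), ∀ a ∈ Q, (a ^ p = 1 ∨ (p = 2 ∧ a ^ 4 = 1)) →
        g * a * g⁻¹ * a⁻¹ ∈ F i) :
    ∀ (n : ℕ) (Q : Subgroup G), IsPGroup p Q → Q ≤ F n → ∀ g ∈ Subgroup.normalizer (Q : Set G),
      (orderOf g).Coprime p → g ∈ Subgroup.centralizer (Q : Set G) := by
  intro n
  induction n with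
  | zero =>
    intro Q _ hQ g _ _
    rw [Subgroup.mem_centralizer_iff]
    intro q hq
    have hq' := hQ hq
    rw [hF0, Subgroup.mem_bot] at hq'
    rw [hq', one_mul, mul_one]
  | succ i IH =>
    intro Q hQp hQ g hg hgc
    refine mem_centralizer_of_fixes_small hQp hg hgc fun a ha hsmall => ?_
    set w : ℕ → G := fun m => g ^ m * a * (g ^ m)⁻¹ * a⁻¹ with hw
    have hwF : ∀ m, w m ∈ F i := fun m => hstep i Q hQp hQ (g ^ m) (pow_mem hg m) a ha hsmall
    have hwQ : ∀ m, w m ∈ Q := fun m =>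
      mul_mem ((Subgroup.mem_normalizer_iff.mp (pow_mem hg m) a).mp ha) (inv_mem ha)
    set R := Subgroup.closure (Set.range fun m : ℕ => g ^ m * w 1 * (g ^ m)⁻¹) with hR
    have hgen : ∀ m, g ^ m * w 1 * (g ^ m)⁻¹ = w (m + 1) * (w m)⁻¹ := fun m => by
      simp only [hw, pow_succ]; group
    have hRle : R ≤ F i ⊓ Q := by
      rw [hR, Subgroup.closure_le]
      rintro _ ⟨m, rfl⟩
      simp only [SetLike.mem_coe, hgen]
      exact Subgroup.mem_inf.mpr
        ⟨mul_mem (hwF _) (inv_mem (hwF _)), mul_mem (hwQ _) (inv_mem (hwQ _))⟩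
    have hgR : g ∈ Subgroup.normalizer (R : Set G) := by
      have hmap : R.map (MulAut.conj g).toMonoidHom ≤ R := by
        rw [hR, MonoidHom.map_closure]
        refine Subgroup.closure_mono ?_
        rintro _ ⟨_, ⟨m, rfl⟩, rfl⟩
        refine ⟨m + 1, ?_⟩
        change g ^ (m + 1) * w 1 * (g ^ (m + 1))⁻¹ = g * (g ^ m * w 1 * (g ^ m)⁻¹) * g⁻¹
        rw [pow_succ']; group
      have heq : R.map (MulAut.conj g).toMonoidHom = R :=
        Subgroup.eq_of_le_of_card_ge hmap
          (le_of_eq (Subgroup.card_map_of_injective (MulAut.conj g).injective).symm)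
      rw [Subgroup.mem_normalizer_iff]
      intro x
      conv_rhs => rw [← heq, mem_conj_map_iff]
      rw [show g⁻¹ * (g * x * g⁻¹) * g = x by group]
    have hc := IH R (hQp.to_le (hRle.trans inf_le_right)) (hRle.trans inf_le_left) g hgR hgc
    have h1mem : w 1 ∈ R := Subgroup.subset_closure ⟨0, by simp⟩
    have hcw : g * w 1 = w 1 * g := (Subgroup.mem_centralizer_iff.mp hc _ h1mem).symm
    have hfix : ∀ m : ℕ, g ^ m * w 1 * (g ^ m)⁻¹ = w 1 := fun m => by
      rw [(show Commute (g ^ m) (w 1) from (show Commute g (w 1) from hcw).pow_left m).eq,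
        mul_inv_cancel_right]
    have hpow : ∀ m : ℕ, w m = w 1 ^ m := by
      intro m
      induction m with
      | zero => simp [hw]
      | succ m ih => rw [pow_succ', ← ih, ← hfix m, hgen, inv_mul_cancel_right]
    have h1 : w 1 ^ orderOf g = 1 := by
      rw [← hpow]
      simp [hw, pow_orderOf_eq_one]
    obtain ⟨k, hk⟩ := hQp ⟨w 1, hwQ 1⟩
    have hk' : w 1 ^ p ^ k = 1 := congrArg Subtype.val hk
    have hw1 : w 1 = 1 := orderOf_eq_one_iff.mp (Nat.eq_one_of_dvd_coprimes (hgc.pow_right k)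
      (orderOf_dvd_of_pow_eq_one h1) (orderOf_dvd_of_pow_eq_one hk'))
    simp only [hw, pow_one] at hw1
    exact mul_inv_eq_one.mp hw1

end CfsgLib.Transfer
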