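import Mathlib
import Cfsg.Agent.Lib.Transfer.Basic
import Cfsg.Agent.Lib.Transfer.Sylow
import Cfsg.Agent.Lib.Transfer.Thompson
import Cfsg.Agent.Lib.PSolvable.Omega

/-!
Grün's first theorem.
-/

set_option autoImplicit false
set_option linter.style.haveILetI false

namespace CfsgLib.Transfer

open scoped commutatorElement

variable {G : Type*} [Group G] [Finite G] {p : ℕ} [hp : Fact p.Prime]

/-- Grün's generators of the focal subgroup. -/
def gruenSub (P : Sylow p G) : Subgroup G :=
  ((P : Subgroup G) ⊓ ⁅Subgroup.normalizer ((P : Subgroup G) : Set G),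
      Subgroup.normalizer ((P : Subgroup G) : Set G)⁆) ⊔
    ⨆ z : G, (P : Subgroup G) ⊓
      (⁅(P : Subgroup G), (P : Subgroup G)⁆).map (MulAut.conj z).toMonoidHom

omit [Finite G] hp in
theorem gruenSub_le (P : Sylow p G) : gruenSub P ≤ (P : Subgroup G) :=
  sup_le inf_le_left (iSup_le fun _ => inf_le_left)

theorem inf_commutator_eq_gruenSub (P : Sylow p G) :
    (P : Subgroup G) ⊓ commutator G = gruenSub P := by
  classical
  set T := gruenSub P with hT
  have hder : ⁅(P : Subgroup G), (P : Subgroup G)⁆ ≤ T := fun x hx => Subgroup.mem_sup_left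
    ⟨Subgroup.commutator_le_self _ hx,
      Subgroup.commutator_mono Subgroup.le_normalizer Subgroup.le_normalizer hx⟩
  refine le_antisymm ?_ (sup_le (inf_le_inf_left _ (Subgroup.commutator_mono le_top le_top))
    (iSup_le fun z => inf_le_inf_left _ (by
      rw [Subgroup.map_commutator]
      exact Subgroup.commutator_mono le_top le_top)))
  haveI hTn : (T.subgroupOf (P : Subgroup G)).Normal :=
    Subgroup.Normal.of_commutator_le _ fun c hc => hder (by
      have h1 : (c : G) ∈ (commutator ↥(P : Subgroup G)).map (P : Subgroup G).subtype := ⟨c, hc, rfl⟩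
      rwa [Subgroup.map_subtype_commutator] at h1)
  letI : CommGroup (↥(P : Subgroup G) ⧸ T.subgroupOf (P : Subgroup G)) :=
    { (inferInstance : Group (↥(P : Subgroup G) ⧸ T.subgroupOf (P : Subgroup G))) with
      mul_comm := fun a b => by
        obtain ⟨a, rfl⟩ := QuotientGroup.mk'_surjective _ a
        obtain ⟨b, rfl⟩ := QuotientGroup.mk'_surjective _ b
        rw [← commutatorElement_eq_one_iff_mul_comm, ← map_commutatorElement]
        exact (QuotientGroup.eq_one_iff _).mpr
          (hder (Subgroup.commutator_mem_commutator a.2 b.2)) }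
  let θ := QuotientGroup.mk' (T.subgroupOf (P : Subgroup G))
  have hθ1 : ∀ y : ↥(P : Subgroup G), θ y = 1 ↔ (y : G) ∈ T := fun y => QuotientGroup.eq_one_iff y
  suffices h : ∀ (n : ℕ) (x : G), orderOf x = n → x ∈ (P : Subgroup G) → x ∈ commutator G → x ∈ T from
    fun x hx => h _ x rfl hx.1 hx.2
  intro n
  induction n using Nat.strong_induction_on with
  | _ n IH =>
  intro x hxn hxP hxc
  obtain ⟨k, hk⟩ := P.2 ⟨x, hxP⟩
  have hk' : x ^ p ^ k = 1 := congrArg Subtype.val hk
  -- smaller elements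
  have hlow : ∀ (j : ℕ) (a : G), p ∣ j → a⁻¹ * x ^ j * a ∈ (P : Subgroup G) → a⁻¹ * x ^ j * a ∈ T := by
    intro j a hj ha
    by_cases hx1 : x = 1
    · rw [hx1]; simp
    refine IH _ ?_ _ rfl ha ?_
    · have h0 := orderOf_conj a⁻¹ (x ^ j)
      rw [inv_inv] at h0
      rw [h0, ← hxn]
      refine lt_of_le_of_ne (Nat.le_of_dvd (orderOf_pos x)
        (orderOf_dvd_of_mem_zpowers (pow_mem (Subgroup.mem_zpowers x) j))) fun h => ?_
      have h2 : (orderOf x).Coprime j := by
        rw [orderOf_pow] at h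
        exact ((Nat.div_eq_self.mp h).resolve_left (orderOf_pos x).ne')
      obtain ⟨i, -, hi⟩ := (Nat.dvd_prime_pow hp.out).mp (orderOf_dvd_of_pow_eq_one hk')
      rcases Nat.eq_zero_or_pos i with rfl | hipos
      · exact hx1 (orderOf_eq_one_iff.mp (by rw [hi, pow_zero]))
      · exact hp.out.not_dvd_one
          ((Nat.dvd_gcd (hi ▸ dvd_pow_self p (Nat.pos_iff_ne_zero.mp hipos)) hj).trans h2.dvd)
    · have h1 := (inferInstance : (commutator G).Normal).conj_mem _
        ((commutator G).pow_mem hxc j) a⁻¹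
      rwa [inv_inv] at h1
  have htr : MonoidHom.transfer θ x = 1 :=
    Abelianization.commutator_subset_ker (MonoidHom.transfer θ) hxc
  letI := Fintype.ofFinite (G ⧸ (P : Subgroup G))
  letI := Fintype.ofFinite (Quotient (MulAction.orbitRel (Subgroup.zpowers x) (G ⧸ (P : Subgroup G))))
  let val : G ⧸ (P : Subgroup G) → ↥(P : Subgroup G) ⧸ T.subgroupOf (P : Subgroup G) := fun q =>
    if h : q.out⁻¹ * x * q.out ∈ (P : Subgroup G) then θ ⟨_, h⟩ else 1
  have hfixmem : ∀ q : G ⧸ (P : Subgroup G), x • q = q → q.out⁻¹ * x * q.out ∈ (P : Subgroup G) :=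
    fun q => mem_of_smul_eq
  -- only the fixed cosets count
  have hsum : MonoidHom.transfer θ x =
      ∏ q ∈ Finset.univ.filter (fun q : G ⧸ (P : Subgroup G) => x • q = q), val q := by
    rw [MonoidHom.transfer_eq_prod_quotient_orbitRel_zpowers_quot]
    have horb : ∀ q : G ⧸ (P : Subgroup G), x • q = q →
        ∀ r, r ∈ MulAction.orbit (Subgroup.zpowers x) q → r = q := by
      rintro q hq r ⟨⟨g, hg⟩, rfl⟩
      exact (MulAction.mem_stabilizer_iff.mp
        (Subgroup.zpowers_le.mpr (MulAction.mem_stabilizer_iff.mpr hq) hg) : g • q = q)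
    rw [← Finset.prod_filter_of_ne (p := fun Q => x • Q.out = Q.out)]
    · refine Finset.prod_nbij' (fun Q => Q.out) (fun q => Quotient.mk'' q) ?_ ?_ ?_ ?_ ?_
      · intro Q hQ; simpa using hQ
      · intro q hq
        simp only [Finset.mem_filter, Finset.mem_univ, true_and] at hq ⊢
        rw [horb q hq (Quotient.mk'' q).out (MulAction.orbitRel_apply.mp (@Quotient.mk_out _ (MulAction.orbitRel (Subgroup.zpowers x) (G ⧸ (P : Subgroup G))) q))]
        exact hq
      · intro Q _; exact Q.out_eq'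
      · intro q hq
        simp only [Finset.mem_filter, Finset.mem_univ, true_and] at hq
        exact horb q hq (Quotient.mk'' q).out (MulAction.orbitRel_apply.mp (@Quotient.mk_out _ (MulAction.orbitRel (Subgroup.zpowers x) (G ⧸ (P : Subgroup G))) q))
      · intro Q hQ
        simp only [Finset.mem_filter, Finset.mem_univ, true_and] at hQ
        have hper : Function.minimalPeriod (x • ·) Q.out = 1 :=
          Function.minimalPeriod_eq_one_iff_isFixedPt.mpr hQ
        simp only [val, dif_pos (hfixmem _ hQ)]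
        congr 1
        exact Subtype.ext (by simp [hper])
    · intro Q _ hne
      by_contra hQ
      refine hne ((hθ1 _).mpr (hlow _ _ ?_
        (QuotientGroup.out_conj_pow_minimalPeriod_mem (P : Subgroup G) x Q.out)))
      have hdvd : Function.minimalPeriod (x • ·) Q.out ∣ p ^ k := by
        refine Function.IsPeriodicPt.minimalPeriod_dvd ?_
        show (x • ·)^[p ^ k] Q.out = Q.out
        simp [smul_iterate, hk']
      obtain ⟨i, -, hi⟩ := (Nat.dvd_prime_pow hp.out).mp hdvd
      rcases Nat.eq_zero_or_pos i with rfl | hipos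
      · exact absurd (Function.minimalPeriod_eq_one_iff_isFixedPt.mp (hi.trans (pow_zero p))) hQ
      · exact hi ▸ dvd_pow_self p (Nat.pos_iff_ne_zero.mp hipos)
  -- orbits of the Sylow subgroup
  let orb : G ⧸ (P : Subgroup G) → Set (G ⧸ (P : Subgroup G)) := fun q =>
    MulAction.orbit ↥(P : Subgroup G) q
  set F := Finset.univ.filter (fun q : G ⧸ (P : Subgroup G) => x • q = q) with hF
  set F₁ := Finset.univ.filter
    (fun q : G ⧸ (P : Subgroup G) => ∀ u : ↥(P : Subgroup G), u • q = q) with hF₁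
  have hF₁F : F₁ ⊆ F := fun q hq => by
    rw [hF₁, Finset.mem_filter] at hq
    rw [hF, Finset.mem_filter]
    exact ⟨Finset.mem_univ _, hq.2 ⟨x, hxP⟩⟩
  have hval1 : ∀ q ∈ F₁, val q = θ ⟨x, hxP⟩ := by
    intro q hq
    rw [hF₁, Finset.mem_filter] at hq
    have hz : ∀ u ∈ (P : Subgroup G), q.out⁻¹ * u * q.out ∈ (P : Subgroup G) := fun u hu =>
      mem_of_smul_eq (hq.2 ⟨u, hu⟩)
    have hzn : q.out⁻¹ ∈ Subgroup.normalizer ((P : Subgroup G) : Set G) :=
      Subgroup.mem_normalizer_fintype fun u hu => by rw [inv_inv]; exact hz u hu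
    simp only [val, dif_pos (hz x hxP)]
    refine eq_of_inv_mul_eq_one ?_
    rw [← map_inv, ← map_mul, hθ1]
    refine Subgroup.mem_sup_left ⟨(P : Subgroup G).mul_mem ((P : Subgroup G).inv_mem (hz x hxP)) hxP, ?_⟩
    show (q.out⁻¹ * x * q.out)⁻¹ * x ∈ _
    rw [show (q.out⁻¹ * x * q.out)⁻¹ * x = ⁅q.out⁻¹, x⁻¹⁆ by rw [commutatorElement_def]; group]
    exact Subgroup.commutator_mem_commutator hzn (Subgroup.le_normalizer (inv_mem hxP))
  have hrest : ∏ q ∈ F \ F₁, val q = 1 := by
    rw [← Finset.prod_fiberwise_of_maps_to (t := (F \ F₁).image orb) (g := orb)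
      (fun q hq => Finset.mem_image_of_mem _ hq)]
    refine Finset.prod_eq_one fun O hO => ?_
    obtain ⟨q₀, hq₀, rfl⟩ := Finset.mem_image.mp hO
    rw [Finset.mem_sdiff] at hq₀
    have hq₀F : x • q₀ = q₀ := by simpa [hF] using hq₀.1
    have hx0 := hfixmem q₀ hq₀F
    have hconst : ∀ q ∈ (F \ F₁).filter (fun q => orb q = orb q₀), val q = val q₀ := by
      intro q hq
      rw [Finset.mem_filter, Finset.mem_sdiff] at hq
      have hqF : x • q = q := by simpa [hF] using hq.1.1
      obtain ⟨⟨u, hu⟩, huq⟩ : q ∈ orb q₀ := hq.2 ▸ MulAction.mem_orbit_self q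
      obtain ⟨w, hw, hwe⟩ : ∃ w ∈ (P : Subgroup G), q.out = u * q₀.out * w := by
        have h1 : (QuotientGroup.mk (u * q₀.out) : G ⧸ (P : Subgroup G)) = QuotientGroup.mk q.out := by
          rw [QuotientGroup.out_eq', ← huq]
          show _ = u • q₀
          conv_rhs => rw [← QuotientGroup.out_eq' q₀]
          rfl
        exact ⟨(u * q₀.out)⁻¹ * q.out, QuotientGroup.eq.mp h1, by group⟩
      simp only [val, dif_pos (hfixmem q hqF), dif_pos hx0]
      have hy : (q₀.out)⁻¹ * (u⁻¹ * x * u) * q₀.out ∈ (P : Subgroup G) := by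
        have h1 := mul_mem (mul_mem hw (hfixmem q hqF)) (inv_mem hw)
        rw [hwe] at h1
        convert h1 using 1
        group
      have e1 : (⟨q.out⁻¹ * x * q.out, hfixmem q hqF⟩ : ↥(P : Subgroup G))
          = (⟨w, hw⟩ : ↥(P : Subgroup G))⁻¹ * ⟨_, hy⟩ * ⟨w, hw⟩ := Subtype.ext (by
        show q.out⁻¹ * x * q.out = w⁻¹ * ((q₀.out)⁻¹ * (u⁻¹ * x * u) * q₀.out) * w
        rw [hwe]; group)
      rw [e1, map_mul, map_mul, map_inv, mul_comm (θ ⟨w, hw⟩)⁻¹, inv_mul_cancel_right]
      refine (eq_of_inv_mul_eq_one ?_).symm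
      rw [← map_inv, ← map_mul, hθ1]
      refine Subgroup.mem_sup_right (Subgroup.mem_iSup_of_mem q₀.out⁻¹
        ⟨(P : Subgroup G).mul_mem ((P : Subgroup G).inv_mem hx0) hy, ?_⟩)
      refine ⟨⁅x⁻¹, u⁻¹⁆, Subgroup.commutator_mem_commutator (inv_mem hxP) (inv_mem hu), ?_⟩
      show q₀.out⁻¹ * ⁅x⁻¹, u⁻¹⁆ * q₀.out⁻¹⁻¹
        = (q₀.out⁻¹ * x * q₀.out)⁻¹ * (q₀.out⁻¹ * (u⁻¹ * x * u) * q₀.out)
      rw [commutatorElement_def]
      group
    rw [Finset.prod_congr rfl hconst, Finset.prod_const]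
    have hpow : val q₀ ^ p = 1 := by
      simp only [val, dif_pos hx0]
      rw [← map_pow, hθ1]
      show (q₀.out⁻¹ * x * q₀.out) ^ p ∈ T
      have e : (q₀.out⁻¹ * x * q₀.out) ^ p = q₀.out⁻¹ * x ^ p * q₀.out := by
        have := conj_pow (a := q₀.out⁻¹) (b := x) (i := p)
        rwa [inv_inv] at this
      rw [e]
      exact hlow p _ dvd_rfl (e ▸ pow_mem hx0 p)
    refine orderOf_dvd_iff_pow_eq_one.mp ((orderOf_dvd_of_pow_eq_one hpow).trans ?_)
    -- the fixed points of `x` in a non-trivial orbit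
    set u₀ : ↥(P : Subgroup G) := ⟨x, hxP⟩
    have hzp : IsPGroup p (Subgroup.zpowers u₀) := P.2.to_subgroup _
    have hmod := hzp.card_modEq_card_fixedPoints (MulAction.orbit ↥(P : Subgroup G) q₀)
    have horbit : p ∣ Nat.card (MulAction.orbit ↥(P : Subgroup G) q₀) := by
      obtain ⟨i, hi⟩ := P.2.card_orbit q₀
      rw [hi]
      rcases Nat.eq_zero_or_pos i with rfl | hipos
      · exfalso
        rw [pow_zero, Nat.card_eq_one_iff_unique] at hi
        refine hq₀.2 ?_
        rw [hF₁, Finset.mem_filter]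
        exact ⟨Finset.mem_univ _, fun u => congrArg Subtype.val
          (hi.1.elim (⟨u • q₀, MulAction.mem_orbit q₀ u⟩ : MulAction.orbit ↥(P : Subgroup G) q₀)
            ⟨q₀, MulAction.mem_orbit_self q₀⟩)⟩
      · exact dvd_pow_self p (Nat.pos_iff_ne_zero.mp hipos)
    have hfp : p ∣ Nat.card (MulAction.fixedPoints (Subgroup.zpowers u₀)
        (MulAction.orbit ↥(P : Subgroup G) q₀)) :=
      Nat.modEq_zero_iff_dvd.mp (hmod.symm.trans (Nat.modEq_zero_iff_dvd.mpr horbit))
    refine hfp.trans (dvd_of_eq (Eq.symm ?_))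
    rw [← Nat.card_eq_finsetCard]
    refine Nat.card_congr
      { toFun := fun q => ⟨⟨q.1, ?_⟩, ?_⟩
        invFun := fun r => ⟨r.1.1, ?_⟩
        left_inv := fun _ => rfl
        right_inv := fun _ => rfl }
    · have := q.2
      rw [Finset.mem_filter] at this
      exact MulAction.orbit_eq_iff.mp this.2
    · have := q.2
      rw [Finset.mem_filter, Finset.mem_sdiff] at this
      intro g
      obtain ⟨g, hg⟩ := g
      refine Subtype.ext ?_
      show g • (q : G ⧸ (P : Subgroup G)) = q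
      refine MulAction.mem_stabilizer_iff.mp (Subgroup.zpowers_le.mpr ?_ hg)
      refine MulAction.mem_stabilizer_iff.mpr ?_
      show x • (q : G ⧸ (P : Subgroup G)) = q
      simpa [hF] using this.1.1
    · have h1 := congrArg Subtype.val (r.2 ⟨u₀, Subgroup.mem_zpowers u₀⟩)
      rw [Finset.mem_filter, Finset.mem_sdiff]
      refine ⟨⟨Finset.mem_filter.mpr ⟨Finset.mem_univ _, h1⟩, fun hmem => ?_⟩,
        MulAction.orbit_eq_iff.mpr r.1.2⟩
      rw [hF₁, Finset.mem_filter] at hmem
      refine hq₀.2 ?_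
      rw [hF₁, Finset.mem_filter]
      refine ⟨Finset.mem_univ _, fun u => ?_⟩
      obtain ⟨v, hv⟩ := MulAction.mem_orbit_iff.mp r.1.2
      have h2 : q₀ = r.1.1 := by
        rw [← hmem.2 v⁻¹, ← hv, inv_smul_smul]
      rw [h2]
      exact hmem.2 u
  have hcount : ¬ p ∣ F₁.card := by
    intro hd
    refine P.not_dvd_index ?_
    refine Nat.modEq_zero_iff_dvd.mp ((P.2.card_modEq_card_fixedPoints
      (G ⧸ (P : Subgroup G))).trans (Nat.modEq_zero_iff_dvd.mpr ?_))
    convert hd using 1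
    rw [hF₁, ← Nat.card_eq_finsetCard]
    exact Nat.card_congr (Equiv.subtypeEquivRight fun q => by simp [MulAction.mem_fixedPoints])
  rw [hsum, ← Finset.prod_sdiff hF₁F, hrest, one_mul, Finset.prod_congr rfl hval1,
    Finset.prod_const] at htr
  rw [← hθ1 ⟨x, hxP⟩]
  by_contra hne
  exact pow_ne_one_of_coprime_prime ⟨k, by rw [← map_pow, hk, map_one]⟩ hne
    (hp.out.coprime_iff_not_dvd.mpr hcount) htr

end CfsgLib.Transfer
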