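import Mathlib

/-!
Wreath quotients `C_p ≀ C_p` of `p`-groups, and products of cocycles over orbits.
-/

set_option autoImplicit false

namespace CfsgLib.Transfer

open Finset

variable {p : ℕ} [Fact p.Prime]

section Shift

/-- The shift of sequences. -/
def seqShift : Module.End (ZMod p) (ℕ → ZMod p) where
  toFun v k := v (k + 1)
  map_add' _ _ := rfl
  map_smul' _ _ := rfl

theorem seqShift_pow (n : ℕ) (v : ℕ → ZMod p) (k : ℕ) :
    ((seqShift (p := p)) ^ n) v k = v (k + n) := by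
  induction n generalizing k with
  | zero => rfl
  | succ n ih =>
    rw [pow_succ', Module.End.mul_apply]
    show ((seqShift (p := p)) ^ n) v (k + 1) = _
    rw [ih, Nat.add_right_comm, Nat.add_assoc]

open Polynomial in
theorem sub_one_pow_pred :
    ((X : (ZMod p)[X]) - 1) ^ (p - 1) = ∑ k ∈ range p, X ^ k := by
  refine mul_right_cancel₀ (X_sub_C_ne_zero (1 : ZMod p)) ?_
  rw [map_one, geom_sum_mul, ← pow_succ, Nat.sub_add_cancel (Fact.out : p.Prime).one_le,
    sub_pow_char, one_pow]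

/-- The differences of a periodic sequence with non-zero sum are linearly independent. -/
theorem seqShift_injective {v : ℕ → ZMod p} (hper : ∀ k, v (k + p) = v k)
    (hsum : ∑ k ∈ range p, v k ≠ 0) :
    Function.Injective fun a : Fin p → ZMod p =>
      ∑ j : Fin p, a j • ((seqShift (p := p) - 1) ^ (j : ℕ)) v := by
  set D : Module.End (ZMod p) (ℕ → ZMod p) := seqShift - 1 with hD
  have htop : (D ^ (p - 1)) v ≠ 0 := by
    intro h
    have h1 := congrArg (Polynomial.aeval (seqShift (p := p))) (sub_one_pow_pred (p := p))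
    simp only [map_pow, map_sub, Polynomial.aeval_X, map_one, map_sum] at h1
    rw [← hD] at h1
    rw [h1] at h
    have h2 := congrFun h 0
    simp only [LinearMap.sum_apply, Finset.sum_apply, seqShift_pow, zero_add] at h2
    exact hsum h2
  have hzero : (D ^ p) v = 0 := by
    have h1 := congrArg (Polynomial.aeval (seqShift (p := p)))
      (sub_pow_char (Polynomial.X : Polynomial (ZMod p)) 1)
    simp only [one_pow, map_pow, map_sub, Polynomial.aeval_X, map_one] at h1
    rw [← hD] at h1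
    rw [h1]
    funext k
    simp only [LinearMap.sub_apply, Pi.sub_apply, seqShift_pow, Module.End.one_apply, hper,
      sub_self, Pi.zero_apply]
  have hhigh : ∀ n, p ≤ n → (D ^ n) v = 0 := fun n hn => by
    rw [← Nat.sub_add_cancel hn, pow_add, Module.End.mul_apply, hzero, map_zero]
  intro a b hab
  by_contra hne
  have hex : ∃ j : Fin p, a j ≠ b j := Function.ne_iff.1 hne
  obtain ⟨j₀, hj₀, hmin⟩ := WellFounded.has_min (IsWellFounded.wf (r := (· < · : Fin p → Fin p → Prop)))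
    {j : Fin p | a j ≠ b j} hex
  have h0 : ∑ j : Fin p, (a j - b j) • (D ^ (j : ℕ)) v = 0 := by
    simp only [sub_smul, sum_sub_distrib]
    exact sub_eq_zero.2 hab
  have h1 := congrArg (D ^ (p - 1 - (j₀ : ℕ))) h0
  rw [map_sum, map_zero, Finset.sum_eq_single j₀] at h1
  · rw [map_smul, ← Module.End.mul_apply, ← pow_add,
      Nat.sub_add_cancel (Nat.le_sub_one_of_lt j₀.2)] at h1
    rcases smul_eq_zero.1 h1 with h | h
    · exact hj₀ (sub_eq_zero.1 h)
    · exact htop h
  · intro j _ hj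
    rw [map_smul]
    rcases lt_or_gt_of_ne hj with hlt | hgt
    · have : a j = b j := by_contra fun h => hmin j h hlt
      rw [this, sub_self, zero_smul]
    · rw [← Module.End.mul_apply, ← pow_add, hhigh, smul_zero]
      have := j₀.2
      have : (j₀ : ℕ) < (j : ℕ) := hgt
      omega
  · simp

end Shift

variable {S : Type*} [Group S] [Finite S]

/-- A homomorphism of a maximal subgroup with non-trivial transfer gives a wreath quotient. -/
theorem exists_wreath_quotient (hS : IsPGroup p S) (M : Subgroup S) [hMn : M.Normal]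
    (hM : M.index = p) (θ : M →* Multiplicative (ZMod p)) {g : S} (hg : g ∉ M) (x : M)
    (hsum : ∑ k ∈ range p, (θ ⟨(g ^ k)⁻¹ * (x : S) * g ^ k, hMn.conj_mem' _ x.2 _⟩).toAdd ≠ 0) :
    ∃ (W : Sylow p (Equiv.Perm (Fin (p ^ 2)))) (f : S →* ↥(W : Subgroup (Equiv.Perm (Fin (p ^ 2))))),
      Function.Surjective f := by
  have hp := (Fact.out : p.Prime)
  let Φ : M → ℕ → ZMod p := fun m k =>
    (θ ⟨(g ^ k)⁻¹ * (m : S) * g ^ k, hMn.conj_mem' _ m.2 _⟩).toAdd
  have hΦmul : ∀ m n, Φ (m * n) = Φ m + Φ n := fun m n => funext fun k => by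
    show (θ _).toAdd = (θ _).toAdd + (θ _).toAdd
    rw [← toAdd_mul, ← map_mul]
    exact congrArg (fun y => (θ y).toAdd) (Subtype.ext (by simp [mul_assoc]))
  let Φh : M →* Multiplicative (ℕ → ZMod p) :=
    MonoidHom.mk' (fun m => Multiplicative.ofAdd (Φ m)) fun m n => by
      show Multiplicative.ofAdd (Φ (m * n)) = _
      rw [hΦmul]; rfl
  have hgp : g ^ p ∈ M := hM ▸ M.pow_index_mem g
  have hper : ∀ k, Φ x (k + p) = Φ x k := fun k => by
    let m : M := ⟨(g ^ k)⁻¹ * (x : S) * g ^ k, hMn.conj_mem' _ x.2 _⟩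
    show (θ _).toAdd = (θ m).toAdd
    rw [show (⟨(g ^ (k + p))⁻¹ * (x : S) * g ^ (k + p), hMn.conj_mem' _ x.2 _⟩ : M) =
      ⟨g ^ p, hgp⟩⁻¹ * m * ⟨g ^ p, hgp⟩ from Subtype.ext (by simp [m, pow_add, mul_assoc]),
      map_mul θ, map_mul θ, map_inv θ, toAdd_mul, toAdd_mul, toAdd_inv]
    abel
  have hshift : ∀ m : M, ∃ m' : M, Φ m' = (seqShift (p := p) - 1) (Φ m) := fun m => by
    refine ⟨⟨g⁻¹ * (m : S) * g, hMn.conj_mem' _ m.2 _⟩ * m⁻¹, ?_⟩
    have hinv : Φ m⁻¹ = -Φ m := by
      have h1 := hΦmul m⁻¹ m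
      rw [inv_mul_cancel] at h1
      have h2 := hΦmul 1 1
      rw [mul_one] at h2
      rw [left_eq_add.1 h2] at h1
      exact eq_neg_of_add_eq_zero_left h1.symm
    rw [hΦmul, hinv, ← sub_eq_add_neg, LinearMap.sub_apply, Module.End.one_apply]
    congr 1
    funext k
    show (θ _).toAdd = (θ _).toAdd
    exact congrArg (fun y => (θ y).toAdd) (Subtype.ext (by simp [pow_succ', mul_assoc]))
  let V : AddSubgroup (ℕ → ZMod p) := AddSubgroup.closure (Set.range Φ)
  have hV : ∀ w ∈ V, ∃ m : M, Φ m = w := by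
    intro w hw
    have : AddSubgroup.closure (Set.range Φ) ≤ Φh.range.toAddSubgroup' := by
      refine (AddSubgroup.closure_le _).2 ?_
      rintro _ ⟨m, rfl⟩
      exact ⟨m, rfl⟩
    obtain ⟨m, hm⟩ := this hw
    exact ⟨m, Multiplicative.ofAdd.injective hm⟩
  have hpow : ∀ j : ℕ, ((seqShift (p := p) - 1) ^ j) (Φ x) ∈ V := by
    intro j
    induction j with
    | zero => exact AddSubgroup.subset_closure ⟨x, rfl⟩
    | succ j ih =>
      obtain ⟨m, hm⟩ := hV _ ih
      obtain ⟨m', hm'⟩ := hshift m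
      rw [pow_succ', Module.End.mul_apply, ← hm, ← hm']
      exact AddSubgroup.subset_closure ⟨m', rfl⟩
  have hcardΦ : p ^ p ≤ Φh.ker.index := by
    rw [Subgroup.index_ker]
    have hmem : ∀ a : Fin p → ZMod p, Multiplicative.ofAdd
        (∑ j : Fin p, a j • ((seqShift (p := p) - 1) ^ (j : ℕ)) (Φ x)) ∈ Φh.range := by
      intro a
      obtain ⟨m, hm⟩ := hV _ (AddSubgroup.sum_mem V (t := (Finset.univ : Finset (Fin p)))
        (f := fun j => a j • ((seqShift (p := p) - 1) ^ (j : ℕ)) (Φ x)) fun j _ => by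
        rw [← ZMod.natCast_zmod_val (a j), Nat.cast_smul_eq_nsmul]
        exact V.nsmul_mem (hpow j) _)
      exact ⟨m, congrArg Multiplicative.ofAdd hm⟩
    have : Finite Φh.range := (Set.finite_range Φh).to_subtype
    calc p ^ p = Nat.card (Fin p → ZMod p) := by
          rw [Nat.card_fun, Nat.card_zmod, Nat.card_fin]
      _ ≤ Nat.card Φh.range := Nat.card_le_card_of_injective (fun a => ⟨_, hmem a⟩)
          fun a b h => seqShift_injective hper hsum
            (Multiplicative.ofAdd.injective (congrArg Subtype.val h))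
  -- the action on the cosets of `ker θ`
  let K : Subgroup S := θ.ker.map M.subtype
  have hθ : θ.range = ⊤ := by
    have : Fact (Nat.card (Multiplicative (ZMod p))).Prime :=
      ⟨by rw [Nat.card_eq_of_bijective Multiplicative.toAdd Multiplicative.toAdd.bijective,
        Nat.card_zmod]; exact hp⟩
    refine θ.range.eq_bot_or_eq_top_of_prime_card.resolve_left fun h => hsum ?_
    exact Finset.sum_eq_zero fun k _ => by
      have : θ ⟨(g ^ k)⁻¹ * (x : S) * g ^ k, hMn.conj_mem' _ x.2 _⟩ ∈ θ.range := ⟨_, rfl⟩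
      rw [h, Subgroup.mem_bot] at this
      rw [this, toAdd_one]
  have hKi : K.index = p ^ 2 := by
    rw [Subgroup.index_map_subtype, Subgroup.index_ker, hθ, Subgroup.card_top, hM,
      Nat.card_eq_of_bijective Multiplicative.toAdd Multiplicative.toAdd.bijective, Nat.card_zmod,
      sq]
  let e : S ⧸ K ≃ Fin (p ^ 2) := (Finite.equivFin _).trans (finCongr hKi)
  let f₀ : S →* Equiv.Perm (Fin (p ^ 2)) :=
    e.permCongrHom.toMonoidHom.comp (MulAction.toPermHom S (S ⧸ K))
  have hker : f₀.ker = K.normalCore := by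
    rw [Subgroup.normalCore_eq_ker]
    ext s
    simp only [f₀, MonoidHom.mem_ker, MonoidHom.comp_apply]
    exact map_eq_one_iff _ e.permCongrHom.injective
  obtain ⟨W, hW⟩ := ((hS.of_surjective _ f₀.rangeRestrict_surjective).exists_le_sylow)
  have hval : padicValNat p (p * p).factorial = p + 1 := by
    have h1 := padicValNat_factorial_mul (p := p) 1
    rw [mul_one, Nat.factorial_one, padicValNat.one] at h1
    rw [padicValNat_factorial_mul, h1]
    omega
  have hWcard : Nat.card (W : Subgroup (Equiv.Perm (Fin (p ^ 2)))) = p ^ (p + 1) := by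
    rw [W.card_eq_multiplicity, Nat.card_perm, Nat.card_fin, Nat.factorization_def _ hp, sq, hval]
  have hrange : p ^ (p + 1) ≤ Nat.card f₀.range := by
    rw [← Subgroup.index_ker, hker]
    have h1 : K.normalCore ≤ M := (Subgroup.normalCore_le K).trans (Subgroup.map_subtype_le _)
    rw [← Subgroup.relIndex_mul_index h1, hM, pow_succ]
    refine Nat.mul_le_mul_right _ (hcardΦ.trans ?_)
    refine Subgroup.index_antitone (fun m hm => ?_)
    rw [MonoidHom.mem_ker]
    refine Multiplicative.toAdd.injective (funext fun k => ?_)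
    rw [Subgroup.mem_subgroupOf] at hm
    obtain ⟨y, hy, e'⟩ := hm (g ^ k)⁻¹
    rw [inv_inv] at e'
    show (θ _).toAdd = 0
    rw [show (⟨(g ^ k)⁻¹ * (m : S) * g ^ k, hMn.conj_mem' _ m.2 _⟩ : M) = y from
      Subtype.ext e'.symm, MonoidHom.mem_ker.1 hy, toAdd_one]
  have hWr : f₀.range = (W : Subgroup (Equiv.Perm (Fin (p ^ 2)))) :=
    Subgroup.eq_of_le_of_card_ge hW (hWcard ▸ hrange)
  exact ⟨W, f₀.codRestrict _ fun s => hW ⟨s, rfl⟩, fun w => by
    obtain ⟨s, hs⟩ := hWr.ge w.2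
    exact ⟨s, Subtype.ext hs⟩⟩

section Cocycle

variable {Q A : Type*} [MulAction S Q] [CommGroup A] (c : S → Q → A)

omit [Finite S] in
/-- A cocycle that is trivial on point stabilizers has trivial product over an invariant set. -/
theorem prod_eq_one_of_stabilizer (hc : ∀ u v q, c (u * v) q = c u (v • q) * c v q)
    (U : Subgroup S) (Z : Finset Q) (hZ : ∀ k ∈ U, ∀ q ∈ Z, k • q ∈ Z)
    (h : ∀ k ∈ U, ∀ q ∈ Z, k • q = q → c k q = 1) {u : S} (hu : u ∈ U) :
    ∏ q ∈ Z, c u q = 1 := by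
  classical
  let rel : Setoid Q :=
    { r := fun a b => ∃ k ∈ U, k • a = b
      iseqv := ⟨fun a => ⟨1, U.one_mem, one_smul _ _⟩,
        fun {a b} ⟨k, hk, e⟩ => ⟨k⁻¹, U.inv_mem hk, by rw [← e, inv_smul_smul]⟩,
        fun {a b d} ⟨k, hk, e⟩ ⟨l, hl, e'⟩ => ⟨l * k, U.mul_mem hl hk, by rw [mul_smul, e, e']⟩⟩ }
  let rep : Q → Q := fun q => (Quotient.mk rel q).out
  have hrep : ∀ q, ∃ k ∈ U, k • rep q = q := fun q => Quotient.mk_out (s := rel) q
  choose κ hκU hκ using hrep
  have key : ∀ q ∈ Z, c u q * c (κ q) (rep q) = c (κ (u • q)) (rep (u • q)) := by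
    intro q hq
    have hr : rep (u • q) = rep q :=
      congrArg Quotient.out (Quotient.sound (s := rel) ⟨u⁻¹, U.inv_mem hu, inv_smul_smul u q⟩)
    have hrq : rep q ∈ Z := by
      rw [← inv_smul_eq_iff.2 (hκ q).symm]
      exact hZ _ (U.inv_mem (hκU q)) _ hq
    have h1 : c u q * c (κ q) (rep q) = c (u * κ q) (rep q) := by rw [hc, hκ]
    rw [h1, hr]
    set k := (κ (u • q))⁻¹ * (u * κ q) with hk
    have hfix : k • rep q = rep q := by
      have e := hκ (u • q)
      rw [hr] at e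
      rw [hk, mul_smul, mul_smul, hκ q, inv_smul_eq_iff, e]
    have h2 := hc (κ (u • q)) k (rep q)
    rw [hfix, h k (U.mul_mem (U.inv_mem (hκU _)) (U.mul_mem hu (hκU q))) _ hrq hfix, mul_one, hk,
      mul_inv_cancel_left] at h2
    exact h2
  have h1 : ∏ q ∈ Z, (c u q * c (κ q) (rep q)) = ∏ q ∈ Z, c (κ q) (rep q) := by
    rw [Finset.prod_congr rfl key]
    exact Finset.prod_nbij' (u • ·) (u⁻¹ • ·) (fun q hq => hZ u hu q hq)
      (fun q hq => hZ _ (U.inv_mem hu) q hq) (fun q _ => inv_smul_smul u q)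
      (fun q _ => smul_inv_smul u q) (fun q _ => rfl)
  rw [Finset.prod_mul_distrib] at h1
  exact mul_eq_right.1 h1

variable [Fintype Q]

open Classical in
/-- Without wreath quotients only the fixed points count in the product of a cocycle. -/
theorem prod_eq_prod_fixed (hS : IsPGroup p S) (c : S → Q → Multiplicative (ZMod p))
    (hc : ∀ u v q, c (u * v) q = c u (v • q) * c v q) (x : S)
    (hlow : ∀ k ∈ Subgroup.zpowers x, Subgroup.zpowers k ≠ Subgroup.zpowers x → ∀ q,
      k • q = q → c k q = 1)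
    (hno : ¬ ∃ (W : Sylow p (Equiv.Perm (Fin (p ^ 2))))
      (f : S →* ↥(W : Subgroup (Equiv.Perm (Fin (p ^ 2))))), Function.Surjective f) :
    ∏ q, c x q =
      ∏ q ∈ Finset.univ.filter (fun q => ∀ s : S, s • q = q), c x q := by
  have hp := (Fact.out : p.Prime)
  rw [← Finset.prod_filter_mul_prod_filter_not Finset.univ (fun q : Q => ∀ s : S, s • q = q)]
  refine mul_eq_left.2 ?_
  rw [← Finset.prod_fiberwise_of_maps_to
    (g := fun q : Q => Quotient.mk (MulAction.orbitRel S Q) q) (fun q _ => Finset.mem_univ _)]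
  refine Finset.prod_eq_one fun o _ => ?_
  set O := (Finset.univ.filter fun q : Q => ¬ ∀ s : S, s • q = q).filter
    (fun q => Quotient.mk (MulAction.orbitRel S Q) q = o) with hO
  rcases O.eq_empty_or_nonempty with he | ⟨q₀, hq₀⟩
  · rw [he, Finset.prod_empty]
  simp only [hO, Finset.mem_filter, Finset.mem_univ, true_and] at hq₀
  have hmem : ∀ q, q ∈ O ↔ ∃ s : S, s • q₀ = q := by
    intro q
    simp only [hO, Finset.mem_filter, Finset.mem_univ, true_and]
    constructor
    · rintro ⟨-, h⟩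
      exact MulAction.orbitRel_apply.1 (Quotient.exact (h.trans hq₀.2.symm))
    · rintro ⟨s, rfl⟩
      refine ⟨fun h => hq₀.1 fun t => ?_, (Quotient.sound (s := MulAction.orbitRel S Q) (MulAction.orbitRel_apply.2 ⟨s, rfl⟩)).trans hq₀.2⟩
      have h1 := h (s * t * s⁻¹)
      rw [smul_smul, inv_mul_cancel_right, mul_smul] at h1
      exact smul_left_cancel s h1
  obtain ⟨M, hMP, hMn, hMi⟩ : ∃ M : Subgroup S, MulAction.stabilizer S q₀ ≤ M ∧ M.Normal ∧
      M.index = p := by
    obtain ⟨n, hn⟩ := hS.exists_card_eq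
    have hne : MulAction.stabilizer S q₀ ≠ ⊤ := fun h => hq₀.1 fun s =>
      MulAction.mem_stabilizer_iff.1 (h ▸ Subgroup.mem_top s)
    obtain ⟨a, ha⟩ := (hS.to_subgroup (MulAction.stabilizer S q₀)).exists_card_eq
    have han : a ≤ n - 1 := by
      have hlt : p ^ a < p ^ n := by
        rw [← ha, ← hn]
        exact lt_of_le_of_ne (Subgroup.card_le_card_group _) fun h => hne (Subgroup.eq_top_of_card_eq _ h)
      exact Nat.le_sub_one_of_lt ((Nat.pow_lt_pow_iff_right hp.one_lt).1 hlt)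
    have hn1 : n ≠ 0 := by
      rintro rfl
      rw [pow_zero] at hn
      exact hne (Subgroup.eq_top_of_card_eq _ (le_antisymm (Subgroup.card_le_card_group _)
        (hn ▸ Nat.card_pos)))
    obtain ⟨M, hMc, hMP⟩ := Sylow.exists_subgroup_card_pow_prime_le p
      (n := a) (m := n - 1) (by rw [hn]; exact pow_dvd_pow p (Nat.sub_le n 1))
      (MulAction.stabilizer S q₀) ha han
    have hMi : M.index = p := by
      have h1 := M.card_mul_index
      rw [hMc, hn] at h1
      refine Nat.eq_of_mul_eq_mul_left (Nat.pow_pos hp.pos (n := n - 1)) ?_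
      rw [h1, ← pow_succ, Nat.sub_add_cancel (Nat.one_le_iff_ne_zero.2 hn1)]
    refine ⟨M, hMP, Subgroup.normal_of_index_eq_minFac_card ?_, hMi⟩
    rw [hMi, hn, Nat.pow_minFac hn1, hp.minFac_eq]
  have hstab : ∀ k : S, ∀ q ∈ O, k • q = q → k ∈ M := by
    intro k q hq hk
    obtain ⟨s, rfl⟩ := (hmem q).1 hq
    have h1 : s⁻¹ * k * s ∈ MulAction.stabilizer S q₀ := by
      rw [MulAction.mem_stabilizer_iff, mul_smul, mul_smul, hk, inv_smul_smul]
    simpa [mul_assoc] using hMn.conj_mem _ (hMP h1) s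
  by_cases hx : x ∈ M
  swap
  · exact prod_eq_one_of_stabilizer c hc (Subgroup.zpowers x) O
      (fun k _ q hq => (hmem _).2 (by
        obtain ⟨s, rfl⟩ := (hmem q).1 hq
        exact ⟨k * s, mul_smul _ _ _⟩))
      (fun k hk q hq hkq => hlow k hk (fun h => hx (Subgroup.zpowers_le.2
        (hstab k q hq hkq) (h.ge (Subgroup.mem_zpowers x)))) q hkq)
      (Subgroup.mem_zpowers x)
  -- the fibres over `S ⧸ M`
  obtain ⟨g, hg⟩ : ∃ g, g ∉ M := SetLike.exists_not_mem_of_ne_top M (fun h => hp.one_lt.ne' (by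
    rw [← hMi, h, Subgroup.index_top])) rfl
  let F : ℕ → Finset Q := fun k => O.filter fun q => ∀ s : S, s • q₀ = q → (g ^ k)⁻¹ * s ∈ M
  have hF : ∀ k q, q ∈ F k ↔ ∃ s : S, s • q₀ = q ∧ (g ^ k)⁻¹ * s ∈ M := by
    intro k q
    simp only [F, Finset.mem_filter, hmem]
    constructor
    · rintro ⟨⟨s, hs⟩, h⟩
      exact ⟨s, hs, h s hs⟩
    · rintro ⟨s, hs, h⟩
      refine ⟨⟨s, hs⟩, fun t ht => ?_⟩
      have h1 : s⁻¹ * t ∈ M := hMP (by
        rw [MulAction.mem_stabilizer_iff, mul_smul, ht, ← hs, inv_smul_smul])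
      simpa [mul_assoc] using M.mul_mem h h1
  have hsplit : ∏ q ∈ O, c x q = ∏ k ∈ Finset.range p, ∏ q ∈ F k, c x q := by
    have hc' : Nat.card (S ⧸ M) = p := hMi
    have hgo : orderOf (g : S ⧸ M) = p := by
      refine orderOf_eq_prime ?_ ?_
      · rw [← hc']; exact pow_card_eq_one'
      · rwa [Ne, QuotientGroup.eq_one_iff]
    rw [← Finset.prod_biUnion]
    · refine Finset.prod_congr (Finset.ext fun q => ?_) fun _ _ => rfl
      rw [Finset.mem_biUnion]
      constructor
      · intro hq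
        obtain ⟨s, rfl⟩ := (hmem q).1 hq
        have htop : Subgroup.zpowers (g : S ⧸ M) = ⊤ :=
          Subgroup.eq_top_of_card_eq _ (by rw [Nat.card_zpowers, hgo, hc'])
        have hs : (s : S ⧸ M) ∈ Subgroup.zpowers (g : S ⧸ M) := htop ▸ Subgroup.mem_top _
        rw [mem_zpowers_iff_mem_range_orderOf, hgo, Finset.mem_image] at hs
        obtain ⟨k, hk, e⟩ := hs
        exact ⟨k, hk, (hF _ _).2 ⟨s, rfl, QuotientGroup.eq.1 (by rw [← e]; rfl)⟩⟩
      · rintro ⟨k, -, hq⟩
        exact (Finset.mem_filter.1 hq).1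
    · intro k hk l hl hkl
      rw [Function.onFun, Finset.disjoint_left]
      intro q hqk hql
      obtain ⟨s, hs, h1⟩ := (hF k q).1 hqk
      have h2 := (Finset.mem_filter.1 hql).2 s hs
      refine hkl (pow_injOn_Iio_orderOf (x := (g : S ⧸ M)) ?_ ?_ ?_)
      · rw [Set.mem_Iio, hgo]; exact Finset.mem_range.1 hk
      · rw [Set.mem_Iio, hgo]; exact Finset.mem_range.1 hl
      · exact (QuotientGroup.eq.2 h1).trans (QuotientGroup.eq.2 h2).symm
  have hF0 : ∀ m : M, ∀ q ∈ F 0, (m : S) • q ∈ F 0 := by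
    intro m q hq
    obtain ⟨s, hs, h⟩ := (hF 0 q).1 hq
    refine (hF 0 _).2 ⟨(m : S) * s, by rw [mul_smul, hs], ?_⟩
    simpa using M.mul_mem m.2 (by simpa using h)
  let θ : M →* Multiplicative (ZMod p) := MonoidHom.mk' (fun m => ∏ q ∈ F 0, c (m : S) q)
    fun m n => by
      simp only [Subgroup.coe_mul, hc, Finset.prod_mul_distrib]
      congr 1
      refine Finset.prod_nbij' ((n : S) • ·) ((n : S)⁻¹ • ·) (hF0 n) (fun q hq => ?_)
        (fun q _ => inv_smul_smul _ q) (fun q _ => smul_inv_smul _ q) (fun q _ => rfl)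
      exact hF0 n⁻¹ q hq
  have hfib : ∀ k, ∏ q ∈ F k, c x q = θ ⟨(g ^ k)⁻¹ * x * g ^ k, hMn.conj_mem' _ hx _⟩ := by
    intro k
    set m : M := ⟨(g ^ k)⁻¹ * x * g ^ k, hMn.conj_mem' _ hx _⟩ with hm
    have h1 : ∏ q ∈ F k, c x q = ∏ q ∈ F 0, c x (g ^ k • q) := by
      refine (Finset.prod_nbij' (g ^ k • ·) ((g ^ k)⁻¹ • ·) (fun q hq => ?_) (fun q hq => ?_)
        (fun q _ => inv_smul_smul _ q) (fun q _ => smul_inv_smul _ q) (fun q _ => rfl)).symm
      · obtain ⟨s, hs, h⟩ := (hF 0 q).1 hq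
        exact (hF k _).2 ⟨g ^ k * s, by rw [mul_smul, hs], by
          rw [inv_mul_cancel_left]; simpa using h⟩
      · obtain ⟨s, hs, h⟩ := (hF k q).1 hq
        exact (hF 0 _).2 ⟨(g ^ k)⁻¹ * s, by rw [mul_smul, hs], by simpa using h⟩
    have h2 : ∀ q, c x (g ^ k • q) * c (g ^ k) q = c (g ^ k) ((m : S) • q) * c (m : S) q := by
      intro q
      rw [← hc, ← hc]
      simp [hm, mul_assoc]
    rw [h1]
    show _ = ∏ q ∈ F 0, c (m : S) q
    have h3 := Finset.prod_congr (s₁ := F 0) rfl fun q _ => h2 q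
    rw [Finset.prod_mul_distrib, Finset.prod_mul_distrib,
      Finset.prod_nbij' (f := fun q => c (g ^ k) ((m : S) • q)) (g := fun q => c (g ^ k) q)
        ((m : S) • ·) ((m : S)⁻¹ • ·) (hF0 m) (fun q hq => hF0 m⁻¹ q hq)
        (fun q _ => inv_smul_smul _ q) (fun q _ => smul_inv_smul _ q) (fun q _ => rfl),
      mul_comm _ (∏ q ∈ F 0, c (m : S) q)] at h3
    exact mul_right_cancel h3
  rw [hsplit, Finset.prod_congr rfl fun k _ => hfib k]
  by_contra h
  refine hno (exists_wreath_quotient hS M hMi θ hg ⟨x, hx⟩ fun h0 => h ?_)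
  exact Multiplicative.toAdd.injective (by rw [toAdd_prod, toAdd_one]; exact h0)

end Cocycle

end CfsgLib.Transfer
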