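import Mathlib
import Cfsg.Prelude.Def_BaumannBlocks
import Cfsg.Agent.Lib.Transfer.Basic
import Cfsg.Agent.Lib.Transfer.Sylow
import Cfsg.Agent.Lib.Fusion.HyperfocalGroup
import Cfsg.Agent.Lib.Fusion.Tate
import Cfsg.Agent.Lib.PSolvable.Omega

/-!
From control of transfer to control of `O^p`, and the class of the wreath product `Z_p ≀ Z_p`.
-/

set_option autoImplicit false
set_option linter.style.haveILetI false

namespace CfsgLib.Transfer

open Cfsg Cfsg.FusionSystem
open scoped commutatorElement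

variable {G : Type*} [Group G] [Finite G] {p : ℕ} [hp : Fact p.Prime]

/-- Tate: control of transfer is control of the `p`-residual. -/
theorem pResidualOf_eq_of_focal (P : Sylow p G) {N : Subgroup G} (hPN : (P : Subgroup G) ≤ N)
    (h : (P : Subgroup G) ⊓ commutator G ≤ ⁅N, N⁆) :
    Cfsg.pResidualOf p N = Cfsg.pResidual p G ⊓ N := by
  haveI := pResidual_normal p G
  haveI := pResidual_normal p N
  set KN := Cfsg.pResidualOf p N with hKN
  have hKNle : KN ≤ Cfsg.pResidual p G ⊓ N :=
    le_inf (map_pResidual_subtype_le N) (Subgroup.map_subtype_le _)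
  refine le_antisymm hKNle ?_
  set T := (groupFusionSystem (P : Subgroup G)).hyperfocalSubgroup p with hTdef
  set H := KN.subgroupOf (P : Subgroup G) with hH
  have hNn : N ≤ Subgroup.normalizer (KN : Set G) := fun x hx =>
    Subgroup.le_normalizer_map N.subtype
      ⟨⟨x, hx⟩, (Subgroup.normalizer_eq_top (Cfsg.pResidual p N)).symm ▸ Subgroup.mem_top _, rfl⟩
  haveI hHn : H.Normal := ⟨fun x hx g =>
    (Subgroup.mem_normalizer_iff.mp (hNn (hPN g.2)) _).mp hx⟩
  have hder : ⁅(P : Subgroup G), (P : Subgroup G)⁆ ≤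
      (frattini ↥(P : Subgroup G)).map (P : Subgroup G).subtype := by
    rw [← Subgroup.map_subtype_commutator]
    exact Subgroup.map_mono (CfsgLib.PSolvable.commutator_le_frattini P.2).1
  have hNN : ∀ z ∈ (P : Subgroup G), z ∈ ⁅N, N⁆ →
      z ∈ (frattini ↥(P : Subgroup G)).map (P : Subgroup G).subtype ⊔ H.map (P : Subgroup G).subtype := by
    intro z hzP hz
    set π := QuotientGroup.mk' (Cfsg.pResidual p N)
    rw [← Subgroup.map_subtype_commutator] at hz
    obtain ⟨w, hw, rfl⟩ := hz
    obtain ⟨Q, hQ⟩ : ∃ Q : Sylow p N, (Q : Subgroup N) = (P : Subgroup G).subgroupOf N :=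
      ⟨P.subtype hPN, Sylow.coe_subtype ..⟩
    have hQπ : (Q : Subgroup N).map π = ⊤ := by
      have h1 := congrArg (Subgroup.map π) (sylow_sup_pResidual Q)
      rwa [Subgroup.map_sup, QuotientGroup.map_mk'_self, sup_bot_eq,
        Subgroup.map_top_of_surjective π (QuotientGroup.mk'_surjective _)] at h1
    have h2 : π w ∈ (⁅(Q : Subgroup N), (Q : Subgroup N)⁆).map π := by
      rw [Subgroup.map_commutator, hQπ]
      have h3 : π w ∈ (commutator N).map π := ⟨w, hw, rfl⟩
      exact Subgroup.commutator_mono le_top le_top ((Subgroup.map_commutator ⊤ ⊤ π).le h3)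
    obtain ⟨c, hc, hcw⟩ := h2
    have hcK : c⁻¹ * w ∈ Cfsg.pResidual p N := QuotientGroup.eq.mp hcw
    have hcP : (c : G) ∈ ⁅(P : Subgroup G), (P : Subgroup G)⁆ := by
      have h4 : (c : G) ∈ (⁅(Q : Subgroup N), (Q : Subgroup N)⁆).map N.subtype := ⟨c, hc, rfl⟩
      rwa [Subgroup.map_commutator, hQ, Subgroup.map_subgroupOf_eq_of_le hPN] at h4
    have hcPP : (c : G) ∈ (P : Subgroup G) := Subgroup.commutator_le_self _ hcP
    show (w : G) ∈ _
    rw [show (w : G) = (c : G) * ((c⁻¹ * w : N) : G) by simp]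
    refine mul_mem (Subgroup.mem_sup_left (hder hcP)) (Subgroup.mem_sup_right ?_)
    refine ⟨⟨((c⁻¹ * w : N) : G), ?_⟩, ⟨_, hcK, rfl⟩, rfl⟩
    simpa using mul_mem (inv_mem hcPP) hzP
  have hfoc : T ≤ (P : Subgroup G) ⊓ commutator G := by
    refine Fusion.hyperfocal_le_focal.trans ((Subgroup.closure_le _).mpr ?_)
    rintro _ ⟨R, φ, x, ⟨hR, hφS, g, hg⟩, rfl⟩
    refine ⟨(P : Subgroup G).mul_mem ((P : Subgroup G).inv_mem (hR x.2)) (hφS x), ?_⟩
    rw [hg x, show (x : G)⁻¹ * (g * x * g⁻¹) = ⁅(x : G)⁻¹, g⁆ by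
      rw [commutatorElement_def]; group]
    exact Subgroup.commutator_mem_commutator (Subgroup.mem_top _) (Subgroup.mem_top _)
  have hle : H ≤ T.subgroupOf (P : Subgroup G) := fun x hx =>
    Fusion.pResidual_inf_le_hyperfocal P ⟨x.2, (hKNle hx).1⟩
  have hTH : T.subgroupOf (P : Subgroup G) = H := by
    refine Fusion.hyperfocal_subgroupOf_eq P.2 (Fusion.isSaturated_group P) hle fun x hx => ?_
    have h2 := hfoc hx
    have h1 := hNN x h2.1 (h h2)
    rw [← Subgroup.map_sup] at h1
    obtain ⟨y, hy, e⟩ := h1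
    rwa [← Subtype.ext e]
  intro x hx
  obtain ⟨hxG, hxN⟩ := hx
  obtain ⟨a, ha, b, hb, hab⟩ := Subgroup.mem_sup_of_normal_right.mp
    ((sylow_sup_pResidual (P.subtype hPN)).ge (Subgroup.mem_top (⟨x, hxN⟩ : N)))
  have haP : (a : G) ∈ (P : Subgroup G) := by rw [Sylow.coe_subtype] at ha; exact ha
  have hbK : (b : G) ∈ KN := ⟨b, hb, rfl⟩
  have hx' : (a : G) * b = x := congrArg Subtype.val hab
  have haG : (a : G) ∈ Cfsg.pResidual p G := by
    rw [show (a : G) = x * (b : G)⁻¹ by rw [← hx']; group]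
    exact mul_mem hxG (inv_mem (hKNle hbK).1)
  have haK : (a : G) ∈ KN := by
    have h1 : (⟨(a : G), haP⟩ : (P : Subgroup G)) ∈ T.subgroupOf (P : Subgroup G) :=
      Fusion.pResidual_inf_le_hyperfocal P ⟨haP, haG⟩
    rw [hTH] at h1
    exact h1
  rw [← hx']
  exact mul_mem haK hbK

omit [Finite G] hp in
theorem map_lowerCentralSeries {G' : Type*} [Group G'] (f : G →* G') (H : Subgroup G) (n : ℕ) :
    (H.lowerCentralSeries n).map f = (H.map f).lowerCentralSeries n := by
  induction n with
  | zero => rfl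
  | succ n ih =>
    rw [Subgroup.lowerCentralSeries_succ, Subgroup.lowerCentralSeries_succ, Subgroup.map_commutator,
      ih]

omit [Finite G] hp in
theorem lowerCentralSeries_mono {H K : Subgroup G} (h : H ≤ K) (n : ℕ) :
    H.lowerCentralSeries n ≤ K.lowerCentralSeries n := by
  induction n with
  | zero => exact h
  | succ n ih =>
    rw [Subgroup.lowerCentralSeries_succ, Subgroup.lowerCentralSeries_succ]
    exact Subgroup.commutator_mono ih h

/-- Translations along the fibres followed by a shift of the base. -/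
def affinePerm (a : (ZMod p → ZMod p) × ZMod p) : Equiv.Perm (ZMod p × ZMod p) where
  toFun x := (x.1 + a.2, x.2 + a.1 x.1)
  invFun y := (y.1 - a.2, y.2 - a.1 (y.1 - a.2))
  left_inv x := by simp
  right_inv y := by simp

theorem affinePerm_mul (a b : (ZMod p → ZMod p) × ZMod p) :
    affinePerm a * affinePerm b = affinePerm (fun i => b.1 i + a.1 (i + b.2), b.2 + a.2) := by
  ext x <;> simp [affinePerm, add_assoc]

theorem affinePerm_inv (a : (ZMod p → ZMod p) × ZMod p) :
    (affinePerm a)⁻¹ = affinePerm (fun i => -a.1 (i - a.2), -a.2) := by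
  rw [inv_eq_iff_mul_eq_one, affinePerm_mul]
  ext x <;> simp [affinePerm, sub_eq_add_neg]

theorem affinePerm_injective : Function.Injective (affinePerm (p := p)) := by
  intro a b h
  have h' : ∀ i, (i + a.2, (0 : ZMod p) + a.1 i) = (i + b.2, (0 : ZMod p) + b.1 i) := fun i =>
    congrArg (fun e : Equiv.Perm (ZMod p × ZMod p) => e (i, 0)) h
  simp only [Prod.mk.injEq, zero_add] at h'
  exact Prod.ext (funext fun i => (h' i).2) (add_left_cancel (h' 0).1)

/-- The wreath product `Z_p ≀ Z_p` is not of class less than `p`. -/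
theorem wreath_lowerCentralSeries_ne_bot (W : Sylow p (Equiv.Perm (Fin (p ^ 2)))) :
    (W : Subgroup (Equiv.Perm (Fin (p ^ 2)))).lowerCentralSeries (p - 1) ≠ ⊥ := by
  classical
  let H : Subgroup (Equiv.Perm (ZMod p × ZMod p)) :=
    { carrier := Set.range (affinePerm (p := p))
      one_mem' := ⟨(0, 0), by ext x <;> simp [affinePerm]⟩
      mul_mem' := fun {x y} hx hy => by
        obtain ⟨a, rfl⟩ := hx
        obtain ⟨b, rfl⟩ := hy
        exact affinePerm_mul a b ▸ Set.mem_range_self _
      inv_mem' := fun {x} hx => by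
        obtain ⟨a, rfl⟩ := hx
        exact affinePerm_inv a ▸ Set.mem_range_self _ }
  have hHp : IsPGroup p H := by
    refine IsPGroup.of_card (n := p + 1) ?_
    show Nat.card (Set.range (affinePerm (p := p))) = _
    rw [Nat.card_range_of_injective affinePerm_injective, Nat.card_prod, Nat.card_fun,
      Nat.card_zmod, pow_succ]
  -- iterated differences of a delta function
  let D : (ZMod p → ZMod p) → ZMod p → ZMod p := fun f i => f i - f (i - 1)
  let δ : ZMod p → ZMod p := fun i => if i = 0 then 1 else 0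
  have hD : ∀ n : ℕ, n < p → (D^[n] δ) (n : ZMod p) = (-1) ^ n ∧
      ∀ i : ℕ, n < i → i < p → (D^[n] δ) (i : ZMod p) = 0 := by
    intro n
    induction n with
    | zero =>
      intro _
      refine ⟨by simp [δ], fun i hi hip => ?_⟩
      simp only [Function.iterate_zero, id, δ]
      rw [if_neg]
      rw [ZMod.natCast_eq_zero_iff]
      exact fun hd => absurd (Nat.le_of_dvd (by omega) hd) (by omega)
    | succ n ih =>
      intro hn
      obtain ⟨ih1, ih2⟩ := ih (by omega)
      refine ⟨?_, fun i hi hip => ?_⟩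
      · rw [Function.iterate_succ_apply']
        show (D^[n] δ) ((n + 1 : ℕ) : ZMod p) - (D^[n] δ) (((n + 1 : ℕ) : ZMod p) - 1) = _
        rw [ih2 (n + 1) (by omega) hn, Nat.cast_succ, add_sub_cancel_right, ih1, pow_succ]
        ring
      · rw [Function.iterate_succ_apply']
        show (D^[n] δ) (i : ZMod p) - (D^[n] δ) ((i : ZMod p) - 1) = 0
        obtain ⟨j, rfl⟩ : ∃ j, i = j + 1 := ⟨i - 1, by omega⟩
        rw [ih2 (j + 1) (by omega) hip, Nat.cast_succ, add_sub_cancel_right,
          ih2 j (by omega) (by omega), sub_zero]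
  have hmem : ∀ n : ℕ, affinePerm (D^[n] δ, 0) ∈ H.lowerCentralSeries n := by
    intro n
    induction n with
    | zero => exact ⟨_, rfl⟩
    | succ n ih =>
      rw [Subgroup.lowerCentralSeries_succ]
      have h1 := Subgroup.commutator_mem_commutator ih
        (show affinePerm ((fun _ => 0, 1) : (ZMod p → ZMod p) × ZMod p) ∈ H from ⟨_, rfl⟩)
      have e : ⁅affinePerm (D^[n] δ, 0),
          affinePerm ((fun _ => 0, 1) : (ZMod p → ZMod p) × ZMod p)⁆
          = affinePerm (D^[n + 1] δ, 0) := by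
        rw [commutatorElement_def, affinePerm_inv, affinePerm_inv, affinePerm_mul, affinePerm_mul,
          affinePerm_mul, Function.iterate_succ_apply']
        congr 1
        refine Prod.ext (funext fun i => ?_) ?_
        · simp [D, sub_eq_add_neg, add_comm]
        · simp
      rwa [e] at h1
  intro hW
  have hp1 : p - 1 < p := Nat.sub_lt hp.out.pos one_pos
  let e : ZMod p × ZMod p ≃ Fin (p ^ 2) :=
    Finite.equivFinOfCardEq (by rw [Nat.card_prod, Nat.card_zmod, pow_two])
  let f := e.permCongrHom.toMonoidHom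
  obtain ⟨g, hg⟩ := exists_map_conj_le_sylow (hHp.map f) W
  set f' := (MulAut.conj g).toMonoidHom.comp f with hf'
  have hle : (H.lowerCentralSeries (p - 1)).map f' ≤ ⊥ := by
    rw [map_lowerCentralSeries, ← hW]
    refine lowerCentralSeries_mono ?_ _
    rw [hf', ← Subgroup.map_map]
    exact hg
  have hf'inj : Function.Injective f' := (MulAut.conj g).injective.comp e.permCongrHom.injective
  have h1 : affinePerm (D^[p - 1] δ, 0) = affinePerm ((fun _ => 0, 0) : (ZMod p → ZMod p) × ZMod p) := by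
    apply hf'inj
    rw [Subgroup.mem_bot.mp (hle ⟨_, hmem (p - 1), rfl⟩)]
    rw [show affinePerm ((fun _ => 0, 0) : (ZMod p → ZMod p) × ZMod p) = 1 by
      ext x <;> simp [affinePerm], map_one]
  have h2 := congrArg Prod.fst (affinePerm_injective h1)
  have h3 := congrFun h2 ((p - 1 : ℕ) : ZMod p)
  replace h3 : (D^[p - 1] δ) ((p - 1 : ℕ) : ZMod p) = 0 := h3
  rw [(hD (p - 1) hp1).1] at h3
  exact absurd h3 (pow_ne_zero _ (neg_ne_zero.mpr one_ne_zero))

end CfsgLib.Transfer
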