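import Mathlib
import Cfsg.Agent.Lib.Transfer.HallWielandt
import Cfsg.Agent.Lib.Transfer.WreathQuotient
import Cfsg.Agent.Lib.Fusion.Yoshida

/-!
Control of transfer by the normalizer of a weakly closed subgroup acting with Engel length below `p`.
-/

set_option autoImplicit false
set_option linter.style.haveILetI false
set_option linter.unusedSectionVars false

open scoped commutatorElement
open Cfsg Cfsg.FusionSystem

namespace CfsgLib.Transfer

variable {G : Type*} [Group G] [Finite G] {p : ℕ} [hp : Fact p.Prime]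

/-- Tate: control of transfer modulo the Frattini subgroup is control of the `p`-residual. -/
theorem pResidualOf_eq_of_focal_frattini (P : Sylow p G) {N : Subgroup G} (hPN : (P : Subgroup G) ≤ N)
    (h : (P : Subgroup G) ⊓ commutator G ≤
      (frattini ↥(P : Subgroup G)).map (P : Subgroup G).subtype ⊔ ((P : Subgroup G) ⊓ ⁅N, N⁆)) :
    Cfsg.pResidualOf p N = Cfsg.pResidual p G ⊓ N := by
  haveI := pResidual_normal p G
  haveI := pResidual_normal p N
  set KN := Cfsg.pResidualOf p N with hKN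
  have hKNle : KN ≤ Cfsg.pResidual p G ⊓ N :=
    le_inf (map_pResidual_subtype_le N) (Subgroup.map_subtype_le _)
  refine le_antisymm hKNle ?_
  set T := (groupFusionSystem (P : Subgroup G)).hyperfocalSubgroup p with hTdef
  set H := KN.subgroupOf (P : Subgroup G) with hH
  have hNn : N ≤ Subgroup.normalizer (KN : Set G) := fun x hx =>
    Subgroup.le_normalizer_map N.subtype
      ⟨⟨x, hx⟩, (Subgroup.normalizer_eq_top (Cfsg.pResidual p N)).symm ▸ Subgroup.mem_top _, rfl⟩
  haveI hHn : H.Normal := ⟨fun x hx g =>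
    (Subgroup.mem_normalizer_iff.mp (hNn (hPN g.2)) _).mp hx⟩
  have hder : ⁅(P : Subgroup G), (P : Subgroup G)⁆ ≤
      (frattini ↥(P : Subgroup G)).map (P : Subgroup G).subtype := by
    rw [← Subgroup.map_subtype_commutator]
    exact Subgroup.map_mono (CfsgLib.PSolvable.commutator_le_frattini P.2).1
  have hNN : ∀ z ∈ (P : Subgroup G), z ∈ ⁅N, N⁆ →
      z ∈ (frattini ↥(P : Subgroup G)).map (P : Subgroup G).subtype ⊔ H.map (P : Subgroup G).subtype := by
    intro z hzP hz
    set π := QuotientGroup.mk' (Cfsg.pResidual p N)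
    rw [← Subgroup.map_subtype_commutator] at hz
    obtain ⟨w, hw, rfl⟩ := hz
    obtain ⟨Q, hQ⟩ : ∃ Q : Sylow p N, (Q : Subgroup N) = (P : Subgroup G).subgroupOf N :=
      ⟨P.subtype hPN, Sylow.coe_subtype ..⟩
    have hQπ : (Q : Subgroup N).map π = ⊤ := by
      have h1 := congrArg (Subgroup.map π) (sylow_sup_pResidual Q)
      rwa [Subgroup.map_sup, QuotientGroup.map_mk'_self, sup_bot_eq,
        Subgroup.map_top_of_surjective π (QuotientGroup.mk'_surjective _)] at h1
    have h2 : π w ∈ (⁅(Q : Subgroup N), (Q : Subgroup N)⁆).map π := by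
      rw [Subgroup.map_commutator, hQπ]
      have h3 : π w ∈ (commutator N).map π := ⟨w, hw, rfl⟩
      exact Subgroup.commutator_mono le_top le_top ((Subgroup.map_commutator ⊤ ⊤ π).le h3)
    obtain ⟨c, hc, hcw⟩ := h2
    have hcK : c⁻¹ * w ∈ Cfsg.pResidual p N := QuotientGroup.eq.mp hcw
    have hcP : (c : G) ∈ ⁅(P : Subgroup G), (P : Subgroup G)⁆ := by
      have h4 : (c : G) ∈ (⁅(Q : Subgroup N), (Q : Subgroup N)⁆).map N.subtype := ⟨c, hc, rfl⟩
      rwa [Subgroup.map_commutator, hQ, Subgroup.map_subgroupOf_eq_of_le hPN] at h4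
    have hcPP : (c : G) ∈ (P : Subgroup G) := Subgroup.commutator_le_self _ hcP
    show (w : G) ∈ _
    rw [show (w : G) = (c : G) * ((c⁻¹ * w : N) : G) by simp]
    refine mul_mem (Subgroup.mem_sup_left (hder hcP)) (Subgroup.mem_sup_right ?_)
    refine ⟨⟨((c⁻¹ * w : N) : G), ?_⟩, ⟨_, hcK, rfl⟩, rfl⟩
    simpa using mul_mem (inv_mem hcPP) hzP
  have hfoc : T ≤ (P : Subgroup G) ⊓ commutator G := by
    refine Fusion.hyperfocal_le_focal.trans ((Subgroup.closure_le _).mpr ?_)
    rintro _ ⟨R, φ, x, ⟨hR, hφS, g, hg⟩, rfl⟩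
    refine ⟨(P : Subgroup G).mul_mem ((P : Subgroup G).inv_mem (hR x.2)) (hφS x), ?_⟩
    rw [hg x, show (x : G)⁻¹ * (g * x * g⁻¹) = ⁅(x : G)⁻¹, g⁆ by
      rw [commutatorElement_def]; group]
    exact Subgroup.commutator_mem_commutator (Subgroup.mem_top _) (Subgroup.mem_top _)
  have hle : H ≤ T.subgroupOf (P : Subgroup G) := fun x hx =>
    Fusion.pResidual_inf_le_hyperfocal P ⟨x.2, (hKNle hx).1⟩
  have hTH : T.subgroupOf (P : Subgroup G) = H := by
    refine Fusion.hyperfocal_subgroupOf_eq P.2 (Fusion.isSaturated_group P) hle fun x hx => ?_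
    have h2 := hfoc hx
    have h1 : (x : G) ∈ (frattini ↥(P : Subgroup G)).map (P : Subgroup G).subtype ⊔
        H.map (P : Subgroup G).subtype :=
      (h.trans (sup_le le_sup_left fun z hz => hNN z hz.1 hz.2)) h2
    rw [← Subgroup.map_sup] at h1
    obtain ⟨y, hy, e⟩ := h1
    rwa [← Subtype.ext e]
  intro x hx
  obtain ⟨hxG, hxN⟩ := hx
  obtain ⟨a, ha, b, hb, hab⟩ := Subgroup.mem_sup_of_normal_right.mp
    ((sylow_sup_pResidual (P.subtype hPN)).ge (Subgroup.mem_top (⟨x, hxN⟩ : N)))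
  have haP : (a : G) ∈ (P : Subgroup G) := by rw [Sylow.coe_subtype] at ha; exact ha
  have hbK : (b : G) ∈ KN := ⟨b, hb, rfl⟩
  have hx' : (a : G) * b = x := congrArg Subtype.val hab
  have haG : (a : G) ∈ Cfsg.pResidual p G := by
    rw [show (a : G) = x * (b : G)⁻¹ by rw [← hx']; group]
    exact mul_mem hxG (inv_mem (hKNle hbK).1)
  have haK : (a : G) ∈ KN := by
    have h1 : (⟨(a : G), haP⟩ : (P : Subgroup G)) ∈ T.subgroupOf (P : Subgroup G) :=
      Fusion.pResidual_inf_le_hyperfocal P ⟨haP, haG⟩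
    rw [hTH] at h1
    exact h1
  rw [← hx']
  exact mul_mem haK hbK

section engel

open scoped Classical

variable {P : Subgroup G} (θ : P →* Multiplicative (ZMod p))

/-- The transfer cocycle of a homomorphism on the cosets. -/
noncomputable def cosetCocycle (u : G) (q : G ⧸ P) : ZMod p :=
  (θ ⟨((u • q).out)⁻¹ * (u * q.out), by
    rw [← QuotientGroup.eq, QuotientGroup.out_eq']
    conv_lhs => rw [← QuotientGroup.out_eq' q]
    rfl⟩).toAdd

theorem cosetCocycle_mul (u v : G) (q : G ⧸ P) :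
    cosetCocycle θ (u * v) q = cosetCocycle θ u (v • q) + cosetCocycle θ v q := by
  unfold cosetCocycle
  rw [← toAdd_mul, ← map_mul]
  refine congrArg (fun a => (θ a).toAdd) (Subtype.ext ?_)
  rw [Subgroup.coe_mul]
  dsimp only
  rw [mul_smul]
  group

theorem cosetCocycle_one (q : G ⧸ P) : cosetCocycle θ 1 q = 0 := by
  have h := cosetCocycle_mul θ 1 1 q
  rwa [one_mul, one_smul, left_eq_add] at h

theorem cosetCocycle_pow (u : G) (q : G ⧸ P) (l : ℕ) :
    cosetCocycle θ (u ^ l) q = ∑ i ∈ Finset.range l, cosetCocycle θ u (u ^ i • q) := by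
  induction l with
  | zero => simp [cosetCocycle_one]
  | succ l ih => rw [pow_succ', cosetCocycle_mul, Finset.sum_range_succ, ih, add_comm]

theorem cosetCocycle_fixed {u : G} {q : G ⧸ P} (h : u • q = q) :
    ∃ hu : (q.out)⁻¹ * u * q.out ∈ P, cosetCocycle θ u q = (θ ⟨_, hu⟩).toAdd := by
  have hu : (q.out)⁻¹ * u * q.out ∈ P := by
    have h1 : ((u * q.out : G) : G ⧸ P) = (q.out : G ⧸ P) := by
      rw [QuotientGroup.out_eq']
      conv_rhs => rw [← h]
      conv_rhs => rw [← QuotientGroup.out_eq' q]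
      rfl
    rw [mul_assoc]
    exact QuotientGroup.eq.1 h1.symm
  refine ⟨hu, congrArg (fun a => (θ a).toAdd) (Subtype.ext ?_)⟩
  show ((u • q).out)⁻¹ * (u * q.out) = (q.out)⁻¹ * u * q.out
  rw [h, mul_assoc]

theorem sum_smul_eq {u : G} {B : Finset (G ⧸ P)} (hB : ∀ q ∈ B, u • q ∈ B) (f : G ⧸ P → ZMod p) :
    ∑ q ∈ B, f (u • q) = ∑ q ∈ B, f q := by
  have hinj : Set.InjOn (fun q => u • q) (B : Set (G ⧸ P)) := fun a _ b _ e => MulAction.injective u e
  conv_rhs => rw [← Finset.eq_of_subset_of_card_le (Finset.image_subset_iff.2 hB)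
    (le_of_eq (Finset.card_image_of_injOn hinj).symm)]
  rw [Finset.sum_image hinj]

theorem sum_cosetCocycle_mul {u v : G} {B : Finset (G ⧸ P)} (hv : ∀ q ∈ B, v • q ∈ B) :
    ∑ q ∈ B, cosetCocycle θ (u * v) q =
      ∑ q ∈ B, cosetCocycle θ u q + ∑ q ∈ B, cosetCocycle θ v q := by
  simp only [cosetCocycle_mul, Finset.sum_add_distrib]
  rw [sum_smul_eq hv (fun q => cosetCocycle θ u q)]

/-- The transfer vanishes on commutators. -/
theorem sum_cosetCocycle_eq_zero [Fintype (G ⧸ P)] {x : G} (hx : x ∈ commutator G) :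
    ∑ q, cosetCocycle θ x q = 0 := by
  let T : G →* Multiplicative (ZMod p) := MonoidHom.mk'
    (fun u => Multiplicative.ofAdd (∑ q, cosetCocycle θ u q))
    fun u v => by rw [← ofAdd_add, sum_cosetCocycle_mul θ (fun q _ => Finset.mem_univ _)]
  exact Multiplicative.ofAdd.injective (MonoidHom.mem_ker.1 (Abelianization.commutator_subset_ker T hx))

/-- An element whose proper powers are killed only sees its fixed cosets. -/
theorem sum_eq_sum_fixed {x : G}
    (hlow : ∀ (l : ℕ) (q : G ⧸ P), 1 < l → l ∣ orderOf x → x ^ l • q = q →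
      cosetCocycle θ (x ^ l) q = 0) :
    ∀ B : Finset (G ⧸ P), (∀ q ∈ B, x • q ∈ B) →
      ∑ q ∈ B, cosetCocycle θ x q = ∑ q ∈ B.filter (fun q => x • q = q), cosetCocycle θ x q := by
  intro B
  induction B using Finset.strongInduction with
  | _ B ih =>
  intro hB
  by_cases hall : ∀ q ∈ B, x • q = q
  · rw [Finset.filter_true_of_mem hall]
  push Not at hall
  obtain ⟨q, hqB, hq⟩ := hall
  set f : G ⧸ P → G ⧸ P := fun r => x • r with hf
  set l := Function.minimalPeriod f q with hl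
  have hiter : ∀ i, f^[i] q = x ^ i • q := fun i => by
    induction i with
    | zero => simp
    | succ i ihi => rw [Function.iterate_succ_apply', ihi, hf, pow_succ', mul_smul]
  have hper : Function.IsPeriodicPt f (orderOf x) q := by
    show f^[orderOf x] q = q
    rw [hiter, pow_orderOf_eq_one, one_smul]
  have hl0 : 0 < l := hper.minimalPeriod_pos (orderOf_pos x)
  have hl1 : l ≠ 1 := fun e => hq (Function.minimalPeriod_eq_one_iff_isFixedPt.1 e)
  have hlq : x ^ l • q = q := by rw [← hiter]; exact Function.iterate_minimalPeriod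
  set O := (Finset.range l).image (fun i => x ^ i • q) with hO
  have hOB : O ⊆ B := by
    rintro r hr
    obtain ⟨i, -, rfl⟩ := Finset.mem_image.1 hr
    clear hr
    induction i with
    | zero => simpa using hqB
    | succ i ihi => rw [pow_succ', mul_smul]; exact hB _ ihi
  have hOinv : ∀ r, x • r ∈ O ↔ r ∈ O := by
    intro r
    constructor
    · intro hr
      obtain ⟨i, hi, he⟩ := Finset.mem_image.1 hr
      rcases i with _ | i
      · refine Finset.mem_image.2 ⟨l - 1, Finset.mem_range.2 (by omega), MulAction.injective x ?_⟩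
        show x • x ^ (l - 1) • q = x • r
        rw [← mul_smul, ← pow_succ', show l - 1 + 1 = l by omega, hlq, ← he, pow_zero, one_smul]
      · refine Finset.mem_image.2 ⟨i, Finset.mem_range.2 (by
          have := Finset.mem_range.1 hi; omega), MulAction.injective x ?_⟩
        show x • x ^ i • q = x • r
        rw [← mul_smul, ← pow_succ', he]
    · intro hr
      obtain ⟨i, hi, rfl⟩ := Finset.mem_image.1 hr
      rw [← mul_smul, ← pow_succ']
      rcases Nat.lt_or_ge (i + 1) l with h | h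
      · exact Finset.mem_image.2 ⟨_, Finset.mem_range.2 h, rfl⟩
      · refine Finset.mem_image.2 ⟨0, Finset.mem_range.2 hl0, ?_⟩
        rw [show i + 1 = l by have := Finset.mem_range.1 hi; omega, hlq, pow_zero, one_smul]
  have hfixO : ∀ r ∈ O, x • r ≠ r := by
    intro r hr
    obtain ⟨i, -, rfl⟩ := Finset.mem_image.1 hr
    rw [← mul_smul, ← pow_succ', pow_succ, mul_smul]
    exact fun e => hq (MulAction.injective _ e)
  have hOsum : ∑ r ∈ O, cosetCocycle θ x r = 0 := by
    rw [hO, Finset.sum_image, ← cosetCocycle_pow]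
    · exact hlow l q (by omega) (Function.IsPeriodicPt.minimalPeriod_dvd hper) hlq
    · intro i hi j hj e
      refine Function.iterate_injOn_Iio_minimalPeriod (f := f) (x := q) (Set.mem_Iio.2 (Finset.mem_range.1 hi))
        (Set.mem_Iio.2 (Finset.mem_range.1 hj)) ?_
      show f^[i] q = f^[j] q
      rw [hiter, hiter]
      exact e
  have hlt : B \ O ⊂ B := Finset.sdiff_ssubset hOB ⟨q, Finset.mem_image.2 ⟨0, Finset.mem_range.2 hl0, by simp⟩⟩
  have h1 := ih _ hlt fun r hr => by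
    rw [Finset.mem_sdiff] at hr ⊢
    exact ⟨hB r hr.1, fun h => hr.2 ((hOinv r).1 h)⟩
  rw [← Finset.sum_sdiff hOB, hOsum, add_zero, h1]
  refine Finset.sum_congr (Finset.ext fun r => ?_) fun _ _ => rfl
  simp only [Finset.mem_filter, Finset.mem_sdiff]
  exact ⟨fun h => ⟨h.1.1, h.2⟩, fun h => ⟨⟨h.1, fun hr => hfixO r hr h.2⟩, h.2⟩⟩

/-- The Engel condition makes an induced block invisible. -/
theorem sum_orbit_eq_zero [Fintype (G ⧸ P)] {H M : Subgroup G} (hMH : M ≤ H)
    (hMn : ∀ m ∈ M, ∀ g ∈ H, g⁻¹ * m * g ∈ M) {z : G} (hzH : z ∈ H)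
    (hcover : ∀ g ∈ H, ∃ i < p, ∃ m ∈ M, g = z ^ i * m)
    (huniq : ∀ i < p, ∀ j < p, (z ^ i)⁻¹ * z ^ j ∈ M → i = j)
    {q : G ⧸ P} (hstab : ∀ g ∈ H, g • q = q → g ∈ M) {m : G} (hm : m ∈ M)
    (hE : ∑ r ∈ Finset.univ.filter (fun r => r ∈ MulAction.orbit M q),
      cosetCocycle θ ((fun y : G => y⁻¹ * z⁻¹ * y * z)^[p - 1] m) r = 0) :
    ∑ r ∈ Finset.univ.filter (fun r => r ∈ MulAction.orbit H q), cosetCocycle θ m r = 0 := by
  set B := Finset.univ.filter (fun r => r ∈ MulAction.orbit M q) with hB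
  have hBmem : ∀ r, r ∈ B ↔ ∃ a ∈ M, a • q = r := by
    intro r
    rw [hB, Finset.mem_filter]
    exact ⟨fun ⟨_, ⟨a, ha⟩⟩ => ⟨a, a.2, ha⟩, fun ⟨a, ha, e⟩ => ⟨Finset.mem_univ _, ⟨⟨a, ha⟩, e⟩⟩⟩
  have hBinv : ∀ a ∈ M, ∀ r ∈ B, a • r ∈ B := fun a ha r hr => by
    obtain ⟨b, hb, rfl⟩ := (hBmem r).1 hr
    exact (hBmem _).2 ⟨a * b, M.mul_mem ha hb, mul_smul a b q⟩
  let L : G → ZMod p := fun a => ∑ r ∈ B, cosetCocycle θ a r
  have hLmul : ∀ a b : G, b ∈ M → L (a * b) = L a + L b := fun a b hb =>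
    sum_cosetCocycle_mul θ (hBinv b hb)
  have hconj : ∀ a ∈ M, ∀ i : ℕ, (z ^ i)⁻¹ * a * z ^ i ∈ M := fun a ha i => hMn a ha _ (pow_mem hzH i)
  -- the orbit is the disjoint union of the translates of the block
  have horb : Finset.univ.filter (fun r => r ∈ MulAction.orbit H q) =
      (Finset.range p).biUnion (fun i => B.image (fun r => z ^ i • r)) := by
    ext r
    rw [Finset.mem_filter, Finset.mem_biUnion]
    constructor
    · rintro ⟨-, ⟨g, rfl⟩⟩
      obtain ⟨i, hi, a, ha, e⟩ := hcover g g.2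
      refine ⟨i, Finset.mem_range.2 hi, Finset.mem_image.2 ⟨a • q, (hBmem _).2 ⟨a, ha, rfl⟩, ?_⟩⟩
      rw [← mul_smul, ← e]
      rfl
    · rintro ⟨i, -, hr⟩
      obtain ⟨s, hs, rfl⟩ := Finset.mem_image.1 hr
      obtain ⟨a, ha, rfl⟩ := (hBmem s).1 hs
      exact ⟨Finset.mem_univ _, ⟨⟨z ^ i * a, H.mul_mem (pow_mem hzH i) (hMH ha)⟩, mul_smul _ a q⟩⟩
  have hdisj : Set.PairwiseDisjoint (↑(Finset.range p)) (fun i => B.image (fun r => z ^ i • r)) := by
    intro i hi j hj hij
    rw [Function.onFun, Finset.disjoint_left]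
    intro r hr hr'
    obtain ⟨s, hs, rfl⟩ := Finset.mem_image.1 hr
    obtain ⟨t, ht, e⟩ := Finset.mem_image.1 hr'
    obtain ⟨a, ha, rfl⟩ := (hBmem s).1 hs
    obtain ⟨b, hb, rfl⟩ := (hBmem t).1 ht
    refine hij (huniq i (Finset.mem_range.1 hi) j (Finset.mem_range.1 hj) ?_)
    have hst : (a⁻¹ * ((z ^ i)⁻¹ * z ^ j) * b) • q = q := by
      rw [mul_smul, mul_smul, mul_smul, e, inv_smul_smul, inv_smul_smul]
    have hmem := hstab _ (H.mul_mem (H.mul_mem (inv_mem (hMH ha))
      (H.mul_mem (inv_mem (pow_mem hzH i)) (pow_mem hzH j))) (hMH hb)) hst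
    have h2 := M.mul_mem (M.mul_mem ha hmem) (inv_mem hb)
    rwa [← mul_assoc a, ← mul_assoc a, mul_inv_cancel, one_mul, mul_inv_cancel_right] at h2
  have hblock : ∀ i, ∑ r ∈ B.image (fun r => z ^ i • r), cosetCocycle θ m r =
      L ((z ^ i)⁻¹ * m * z ^ i) := by
    intro i
    rw [Finset.sum_image (fun a _ b _ e => MulAction.injective _ e)]
    have h1 : ∀ r, cosetCocycle θ m (z ^ i • r) = cosetCocycle θ (z ^ i) (((z ^ i)⁻¹ * m * z ^ i) • r) +
        cosetCocycle θ ((z ^ i)⁻¹ * m * z ^ i) r - cosetCocycle θ (z ^ i) r := fun r => by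
      rw [← cosetCocycle_mul, show z ^ i * ((z ^ i)⁻¹ * m * z ^ i) = m * z ^ i by group, cosetCocycle_mul]
      abel
    simp only [h1, Finset.sum_sub_distrib, Finset.sum_add_distrib]
    rw [sum_smul_eq (hBinv _ (hconj m hm i)) (fun r => cosetCocycle θ (z ^ i) r)]
    simp [L]
  rw [horb, Finset.sum_biUnion hdisj, Finset.sum_congr rfl fun i _ => hblock i]
  -- the Engel condition
  set φ : G → G := fun y => y⁻¹ * z⁻¹ * y * z with hφ
  have hφM : ∀ k, φ^[k] m ∈ M := by
    intro k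
    induction k with
    | zero => exact hm
    | succ k ih =>
      rw [Function.iterate_succ_apply', hφ]
      show (φ^[k] m)⁻¹ * z⁻¹ * φ^[k] m * z ∈ M
      rw [mul_assoc, mul_assoc, ← mul_assoc z⁻¹]
      exact M.mul_mem (inv_mem ih) (by simpa using hMn _ ih z hzH)
  let F : G → ℕ → ZMod p := fun a i => L ((z ^ i)⁻¹ * a * z ^ i)
  have hstep : ∀ k, F (φ^[k] m) = ((seqShift (p := p) - 1) ^ k) (F m) := by
    intro k
    induction k with
    | zero => rfl
    | succ k ih =>
      rw [Function.iterate_succ_apply', pow_succ', Module.End.mul_apply, ← ih]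
      funext i
      show L ((z ^ i)⁻¹ * ((φ^[k] m)⁻¹ * z⁻¹ * φ^[k] m * z) * z ^ i) =
        L ((z ^ (i + 1))⁻¹ * φ^[k] m * z ^ (i + 1)) - L ((z ^ i)⁻¹ * φ^[k] m * z ^ i)
      rw [eq_sub_iff_add_eq', ← hLmul]
      · congr 1
        rw [pow_succ']
        group
      · have hk := hφM (k + 1)
        rw [Function.iterate_succ_apply'] at hk
        exact hconj _ hk i
  have h0 := congrFun (hstep (p - 1)) 0
  have h1 := congrArg (Polynomial.aeval (seqShift (p := p))) (sub_one_pow_pred (p := p))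
  simp only [map_pow, map_sub, Polynomial.aeval_X, map_one, map_sum] at h1
  rw [h1] at h0
  simp only [F, pow_zero, inv_one, one_mul, mul_one, LinearMap.sum_apply, Finset.sum_apply,
    seqShift_pow, zero_add] at h0
  exact h0.symm.trans hE

/-- A subgroup of prime index is maximal. -/
theorem isCoatom_of_prime_index {A : Type*} [Group A] [Finite A] {K : Subgroup A} (h : K.index.Prime) :
    IsCoatom K := by
  refine ⟨fun e => h.ne_one (e ▸ Subgroup.index_top), fun L hL => ?_⟩
  have hd := Subgroup.relIndex_mul_index hL.le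
  rcases h.eq_one_or_self_of_dvd _ (Dvd.intro_left _ hd : L.index ∣ K.index) with h1 | h1
  · exact Subgroup.index_eq_one.1 h1
  · refine absurd (Subgroup.relIndex_eq_one.1 ?_) (not_le_of_gt hL)
    exact Nat.eq_of_mul_eq_mul_right h.pos (by rw [one_mul]; exact (h1 ▸ hd))

/-- A homomorphism to a group of order `p` is either trivial or has a maximal kernel. -/
theorem ker_eq_top_or_isCoatom {A : Type*} [Group A] [Finite A] (f : A →* Multiplicative (ZMod p)) :
    f.ker = ⊤ ∨ IsCoatom f.ker := by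
  have hd : f.ker.index ∣ p := by
    rw [Subgroup.index_ker]
    refine (Subgroup.card_subgroup_dvd_card _).trans ?_
    rw [Nat.card_eq_of_bijective Multiplicative.toAdd Multiplicative.toAdd.bijective, Nat.card_zmod]
  rcases (Fact.out : p.Prime).eq_one_or_self_of_dvd _ hd with h | h
  · exact Or.inl (Subgroup.index_eq_one.1 h)
  · exact Or.inr (isCoatom_of_prime_index (by rw [h]; exact (Fact.out : p.Prime)))

theorem frattini_le_ker {A : Type*} [Group A] [Finite A] (f : A →* Multiplicative (ZMod p)) :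
    frattini A ≤ f.ker := by
  rcases ker_eq_top_or_isCoatom f with h | h
  · exact h ▸ le_top
  · exact frattini_le_coatom h

end engel

/-- The normalizer of a weakly closed subgroup with short Engel action controls transfer modulo the
Frattini subgroup. -/
theorem focal_le_of_engel (P : Sylow p G) (Q : Subgroup G) (hQ : Cfsg.IsWeaklyClosed Q (P : Subgroup G))
    (hE : ∀ u ∈ (P : Subgroup G), ∀ z ∈ Q, ∀ W₀ : Subgroup Q, IsCoatom W₀ →
      (fun y : G => y⁻¹ * z⁻¹ * y * z)^[p - 1] u ∈ W₀.map Q.subtype →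
      (fun y : G => y⁻¹ * z⁻¹ * y * z)^[p - 1] u ∈ ((frattini ↥W₀).map W₀.subtype).map Q.subtype) :
    (P : Subgroup G) ⊓ commutator G ≤ (frattini ↥(P : Subgroup G)).map (P : Subgroup G).subtype ⊔
      ((P : Subgroup G) ⊓ ⁅Subgroup.normalizer (Q : Set G), Subgroup.normalizer (Q : Set G)⁆) := by
  classical
  set N := Subgroup.normalizer (Q : Set G) with hN
  have hPN : (P : Subgroup G) ≤ N := by
    intro u hu
    refine Subgroup.mem_normalizer_iff.2 fun v => ?_
    have hmap := hQ.2 u (by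
      rintro - ⟨w, hw, rfl⟩
      exact mul_mem (mul_mem hu (hQ.1 hw)) (inv_mem hu))
    constructor
    · exact fun hv => hmap.le ⟨v, hv, rfl⟩
    · intro hv
      obtain ⟨w, hw, e⟩ := hmap.ge hv
      rwa [← mul_left_cancel (mul_right_cancel (e : u * w * u⁻¹ = u * v * u⁻¹))]
  intro a ha
  by_contra hno
  set L₀ := frattini ↥(P : Subgroup G) ⊔ ((P : Subgroup G) ⊓ ⁅N, N⁆).subgroupOf (P : Subgroup G) with hL₀
  obtain ⟨θ, hθker, hθa⟩ := Fusion.exists_hom_zmod (p := p) P.2 L₀ le_sup_left ⟨a, ha.1⟩ fun h => hno (by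
    have h1 := Subgroup.mem_map_of_mem (P : Subgroup G).subtype h
    rw [hL₀, Subgroup.map_sup, Subgroup.map_subgroupOf_eq_of_le inf_le_left] at h1
    exact h1)
  haveI := Fintype.ofFinite (G ⧸ (P : Subgroup G))
  suffices h : ∀ (n : ℕ) (x : (P : Subgroup G)), orderOf (x : G) = n → (x : G) ∈ commutator G → θ x = 1 from
    hθa (h _ ⟨a, ha.1⟩ rfl ha.2)
  intro n
  induction n using Nat.strong_induction_on with
  | _ n IH =>
  intro x hxn hxc
  have hlow : ∀ (l : ℕ) (q : G ⧸ (P : Subgroup G)), 1 < l → l ∣ orderOf (x : G) → (x : G) ^ l • q = q →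
      cosetCocycle θ ((x : G) ^ l) q = 0 := by
    intro l q hl hld hfix
    obtain ⟨hu, e⟩ := cosetCocycle_fixed θ hfix
    rw [e, IH _ ?_ ⟨_, hu⟩ rfl ?_, toAdd_one]
    · show orderOf ((q.out)⁻¹ * (x : G) ^ l * q.out) < n
      rw [show (q.out)⁻¹ * (x : G) ^ l * q.out = MulAut.conj (q.out)⁻¹ ((x : G) ^ l) by simp,
        MulEquiv.orderOf_eq,
        orderOf_pow, ← hxn, Nat.gcd_eq_right hld]
      exact Nat.div_lt_self (orderOf_pos _) hl
    · have := Subgroup.Normal.conj_mem (inferInstance : (commutator G).Normal) _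
        (pow_mem hxc l) (q.out)⁻¹
      simpa using this
  have hxH : ∀ q : G ⧸ (P : Subgroup G), (∀ g ∈ Subgroup.zpowers (x : G) ⊔ Q, g • q = q) →
      cosetCocycle θ (x : G) q = (θ x).toAdd := by
    intro q hq
    obtain ⟨hu, e⟩ := cosetCocycle_fixed θ (hq _ (Subgroup.mem_sup_left (Subgroup.mem_zpowers _)))
    have hr : (q.out)⁻¹ ∈ N := by
      have hmap := hQ.2 (q.out)⁻¹ (by
        rintro - ⟨w, hw, rfl⟩
        obtain ⟨hw', -⟩ := cosetCocycle_fixed θ (hq w (Subgroup.mem_sup_right hw))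
        simpa using hw')
      refine Subgroup.mem_normalizer_iff.2 fun v => ⟨fun hv => hmap.le ⟨v, hv, rfl⟩, fun hv => ?_⟩
      obtain ⟨w, hw, ew⟩ := hmap.ge hv
      rwa [← mul_left_cancel (mul_right_cancel (ew : (q.out)⁻¹ * w * (q.out)⁻¹⁻¹ = _))]
    have hmem : (⟨_, hu⟩ : (P : Subgroup G)) * x⁻¹ ∈ θ.ker := by
      refine hθker (Subgroup.mem_sup_right (Subgroup.mem_subgroupOf.2 ⟨(P : Subgroup G).mul_mem hu ((P : Subgroup G).inv_mem x.2), ?_⟩))
      have := Subgroup.commutator_mem_commutator hr (hPN x.2)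
      simpa [commutatorElement_def] using this
    rw [MonoidHom.mem_ker, map_mul, map_inv, mul_inv_eq_one] at hmem
    rw [e, hmem]
  set H := Subgroup.zpowers (x : G) ⊔ Q with hH
  have hHP : H ≤ (P : Subgroup G) := sup_le (Subgroup.zpowers_le.2 x.2) hQ.1
  have hHp : IsPGroup p H := P.2.to_le hHP
  -- nontrivial orbits contribute nothing
  have horb : ∀ q : G ⧸ (P : Subgroup G), (x : G) • q = q → (¬ ∀ g ∈ H, g • q = q) →
      ∑ r ∈ Finset.univ.filter (fun r => r ∈ MulAction.orbit H q), cosetCocycle θ (x : G) r = 0 := by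
    intro q hxq hq
    set S := (MulAction.stabilizer G q).subgroupOf H with hS
    have hne : ¬ Q.subgroupOf H ≤ frattini H ⊔ S := by
      intro hle
      have htop : frattini H ⊔ S = ⊤ := by
        rw [eq_top_iff]
        have h2 : (Subgroup.zpowers (x : G)).subgroupOf H ⊔ Q.subgroupOf H = ⊤ := by
          rw [← Subgroup.subgroupOf_sup le_sup_left le_sup_right, Subgroup.subgroupOf_self]
        rw [← h2]
        refine sup_le (fun g hg => Subgroup.mem_sup_right ?_) hle
        exact (Subgroup.zpowers_le.2 (show (x : G) ∈ MulAction.stabilizer G q from hxq)) hg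
      have hStop : S = ⊤ := frattini_nongenerating (sup_comm (frattini H) S ▸ htop)
      refine hq fun g hg => ?_
      have : (⟨g, hg⟩ : H) ∈ S := hStop ▸ Subgroup.mem_top _
      exact this
    obtain ⟨z, hzQ, hzS⟩ := SetLike.not_le_iff_exists.1 hne
    obtain ⟨η, hηker, hηz⟩ := Fusion.exists_hom_zmod (p := p) hHp (frattini H ⊔ S) le_sup_left z hzS
    have hne0 : (η z).toAdd ≠ 0 := fun e => hηz (Multiplicative.toAdd.injective e)
    have hval : ∀ i : ℕ, (η (z ^ i)).toAdd = (i : ZMod p) * (η z).toAdd := fun i => by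
      rw [map_pow, toAdd_pow, nsmul_eq_mul]
    refine sum_orbit_eq_zero θ (M := η.ker.map H.subtype) (Subgroup.map_subtype_le _) ?_ z.2 ?_ ?_ ?_ ?_ ?_
    · rintro - ⟨m, hm, rfl⟩ g hg
      refine ⟨⟨g, hg⟩⁻¹ * m * ⟨g, hg⟩, ?_, rfl⟩
      simpa using (MonoidHom.normal_ker η).conj_mem m hm (⟨g, hg⟩ : H)⁻¹
    · intro g hg
      set i := ((η ⟨g, hg⟩).toAdd / (η z).toAdd).val with hi
      refine ⟨i, ZMod.val_lt _, _, ⟨(z ^ i)⁻¹ * ⟨g, hg⟩, ?_, rfl⟩, ?_⟩
      · refine Multiplicative.toAdd.injective ?_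
        rw [map_mul, map_inv, toAdd_mul, toAdd_inv, hval, hi, ZMod.natCast_val, ZMod.cast_id,
          div_mul_cancel₀ _ hne0, neg_add_cancel, toAdd_one]
      · show g = (z : G) ^ i * ((((z ^ i)⁻¹ * ⟨g, hg⟩ : H)) : G)
        simp
    · intro i hi j hj hij
      obtain ⟨m, hm, em⟩ := hij
      have hm' : m = (z ^ i)⁻¹ * z ^ j := Subtype.ext (by simpa using em)
      rw [SetLike.mem_coe, MonoidHom.mem_ker, hm'] at hm
      have h1 := congrArg Multiplicative.toAdd hm
      rw [map_mul, map_inv, toAdd_mul, toAdd_inv, hval, hval, toAdd_one, neg_add_eq_zero,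
        mul_eq_mul_right_iff] at h1
      have h2 := h1.resolve_right hne0
      rwa [ZMod.natCast_eq_natCast_iff', Nat.mod_eq_of_lt hi, Nat.mod_eq_of_lt hj] at h2
    · intro g hg hgq
      exact ⟨⟨g, hg⟩, hηker (Subgroup.mem_sup_right hgq), rfl⟩
    · exact ⟨⟨x, Subgroup.mem_sup_left (Subgroup.mem_zpowers _)⟩,
        hηker (Subgroup.mem_sup_right hxq), rfl⟩
    -- the iterated commutator is killed by the block sum
    · set M := η.ker.map H.subtype with hMdef
      set φ : G → G := fun y => y⁻¹ * (z : G)⁻¹ * y * z with hφ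
      set W₀ := (η.comp (Subgroup.inclusion (show Q ≤ H from le_sup_right))).ker with hW₀
      have hzW : (⟨z, hzQ⟩ : Q) ∉ W₀ := fun h => hηz h
      have hW₀c : IsCoatom W₀ :=
        (ker_eq_top_or_isCoatom _).resolve_left fun e => hzW (by rw [hW₀, e]; exact Subgroup.mem_top _)
      have hφQ : ∀ y ∈ (P : Subgroup G), φ y ∈ Q := fun y hy => by
        rw [hφ]
        show y⁻¹ * (z : G)⁻¹ * y * z ∈ Q
        refine Q.mul_mem ?_ hzQ
        have := (Subgroup.mem_normalizer_iff.1 (inv_mem (hPN hy)) _).1 (Q.inv_mem hzQ)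
        rwa [inv_inv] at this
      have hit : ∀ k, 0 < k → φ^[k] (x : G) ∈ Q ⊓ M := by
        intro k hk
        have hxM : (x : G) ∈ M := ⟨⟨x, Subgroup.mem_sup_left (Subgroup.mem_zpowers _)⟩,
          hηker (Subgroup.mem_sup_right hxq), rfl⟩
        have hM : ∀ k, φ^[k] (x : G) ∈ M := by
          intro k
          induction k with
          | zero => exact hxM
          | succ k ih =>
            rw [Function.iterate_succ_apply']
            obtain ⟨m, hm, em⟩ := ih
            refine ⟨m⁻¹ * z⁻¹ * m * z, ?_, by rw [← em]; rfl⟩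
            rw [SetLike.mem_coe, MonoidHom.mem_ker] at hm ⊢
            simp [hm]
        obtain ⟨j, rfl⟩ : ∃ j, k = j + 1 := ⟨k - 1, by omega⟩
        refine ⟨?_, hM _⟩
        rw [Function.iterate_succ_apply']
        exact hφQ _ (hHP (Subgroup.map_subtype_le _ (hM j)))
      obtain ⟨hiQ, m, hm, em⟩ := hit (p - 1) (Nat.sub_pos_of_lt (Fact.out : p.Prime).one_lt)
      have hw : φ^[p - 1] (x : G) ∈ W₀.map Q.subtype := by
        refine ⟨⟨_, hiQ⟩, ?_, rfl⟩
        show η (Subgroup.inclusion _ ⟨_, hiQ⟩) = 1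
        rw [show Subgroup.inclusion _ ⟨_, hiQ⟩ = m from Subtype.ext em.symm]
        exact hm
      obtain ⟨w, ⟨v, hv, rfl⟩, ev⟩ := hE x x.2 z hzQ W₀ hW₀c hw
      have hWM : ∀ u : W₀, ((u : Q) : G) ∈ M := fun u =>
        ⟨Subgroup.inclusion (show Q ≤ H from le_sup_right) u, u.2, rfl⟩
      let ψ : W₀ →* Multiplicative (ZMod p) := MonoidHom.mk'
        (fun u => Multiplicative.ofAdd (∑ r ∈ Finset.univ.filter (fun r => r ∈ MulAction.orbit M q),
          cosetCocycle θ ((u : Q) : G) r))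
        fun u u' => by
          rw [← ofAdd_add, ← sum_cosetCocycle_mul θ]
          · rfl
          · intro r hr
            rw [Finset.mem_filter] at hr ⊢
            obtain ⟨a, rfl⟩ := hr.2
            exact ⟨Finset.mem_univ _, ⟨⟨_, hWM u'⟩ * a, mul_smul _ a q⟩⟩
      rw [← ev]
      exact Multiplicative.ofAdd.injective (MonoidHom.mem_ker.1 (frattini_le_ker ψ hv))
  have hsum : ∀ B : Finset (G ⧸ (P : Subgroup G)), (∀ g ∈ H, ∀ q ∈ B, g • q ∈ B) →
      (∀ q ∈ B, ¬ ∀ g ∈ H, g • q = q) → ∑ q ∈ B, cosetCocycle θ (x : G) q = 0 := by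
    intro B
    induction B using Finset.strongInduction with
    | _ B ih =>
    intro hB hnf
    have hxmem : (x : G) ∈ H := Subgroup.mem_sup_left (Subgroup.mem_zpowers _)
    by_cases hall : ∃ q ∈ B, (x : G) • q = q
    · obtain ⟨q, hqB, hq⟩ := hall
      set O := Finset.univ.filter (fun r => r ∈ MulAction.orbit H q) with hO
      have hOB : O ⊆ B := by
        intro r hr
        obtain ⟨g, rfl⟩ := (Finset.mem_filter.1 hr).2
        exact hB g g.2 q hqB
      rw [← Finset.sum_sdiff hOB, horb q hq (hnf q hqB), add_zero]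
      refine ih _ (Finset.sdiff_ssubset hOB ⟨q, Finset.mem_filter.2 ⟨Finset.mem_univ _, MulAction.mem_orbit_self q⟩⟩)
        (fun g hg r hr => ?_) (fun r hr => hnf r (Finset.mem_sdiff.1 hr).1)
      rw [Finset.mem_sdiff] at hr ⊢
      refine ⟨hB g hg r hr.1, fun h => hr.2 (Finset.mem_filter.2 ⟨Finset.mem_univ _, ?_⟩)⟩
      obtain ⟨k, hk⟩ := (Finset.mem_filter.1 h).2
      exact ⟨⟨g, hg⟩⁻¹ * k, by
        show (⟨g, hg⟩⁻¹ * k : H) • q = r
        rw [mul_smul, show k • q = g • r from hk]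
        exact inv_smul_smul g r⟩
    · push Not at hall
      rw [sum_eq_sum_fixed θ hlow B (fun q hq => hB _ hxmem q hq), Finset.filter_false_of_mem hall,
        Finset.sum_empty]
  have hT := sum_cosetCocycle_eq_zero θ hxc
  set F := Finset.univ.filter (fun q : G ⧸ (P : Subgroup G) => ∀ g ∈ H, g • q = q) with hF
  rw [← Finset.sum_sdiff (Finset.subset_univ F), hsum _ ?_ ?_, zero_add,
    Finset.sum_congr rfl (g := fun _ => (θ x).toAdd) (fun q hq => hxH q (Finset.mem_filter.1 hq).2),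
    Finset.sum_const, nsmul_eq_mul, mul_eq_zero, ZMod.natCast_eq_zero_iff] at hT
  · refine Multiplicative.toAdd.injective (hT.resolve_left fun hd => P.not_dvd_index ?_)
    refine Nat.modEq_zero_iff_dvd.1 ((hHp.card_modEq_card_fixedPoints (G ⧸ (P : Subgroup G))).trans ?_)
    rw [Nat.modEq_zero_iff_dvd]
    convert hd using 1
    rw [← Fintype.card_subtype, ← Nat.card_eq_fintype_card]
    exact Nat.card_congr (Equiv.subtypeEquivRight fun q =>
      ⟨fun h g hg => h ⟨g, hg⟩, fun h g => h g g.2⟩)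
  · intro g hg q hq
    rw [Finset.mem_sdiff, Finset.mem_filter] at hq ⊢
    refine ⟨Finset.mem_univ _, fun h => hq.2 ⟨Finset.mem_univ _, fun k hk => ?_⟩⟩
    have h2 := h.2 (g * k * g⁻¹) (H.mul_mem (H.mul_mem hg hk) (inv_mem hg))
    rw [mul_smul, mul_smul, inv_smul_smul] at h2
    exact MulAction.injective g h2
  · intro q hq h
    exact (Finset.mem_sdiff.1 hq).2 (Finset.mem_filter.2 ⟨Finset.mem_univ _, h⟩)

/-- Control of the `p`-residual gives control of transfer. -/
theorem mem_commutator_of_residual_eq (P : Sylow p G) {N : Subgroup G} (hPN : (P : Subgroup G) ≤ N)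
    (h : Cfsg.pResidualOf p N = Cfsg.pResidual p G ⊓ N) {u : G} (huP : u ∈ (P : Subgroup G))
    (hu : u ∈ commutator G) : u ∈ ⁅N, N⁆ := by
  haveI := pResidual_normal p G
  set π := QuotientGroup.mk' (Cfsg.pResidual p G)
  have htop : (P : Subgroup G).map π = ⊤ := by
    have h1 := congrArg (Subgroup.map π) (sylow_sup_pResidual P)
    rwa [Subgroup.map_sup, QuotientGroup.map_mk'_self, sup_bot_eq,
      Subgroup.map_top_of_surjective π (QuotientGroup.mk'_surjective _)] at h1
  obtain ⟨c, hc, hcu⟩ : π u ∈ (⁅(P : Subgroup G), (P : Subgroup G)⁆).map π := by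
    rw [Subgroup.map_commutator, htop]
    exact Subgroup.commutator_mono le_top le_top
      ((Subgroup.map_commutator ⊤ ⊤ π).le (Subgroup.mem_map_of_mem π hu))
  have hcP : c ∈ (P : Subgroup G) := Subgroup.commutator_le_self _ hc
  have hk : c⁻¹ * u ∈ Cfsg.pResidualOf p N := by
    rw [h]
    exact ⟨QuotientGroup.eq.mp hcu, N.mul_mem (inv_mem (hPN hcP)) (hPN huP)⟩
  obtain ⟨b, hb, hbu⟩ := hk
  obtain ⟨k, hk⟩ := P.2 ⟨c⁻¹ * u, mul_mem (inv_mem hcP) huP⟩
  have hbk : b ^ p ^ k = 1 := Subtype.ext (by simpa [← hbu] using congrArg Subtype.val hk)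
  have hgen : ∃ n : ℕ, n.Coprime p ∧ Abelianization.of b ^ n = 1 := by
    clear hbu hbk
    induction hb using Subgroup.closure_induction with
    | mem g hg =>
      exact ⟨orderOf g, hg, by rw [← map_pow, pow_orderOf_eq_one, map_one]⟩
    | one => exact ⟨1, Nat.coprime_one_left p, by simp⟩
    | mul g g' _ _ hg hg' =>
      obtain ⟨n, hn, e⟩ := hg
      obtain ⟨n', hn', e'⟩ := hg'
      refine ⟨n * n', hn.mul_left hn', ?_⟩
      rw [map_mul, mul_pow, pow_mul, e, one_pow, mul_comm n n', pow_mul, e', one_pow, one_mul]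
    | inv g _ hg =>
      obtain ⟨n, hn, e⟩ := hg
      exact ⟨n, hn, by rw [map_inv, inv_pow, e, inv_one]⟩
  obtain ⟨n, hn, e⟩ := hgen
  have h1 : orderOf (Abelianization.of b) ∣ p ^ k :=
    orderOf_dvd_of_pow_eq_one (by rw [← map_pow, hbk, map_one])
  have h2 := Nat.eq_one_of_dvd_coprimes ((hn.symm).pow_left k) h1 (orderOf_dvd_of_pow_eq_one e)
  rw [orderOf_eq_one_iff, ← MonoidHom.mem_ker, Abelianization.ker_of] at h2
  have h3 : (b : G) ∈ ⁅N, N⁆ := by
    rw [← Subgroup.map_subtype_commutator]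
    exact ⟨b, h2, rfl⟩
  rw [show u = c * (c⁻¹ * u) by group, ← hbu]
  exact mul_mem (Subgroup.commutator_mono hPN hPN hc) h3

end CfsgLib.Transfer
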