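import Mathlib

/-!
Transitivity of centralizers on fixed points lifts from a normal subgroup: if `G` acts
transitively on a set of order prime to `p` and, for every `p`-subgroup of the normal
subgroup `N`, its centralizer in `N` is transitive on its fixed points, then the same holds
for every `p`-subgroup of `G`.
-/

set_option autoImplicit false
set_option linter.style.haveILetI false

namespace CfsgLib.Transfer.FixedCosetLift

variable {G : Type*} [Group G] [Finite G] {p : ℕ} [hp : Fact p.Prime]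

theorem transitive_centralizer (N : Subgroup G) [N.Normal] {Y : Type*} [Finite Y] [MulAction G Y]
    (hY : ¬ p ∣ Nat.card Y)
    (hN : ∀ A : Subgroup G, A ≤ N → IsPGroup p A → ∀ x y : Y, (∀ a ∈ A, a • x = x) →
      (∀ a ∈ A, a • y = y) → ∃ c ∈ N, (∀ a ∈ A, c * a = a * c) ∧ c • x = y) :
    ∀ A : Subgroup G, IsPGroup p A → ∀ x y : Y, (∀ a ∈ A, a • x = x) → (∀ a ∈ A, a • y = y) →
      ∃ c ∈ N, (∀ a ∈ A, c * a = a * c) ∧ c • x = y := by
  suffices H : ∀ (n : ℕ) (A : Subgroup G), Nat.card G - Nat.card A = n → IsPGroup p A → ∀ x y : Y,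
      (∀ a ∈ A, a • x = x) → (∀ a ∈ A, a • y = y) → ∃ c ∈ N, (∀ a ∈ A, c * a = a * c) ∧ c • x = y from
    fun A => H _ A rfl
  intro n
  induction n using Nat.strong_induction_on with
  | _ n ih =>
  intro A hn hA x y hx hy
  set A0 := A ⊓ N with hA0
  set N1 := N ⊓ Subgroup.centralizer (A0 : Set G) with hN1
  have hA0p : IsPGroup p A0 := hA.to_le inf_le_left
  have hAn : A ≤ Subgroup.normalizer (N1 : Set G) := by
    intro a ha
    refine Subgroup.mem_normalizer_iff.mpr ?_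
    have key : ∀ b ∈ A, ∀ m ∈ N1, b * m * b⁻¹ ∈ N1 := by
      rintro b hb m ⟨hm, hmc⟩
      refine ⟨Subgroup.Normal.conj_mem inferInstance m hm b, Subgroup.mem_centralizer_iff.mpr fun w hw => ?_⟩
      have hw' : b⁻¹ * w * b ∈ A0 := ⟨A.mul_mem (A.mul_mem (A.inv_mem hb) hw.1) hb, by
        simpa using Subgroup.Normal.conj_mem inferInstance w hw.2 b⁻¹⟩
      have := Subgroup.mem_centralizer_iff.mp hmc _ hw'
      calc w * (b * m * b⁻¹) = b * ((b⁻¹ * w * b) * m) * b⁻¹ := by group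
        _ = b * (m * (b⁻¹ * w * b)) * b⁻¹ := by rw [this]
        _ = b * m * b⁻¹ * w := by group
    intro m
    refine ⟨key a ha m, fun h => ?_⟩
    have := key a⁻¹ (A.inv_mem ha) _ h
    rwa [show a⁻¹ * (a * m * a⁻¹) * a⁻¹⁻¹ = m by group] at this
  set X := N1 ⊔ A with hX
  have hXmem : ∀ g ∈ X, ∃ m ∈ N1, ∃ a ∈ A, m * a = g := by
    intro g hg
    rw [hX, ← SetLike.mem_coe, Subgroup.coe_mul_of_right_le_normalizer_left _ _ hAn] at hg
    exact hg
  -- the `X`-set of fixed points of `A0`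
  let F0 : SubMulAction X Y :=
    { carrier := {w | ∀ a ∈ A0, a • w = w}
      smul_mem' := by
        intro g w hw a ha
        obtain ⟨m, hm, b, hb, hgmb⟩ := hXmem g g.2
        show a • ((g : G) • w) = (g : G) • w
        rw [← hgmb, mul_smul, ← mul_smul a m, Subgroup.mem_centralizer_iff.mp hm.2 a ha, mul_smul]
        congr 1
        have hw' : b⁻¹ * a * b ∈ A0 := ⟨A.mul_mem (A.mul_mem (A.inv_mem hb) ha.1) hb, by
          simpa using Subgroup.Normal.conj_mem inferInstance a ha.2 b⁻¹⟩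
        rw [← mul_smul, show a * b = b * (b⁻¹ * a * b) by group, mul_smul, hw _ hw'] }
  have hF0 : ¬ p ∣ Nat.card F0 := by
    intro h
    apply hY
    have := hA0p.card_modEq_card_fixedPoints Y
    rw [Nat.modEq_zero_iff_dvd.symm] at h ⊢
    refine this.trans ?_
    convert h using 1
    apply Nat.card_congr
    exact Equiv.subtypeEquivRight fun w => ⟨fun h a ha => h ⟨a, ha⟩, fun h a => h a a.2⟩
  haveI : MulAction.IsPretransitive X F0 := ⟨fun u v => by
    obtain ⟨c, hcN, hc, hcu⟩ := hN A0 inf_le_right hA0p u v u.2 v.2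
    have hcN1 : c ∈ N1 := ⟨hcN, Subgroup.mem_centralizer_iff.mpr fun a ha => (hc a ha).symm⟩
    exact ⟨⟨c, Subgroup.mem_sup_left hcN1⟩, Subtype.ext hcu⟩⟩
  -- the normalizer of `A` in `X` and its kernel
  set M := X ⊓ Subgroup.normalizer (A : Set G) with hM
  set K := N ⊓ Subgroup.centralizer (A : Set G) with hK
  have hKM : K ≤ M := fun c hc => ⟨Subgroup.mem_sup_left ⟨hc.1, Subgroup.centralizer_le (fun a ha => ha.1) hc.2⟩,
    Subgroup.mem_normalizer_iff.mpr fun a => by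
      constructor
      · intro ha
        rwa [← Subgroup.mem_centralizer_iff.mp hc.2 a ha, mul_inv_cancel_right]
      · intro ha
        have := Subgroup.mem_centralizer_iff.mp hc.2 _ ha
        have e : c * a * c⁻¹ = a := by
          calc c * a * c⁻¹ = c⁻¹ * (c * (c * a * c⁻¹)) := by group
            _ = c⁻¹ * ((c * a * c⁻¹) * c) := by rw [this]
            _ = a := by group
        rwa [e] at ha⟩
  have hAM : A ≤ M := le_inf le_sup_right Subgroup.le_normalizer
  haveI hKn : (K.subgroupOf M).Normal := by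
    refine ⟨fun c hc g => ?_⟩
    refine ⟨Subgroup.Normal.conj_mem inferInstance _ hc.1 _, Subgroup.mem_centralizer_iff.mpr fun a ha => ?_⟩
    have hga : (g : G)⁻¹ * a * g ∈ A := by
      simpa using (Subgroup.mem_normalizer_iff.mp (Subgroup.inv_mem _ g.2.2) a).mp ha
    have := Subgroup.mem_centralizer_iff.mp hc.2 _ hga
    show a * ((g : G) * c * (g : G)⁻¹) = (g : G) * c * (g : G)⁻¹ * a
    calc a * ((g : G) * c * (g : G)⁻¹) = g * (((g : G)⁻¹ * a * g) * c) * (g : G)⁻¹ := by group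
      _ = g * ((c : G) * ((g : G)⁻¹ * a * g)) * (g : G)⁻¹ := congrArg (fun v => (g : G) * v * (g : G)⁻¹) this
      _ = (g : G) * c * (g : G)⁻¹ * a := by group
  -- `M` is `K` times a `p`-group
  obtain ⟨e, he⟩ := IsPGroup.iff_card.mp hA
  have hpow : ∀ m ∈ N1, m ∈ M → m ^ (p ^ e) ∈ K := by
    intro m hm hmM
    refine ⟨N.pow_mem hm.1 _, Subgroup.mem_centralizer_iff.mpr fun b hb => ?_⟩
    have hdA : m * b * m⁻¹ * b⁻¹ ∈ A0 := ⟨A.mul_mem ((Subgroup.mem_normalizer_iff.mp hmM.2 b).mp hb) (A.inv_mem hb), by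
      rw [show m * b * m⁻¹ * b⁻¹ = m * (b * m⁻¹ * b⁻¹) by group]
      exact N.mul_mem hm.1 (Subgroup.Normal.conj_mem inferInstance _ (N.inv_mem hm.1) b)⟩
    have hmd : Commute (m * b * m⁻¹ * b⁻¹) m := Subgroup.mem_centralizer_iff.mp hm.2 _ hdA
    have hit : ∀ k : ℕ, m ^ k * b * (m ^ k)⁻¹ = (m * b * m⁻¹ * b⁻¹) ^ k * b := by
      intro k
      induction k with
      | zero => simp
      | succ k ih =>
        calc m ^ (k + 1) * b * (m ^ (k + 1))⁻¹ = m * (m ^ k * b * (m ^ k)⁻¹) * m⁻¹ := by group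
          _ = (m * (m * b * m⁻¹ * b⁻¹) ^ k) * b * m⁻¹ := by rw [ih]; group
          _ = ((m * b * m⁻¹ * b⁻¹) ^ k * m) * b * m⁻¹ := by rw [(hmd.pow_left k).eq]
          _ = (m * b * m⁻¹ * b⁻¹) ^ (k + 1) * b := by rw [pow_succ]; group
    have hde : (m * b * m⁻¹ * b⁻¹) ^ (p ^ e) = 1 := by
      rw [← he]
      exact congrArg Subtype.val (pow_card_eq_one' (x := (⟨_, hdA.1⟩ : A)))
    have := hit (p ^ e)
    rw [hde, one_mul] at this
    exact (mul_inv_eq_iff_eq_mul.mp this).symm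
  have hquot : IsPGroup p (M ⧸ K.subgroupOf M) := by
    intro q
    induction q using QuotientGroup.induction_on with
    | H g =>
    obtain ⟨m, hm, a, ha, hma⟩ := hXmem g g.2.1
    have hk : ∀ k : ℕ, ((g : G)) ^ k * (a ^ k)⁻¹ ∈ N1 := by
      intro k
      induction k with
      | zero => simp
      | succ k ih =>
        have hc : a ^ k * m * (a ^ k)⁻¹ ∈ N1 :=
          (Subgroup.mem_normalizer_iff.mp (hAn (A.pow_mem ha k)) m).mp hm
        have e : (g : G) ^ (k + 1) * (a ^ (k + 1))⁻¹ = ((g : G) ^ k * (a ^ k)⁻¹) * (a ^ k * m * (a ^ k)⁻¹) := by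
          rw [pow_succ (g : G) k]; nth_rewrite 2 [← hma]; group
        rw [e]; exact N1.mul_mem ih hc
    have hae : a ^ (p ^ e) = 1 := by
      rw [← he]
      exact congrArg Subtype.val (pow_card_eq_one' (x := (⟨a, ha⟩ : A)))
    have h1 : (g : G) ^ (p ^ e) ∈ N1 := by
      have := hk (p ^ e)
      rwa [hae, inv_one, mul_one] at this
    refine ⟨e + e, ?_⟩
    rw [← QuotientGroup.mk_pow, QuotientGroup.eq_one_iff, Subgroup.mem_subgroupOf, Subgroup.coe_pow, pow_add, pow_mul]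
    exact hpow _ h1 (M.pow_mem g.2 _)
  obtain ⟨T, hT⟩ := (hA.of_equiv (Subgroup.subgroupOfEquivOfLe hAM).symm).exists_le_sylow
  set T' := (T : Subgroup M).map M.subtype with hT'
  have hAT : A ≤ T' := fun a ha => ⟨⟨a, hAM ha⟩, hT ha, rfl⟩
  have hTp : IsPGroup p T' := T.isPGroup'.map _
  have hdec : ∀ g ∈ M, ∃ t ∈ T', t⁻¹ * g ∈ K := by
    intro g hg
    have hsurj := QuotientGroup.mk'_surjective (K.subgroupOf M)
    have htop : (T.mapSurjective hsurj : Sylow p (M ⧸ K.subgroupOf M)).toSubgroup = ⊤ := by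
      refine ((T.mapSurjective hsurj).is_maximal' ?_ le_top).symm
      exact hquot.to_subgroup ⊤
    have : QuotientGroup.mk' _ ⟨g, hg⟩ ∈ ((T : Subgroup M).map (QuotientGroup.mk' (K.subgroupOf M))) := by
      rw [← Sylow.coe_mapSurjective hsurj, htop]; trivial
    obtain ⟨t, ht, hte⟩ := this
    exact ⟨t, ⟨t, ht, rfl⟩, Subgroup.mem_subgroupOf.mp (QuotientGroup.eq.mp hte)⟩
  -- a point of `F0` fixed by `T`
  have hTX : T' ≤ X := (Subgroup.map_subtype_le _).trans inf_le_left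
  obtain ⟨w, hw⟩ := (hTp.of_equiv (Subgroup.subgroupOfEquivOfLe hTX).symm).nonempty_fixed_point_of_prime_not_dvd_card F0 hF0
  have hwT : ∀ t ∈ T', t • (w : Y) = w := fun t ht =>
    congrArg Subtype.val (hw ⟨⟨t, hTX ht⟩, ht⟩)
  -- every point fixed by `A` is in the orbit of `w`
  suffices H : ∀ y : Y, (∀ a ∈ A, a • y = y) → ∃ c ∈ N, (∀ a ∈ A, c * a = a * c) ∧ c • y = (w : Y) by
    obtain ⟨c, hc, hca, hcx⟩ := H x hx
    obtain ⟨d, hd, hda, hdy⟩ := H y hy
    refine ⟨d⁻¹ * c, N.mul_mem (N.inv_mem hd) hc, fun a ha => ?_, by rw [mul_smul, hcx, ← hdy, inv_smul_smul]⟩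
    exact ((Commute.inv_left (hda a ha : Commute d a)).mul_left (hca a ha : Commute c a)).eq
  intro y hy
  have hyF : y ∈ F0 := fun a ha => hy a ha.1
  set u : F0 := ⟨y, hyF⟩
  have hAs : A.subgroupOf X ≤ MulAction.stabilizer X u := fun a ha =>
    Subtype.ext (show (a : G) • y = y from hy a ha)
  set Xu := MulAction.stabilizer X u with hXu
  obtain ⟨S, hS⟩ := (((hA.of_equiv (Subgroup.subgroupOfEquivOfLe (le_sup_right : A ≤ X)).symm)).of_equiv
    (Subgroup.subgroupOfEquivOfLe hAs).symm).exists_le_sylow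
  set S' := (S : Subgroup Xu).map (X.subtype.comp Xu.subtype) with hS'
  have hAS : A ≤ S' := fun a ha =>
    ⟨⟨⟨a, Subgroup.mem_sup_right ha⟩, hAs ha⟩, hS ha, rfl⟩
  have hSp : IsPGroup p S' := S.isPGroup'.map _
  have hSy : ∀ s ∈ S', s • y = y := by
    rintro _ ⟨s, -, rfl⟩
    exact congrArg Subtype.val s.2
  have hSX : S' ≤ X := by
    rintro _ ⟨s, -, rfl⟩
    exact (s : X).2
  set B := S' ⊓ Subgroup.normalizer (A : Set G) with hB
  have hAB : A ≤ B := le_inf hAS Subgroup.le_normalizer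
  have hBM : B ≤ M := inf_le_inf_right _ hSX
  by_cases hBA : B = A
  · -- `A` is a Sylow subgroup of `X`
    have hSA : S' = A := by
      by_contra hne
      haveI : Group.IsNilpotent S' := hSp.isNilpotent
      have hlt : A.subgroupOf S' < ⊤ := lt_top_iff_ne_top.mpr fun h =>
        hne (le_antisymm (Subgroup.subgroupOf_eq_top.mp h) hAS)
      have h2 := Group.normalizerCondition_of_isNilpotent (A.subgroupOf S') hlt
      obtain ⟨g, hg, hgA⟩ := SetLike.exists_of_lt h2
      apply hgA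
      show (g : G) ∈ A
      rw [← hBA]
      refine ⟨g.2, Subgroup.mem_normalizer_iff.mpr fun a => ?_⟩
      constructor
      · intro ha
        exact (Subgroup.mem_normalizer_iff.mp hg ⟨a, hAS ha⟩).mp ha
      · intro ha
        have haS : a ∈ S' := by
          have := S'.mul_mem (S'.mul_mem (S'.inv_mem g.2) (hAS ha)) g.2
          rwa [show (g : G)⁻¹ * ((g : G) * a * (g : G)⁻¹) * g = a by group] at this
        exact (Subgroup.mem_normalizer_iff.mp hg ⟨a, haS⟩).mpr ha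
    haveI : Nonempty F0 := ⟨u⟩
    obtain ⟨g, hg⟩ := MulAction.exists_smul_eq X u w
    have h1 : (A.subgroupOf X).map (MulAut.conj g⁻¹).toMonoidHom ≤ Xu := by
      rintro _ ⟨a, ha, rfl⟩
      show (g⁻¹ * a * g⁻¹⁻¹) • u = u
      rw [inv_inv, mul_smul, mul_smul, hg, inv_smul_eq_iff, hg]
      exact Subtype.ext (hwT (a : G) (hAT ha))
    have hAp : IsPGroup p (A.subgroupOf X) := hA.of_equiv (Subgroup.subgroupOfEquivOfLe le_sup_right).symm
    obtain ⟨S2, hS2⟩ := ((hAp.map (MulAut.conj g⁻¹).toMonoidHom).of_equiv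
      (Subgroup.subgroupOfEquivOfLe h1).symm).exists_le_sylow
    obtain ⟨m, hm⟩ := MulAction.exists_smul_eq Xu S2 S
    have hconj : ∀ a ∈ A, ((m : X) : G) * ((g : G)⁻¹ * a * g) * ((m : X) : G)⁻¹ ∈ A := by
      intro a ha
      rw [← hSA]
      let aX : X := ⟨a, Subgroup.mem_sup_right ha⟩
      have h2 : (⟨g⁻¹ * aX * g⁻¹⁻¹, h1 ⟨aX, ha, rfl⟩⟩ : Xu) ∈ (S2 : Subgroup Xu) := hS2 ⟨aX, ha, rfl⟩
      refine ⟨m * ⟨g⁻¹ * aX * g⁻¹⁻¹, h1 ⟨aX, ha, rfl⟩⟩ * m⁻¹, ?_, ?_⟩
      · rw [← hm]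
        exact ⟨_, h2, rfl⟩
      · show ((m : X) : G) * ((g : G)⁻¹ * a * ((g : G)⁻¹)⁻¹) * ((m : X) : G)⁻¹ = _
        rw [inv_inv]
    set h := ((m : X) : G) * (g : G)⁻¹ with hh
    have hhA : h ∈ Subgroup.normalizer (A : Set G) := by
      have hle : A.map (MulAut.conj h).toMonoidHom ≤ A := by
        rintro _ ⟨a, ha, rfl⟩
        show h * a * h⁻¹ ∈ A
        have := hconj a ha
        rwa [show ((m : X) : G) * ((g : G)⁻¹ * a * g) * ((m : X) : G)⁻¹ = h * a * h⁻¹ by rw [hh]; group] at this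
      have heq := Subgroup.eq_of_le_of_card_ge hle
        (Subgroup.card_map_of_injective (MulAut.conj h).injective).ge
      refine Subgroup.mem_normalizer_iff.mpr fun a => ⟨fun ha => hle ⟨a, ha, rfl⟩, fun ha => ?_⟩
      rw [← heq] at ha
      obtain ⟨b, hb, hbe⟩ := ha
      rwa [← (MulAut.conj h).injective hbe]
    have hhM : h⁻¹ ∈ M := M.inv_mem ⟨X.mul_mem (m : X).2 (X.inv_mem g.2), hhA⟩
    -- `h⁻¹ • y = w`
    have hhy : h⁻¹ • y = (w : Y) := by
      rw [hh, mul_inv_rev, inv_inv, mul_smul,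
        show ((m : X) : G)⁻¹ • y = y by
          have : (m : X) • u = u := m.2
          rw [inv_smul_eq_iff]; exact (congrArg Subtype.val this).symm]
      exact congrArg Subtype.val hg
    obtain ⟨t, ht, htk⟩ := hdec _ hhM
    refine ⟨t⁻¹ * h⁻¹, htk.1, fun a ha => (Subgroup.mem_centralizer_iff.mp htk.2 a ha).symm, ?_⟩
    rw [mul_smul, hhy, inv_smul_eq_iff, hwT t ht]
  · -- a larger subgroup
    have hlt : A < B := lt_of_le_of_ne hAB (Ne.symm hBA)
    have hBp : IsPGroup p (B.subgroupOf M) := (hSp.to_le inf_le_left).of_equiv (Subgroup.subgroupOfEquivOfLe hBM).symm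
    obtain ⟨T2, hT2⟩ := hBp.exists_le_sylow
    obtain ⟨h, hh⟩ := MulAction.exists_smul_eq M T2 T
    obtain ⟨t, ht, htk⟩ := hdec h h.2
    set k := t⁻¹ * (h : G) with hk
    have hkB : ∀ b ∈ B, k * b * k⁻¹ ∈ T' := by
      intro b hb
      have : (⟨(h : G) * b * (h : G)⁻¹, M.mul_mem (M.mul_mem h.2 (hBM hb)) (M.inv_mem h.2)⟩ : M) ∈ (T : Subgroup M) := by
        rw [← hh]
        exact ⟨⟨b, hBM hb⟩, hT2 hb, rfl⟩
      rw [show k * b * k⁻¹ = t⁻¹ * ((h : G) * b * (h : G)⁻¹) * t by rw [hk]; group]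
      exact T'.mul_mem (T'.mul_mem (T'.inv_mem ht) ⟨_, this, rfl⟩) ht
    set B' := B.map (MulAut.conj k).toMonoidHom with hB'
    have hka : ∀ a ∈ A, k * a * k⁻¹ = a := fun a ha => by
      rw [← Subgroup.mem_centralizer_iff.mp htk.2 a ha, mul_inv_cancel_right]
    have hAB' : A ≤ B' := fun a ha => ⟨a, hAB ha, hka a ha⟩
    have hcard : Nat.card G - Nat.card B' < n := by
      rw [← hn]
      have h1 : Nat.card B' = Nat.card B := Subgroup.card_map_of_injective (MulAut.conj k).injective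
      have h2 := Subgroup.card_le_card_group B
      have h3 : Nat.card A < Nat.card B := by
        refine lt_of_le_of_ne (Subgroup.card_le_of_le hlt.le) fun e => ?_
        exact hlt.ne (Subgroup.eq_of_le_of_card_ge hlt.le e.ge)
      omega
    obtain ⟨c, hcN, hc, hcy⟩ := ih _ hcard B' rfl ((hSp.to_le inf_le_left).map _) (k • y) w
      (by
        rintro _ ⟨b, hb, rfl⟩
        show (k * b * k⁻¹) • k • y = k • y
        rw [← mul_smul, inv_mul_cancel_right, mul_smul, hSy b hb.1])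
      (by rintro _ ⟨b, hb, rfl⟩; exact hwT _ (hkB b hb))
    refine ⟨c * k, N.mul_mem hcN htk.1, fun a ha => ?_, by rw [mul_smul, hcy]⟩
    have h1 := hc a (hAB' ha)
    have h2 : k * a = a * k := mul_inv_eq_iff_eq_mul.mp (hka a ha)
    rw [mul_assoc, h2, ← mul_assoc, h1, mul_assoc]

end CfsgLib.Transfer.FixedCosetLift
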