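import Cfsg.Agent.Lib.Transfer.AlperinGoldschmidt
import Cfsg.Agent.Lib.Coprime.Generation
import Cfsg.Agent.Lib.Strong.Conj
import Cfsg.Agent.S3056
import Cfsg.Prelude.Def_SylowChains

/-!
# The strong form of the Alperin-Goldschmidt fusion theorem
-/

set_option autoImplicit false
set_option linter.style.haveILetI false

namespace CfsgLib.StrongAG

open CfsgLib.Transfer CfsgLib.AlperinGoldschmidt

variable {G : Type*} [Group G] {p : ℕ}

/-- The conditions on one factor. -/
def Spec (P : Sylow p G) (H X : Subgroup G) (x : G) : Prop :=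
  H ≤ (P : Subgroup G) ∧
    ¬ p ∣ ((P : Subgroup G) ⊓ Subgroup.normalizer (H : Set G)).relIndex (Subgroup.normalizer (H : Set G)) ∧
    (P : Subgroup G) ⊓ Subgroup.centralizer (H : Set G) ≤ H ∧
    (Cfsg.pPrimePCore p ↥(Subgroup.normalizer (H : Set G))).map (Subgroup.normalizer (H : Set G)).subtype =
      H ⊔ Subgroup.centralizer (H : Set G) ∧
    ¬ Cfsg.IsSylowChainConnected p
        (↥(Subgroup.normalizer (H : Set G)) ⧸ H.subgroupOf (Subgroup.normalizer (H : Set G))) ∧
    (H ≤ X ∧ X ≤ Subgroup.normalizer (H : Set G) ∧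
      (X.subgroupOf (Subgroup.normalizer (H : Set G))).Normal ∧ p ∣ H.relIndex X ∧
      ∀ Y : Subgroup G, H ≤ Y → Y ≤ Subgroup.normalizer (H : Set G) →
        (Y.subgroupOf (Subgroup.normalizer (H : Set G))).Normal → p ∣ H.relIndex Y → X ≤ Y) ∧
    x ∈ (Cfsg.pResidual p ↥X).map X.subtype

/-- A product of factors moving the set `A` inside `P`. -/
inductive SChain (P : Sylow p G) : Set G → G → Prop
  | nil (A : Set G) : SChain P A 1
  | cons {A : Set G} {x h : G} (D X : Subgroup G) (hs : Spec P D X x) (hA : A ⊆ (D : Set G))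
      (hc : SChain P (rconj x A) h) : SChain P A (x * h)

theorem SChain.mono {P : Sylow p G} {A B : Set G} {g : G} (h : SChain P A g) (hB : B ⊆ A) :
    SChain P B g := by
  induction h generalizing B with
  | nil A => exact SChain.nil B
  | cons D X hs hA _ ih => exact SChain.cons D X hs (hB.trans hA) (ih (rconj_mono _ hB))

theorem SChain.trans {P : Sylow p G} {A : Set G} {g h : G} (hg : SChain P A g)
    (hh : SChain P (rconj g A) h) : SChain P A (g * h) := by
  induction hg generalizing h with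
  | nil A => rw [one_mul]; rwa [rconj_one] at hh
  | cons D X hs hA _ ih =>
    rw [mul_assoc]
    refine SChain.cons D X hs hA (ih ?_)
    rwa [← rconj_mul]

theorem SChain.exists_fin {P : Sylow p G} {A : Set G} {g : G} (h : SChain P A g) :
    ∃ (n : ℕ) (H X : Fin n → Subgroup G) (x : Fin n → G), g = (List.ofFn x).prod ∧
      ∀ i : Fin n, Spec P (H i) (X i) (x i) ∧
        rconj (((List.ofFn x).take i.val).prod) A ⊆ (H i : Set G) := by
  induction h with
  | nil A => exact ⟨0, Fin.elim0, Fin.elim0, Fin.elim0, by simp, fun i => i.elim0⟩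
  | @cons A x k D X hs hA _ ih =>
    obtain ⟨n, H', X', x', rfl, hi⟩ := ih
    refine ⟨n + 1, Fin.cons D H', Fin.cons X X', Fin.cons x x', by simp [List.ofFn_succ],
      fun i => ?_⟩
    refine Fin.cases ?_ (fun j => ?_) i
    · refine ⟨by simpa using hs, ?_⟩
      simp [rconj_one, hA]
    · refine ⟨by simpa using (hi j).1, ?_⟩
      simpa [List.ofFn_succ, rconj_mul] using (hi j).2

theorem chainConnected_of_equiv {X Y : Type*} [Group X] [Finite X] [Group Y] [Finite Y]
    [Fact p.Prime] (e : X ≃* Y) (h : Cfsg.IsSylowChainConnected p Y) :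
    Cfsg.IsSylowChainConnected p X := by
  by_contra hX
  obtain ⟨H, hH, hpH, hi⟩ := (Cfsg.Agent.S3056.result p).mp hX
  have hN := Strong.forall_not_dvd_iff.mp hi
  refine (Cfsg.Agent.S3056.result p).mpr ⟨H.map e.toMonoidHom, ?_, ?_, Strong.forall_not_dvd_iff.mpr ?_⟩ h
  · intro htop
    refine hH (eq_top_iff.mpr fun z _ => ?_)
    obtain ⟨w, hw, hwz⟩ : e z ∈ H.map e.toMonoidHom := htop ▸ Subgroup.mem_top _
    exact e.injective hwz ▸ hw
  · rwa [Subgroup.card_map_of_injective (f := e.toMonoidHom) e.injective]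
  · intro Q hQ hQH hne y hy
    set Q' := Q.map e.symm.toMonoidHom with hQ'
    have hQ'H : Q' ≤ H := by
      rintro _ ⟨q, hq, rfl⟩
      obtain ⟨w, hw, rfl⟩ := hQH hq
      simpa using hw
    have hne' : Q' ≠ ⊥ := fun hb => hne (Subgroup.map_eq_bot_iff_of_injective _ e.symm.injective |>.mp hb)
    refine ⟨e.symm y, hN Q' (hQ.map _) hQ'H hne' ?_, e.apply_symm_apply y⟩
    exact Subgroup.le_normalizer_map e.symm.toMonoidHom ⟨y, hy, rfl⟩

theorem map_pPrimePCore_le {X Y : Type*} [Group X] [Finite X] [Group Y] [Finite Y] [Fact p.Prime]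
    (e : X ≃* Y) : (Cfsg.pPrimePCore p X).map e.toMonoidHom ≤ Cfsg.pPrimePCore p Y := by
  haveI := Transfer.pPrimeCore_normal p Y
  haveI := Transfer.pPrimeCore_normal p X
  haveI := pPrimePCore_normal' (p := p) (X := X)
  obtain ⟨S⟩ := (inferInstance : Nonempty (Sylow p X))
  set M := (Cfsg.pPrimePCore p X).map e.toMonoidHom with hM
  haveI : M.Normal := Subgroup.Normal.map inferInstance _ e.surjective
  have hO : (Cfsg.pPrimeCore p X).map e.toMonoidHom ≤ Cfsg.pPrimeCore p Y :=
    Transfer.le_pPrimeCore (Subgroup.Normal.map inferInstance _ e.surjective)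
      (by rw [Subgroup.card_map_of_injective (f := e.toMonoidHom) e.injective]; exact Transfer.pPrimeCore_coprime p)
  refine Subgroup.map_le_iff_le_comap.mp (Fitting.le_pCore
    (Subgroup.Normal.map inferInstance _ (QuotientGroup.mk'_surjective _)) ?_)
  have heq : M.map (QuotientGroup.mk' (Cfsg.pPrimeCore p Y)) =
      (((S : Subgroup X) ⊓ Cfsg.pPrimePCore p X).map e.toMonoidHom).map
        (QuotientGroup.mk' (Cfsg.pPrimeCore p Y)) := by
    rw [hM]
    conv_lhs => rw [pPrimePCore_eq_sup S]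
    rw [Subgroup.map_sup, Subgroup.map_sup]
    rw [show ((Cfsg.pPrimeCore p X).map e.toMonoidHom).map (QuotientGroup.mk' (Cfsg.pPrimeCore p Y)) = ⊥ by
      rw [Subgroup.map_eq_bot_iff, QuotientGroup.ker_mk']; exact hO]
    rw [bot_sup_eq]
  rw [heq]
  exact ((S.2.to_le inf_le_left).map _).map _

variable [Finite G] [Fact p.Prime]

/-- Conjugating by an element normalizing `P`. -/
theorem Spec.conj {P : Sylow p G} {D X : Subgroup G} {x : G} (hs : Spec P D X x) {y : G}
    (hy : y ∈ Subgroup.normalizer ((P : Subgroup G) : Set G)) :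
    Spec P (D.map (MulAut.conj y).toMonoidHom) (X.map (MulAut.conj y).toMonoidHom) (y * x * y⁻¹) := by
  set φ := (MulAut.conj y).toMonoidHom with hφ
  have hinj : Function.Injective φ := (MulAut.conj y).injective
  have hPφ : (P : Subgroup G).map φ = P := Transfer.map_conj_eq_self_iff.mpr hy
  obtain ⟨h1, h2, h3, h4, h5, ⟨h6a, h6b, h6c, h6d, h6e⟩, h7⟩ := hs
  set N := Subgroup.normalizer (D : Set G) with hN
  have hN' : Subgroup.normalizer ((D.map φ : Subgroup G) : Set G) = N.map φ := normalizer_map_conj y D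
  have hC' : Subgroup.centralizer ((D.map φ : Subgroup G) : Set G) =
      (Subgroup.centralizer (D : Set G)).map φ := by
    ext z
    constructor
    · intro hz
      refine ⟨y⁻¹ * z * y, Subgroup.mem_centralizer_iff.mpr fun d hd => ?_, by simp [hφ, mul_assoc]⟩
      have h := Subgroup.mem_centralizer_iff.mp hz (y * d * y⁻¹) ⟨d, hd, rfl⟩
      calc d * (y⁻¹ * z * y) = y⁻¹ * (y * d * y⁻¹ * z) * y := by group
        _ = y⁻¹ * (z * (y * d * y⁻¹)) * y := by rw [h]
        _ = y⁻¹ * z * y * d := by group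
    · rintro ⟨c, hc, rfl⟩
      refine Subgroup.mem_centralizer_iff.mpr ?_
      rintro _ ⟨d, hd, rfl⟩
      rw [← map_mul, ← map_mul, Subgroup.mem_centralizer_iff.mp hc d hd]
  have hr : ∀ A B : Subgroup G, (A.map φ).relIndex (B.map φ) = A.relIndex B := fun A B =>
    Subgroup.relIndex_map_map_of_injective A B hinj
  let ψ : N ≃* Subgroup.normalizer ((D.map φ : Subgroup G) : Set G) :=
    (N.equivMapOfInjective φ hinj).trans (MulEquiv.subgroupCongr hN'.symm)
  have hψ : ∀ n : N, ((ψ n : Subgroup.normalizer ((D.map φ : Subgroup G) : Set G)) : G) = y * n * y⁻¹ :=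
    fun n => rfl
  refine ⟨?_, ?_, ?_, ?_, ?_, ⟨Subgroup.map_mono h6a, ?_, ?_, ?_, ?_⟩, ?_⟩
  · rw [← hPφ]; exact Subgroup.map_mono h1
  · rw [hN']
    conv => rw [← hPφ]
    rwa [← Subgroup.map_inf _ _ φ hinj, hr]
  · rw [hC']
    conv_lhs => rw [← hPφ]
    rw [← Subgroup.map_inf _ _ φ hinj]
    exact Subgroup.map_mono h3
  · have hL : (Cfsg.pPrimePCore p N).map ψ.toMonoidHom =
        Cfsg.pPrimePCore p ↥(Subgroup.normalizer ((D.map φ : Subgroup G) : Set G)) := by
      refine le_antisymm (map_pPrimePCore_le ψ) fun z hz => ?_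
      exact ⟨ψ.symm z, map_pPrimePCore_le ψ.symm ⟨z, hz, rfl⟩, ψ.apply_symm_apply z⟩
    rw [← hL, Subgroup.map_map, hC', ← Subgroup.map_sup, ← h4, Subgroup.map_map]
    rfl
  · intro hc
    haveI : (D.subgroupOf N).Normal :=
      (Subgroup.normal_subgroupOf_iff_le_normalizer Subgroup.le_normalizer).mpr le_rfl
    haveI : ((D.map φ).subgroupOf (Subgroup.normalizer ((D.map φ : Subgroup G) : Set G))).Normal :=
      (Subgroup.normal_subgroupOf_iff_le_normalizer Subgroup.le_normalizer).mpr le_rfl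
    refine h5 (chainConnected_of_equiv (QuotientGroup.congr _ _ ψ ?_) hc)
    ext z
    constructor
    · rintro ⟨n, hn, rfl⟩
      exact ⟨n, hn, rfl⟩
    · intro hz
      refine ⟨ψ.symm z, ?_, ψ.apply_symm_apply z⟩
      obtain ⟨d, hd, hdz⟩ := (hz : (z : G) ∈ D.map φ)
      have := hψ (ψ.symm z)
      rw [ψ.apply_symm_apply] at this
      show ((ψ.symm z : N) : G) ∈ D
      rw [← show d = ((ψ.symm z : N) : G) from hinj (hdz.trans this)]
      exact hd
  · rw [hN']; exact Subgroup.map_mono h6b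
  · refine (Subgroup.normal_subgroupOf_iff_le_normalizer (by rw [hN']; exact Subgroup.map_mono h6b)).mpr ?_
    rw [hN', normalizer_map_conj]
    exact Subgroup.map_mono ((Subgroup.normal_subgroupOf_iff_le_normalizer h6b).mp h6c)
  · rwa [hr]
  · intro Y hY1 hY2 hY3 hY4
    set Y' := Y.comap φ with hY'
    have hYmap : Y'.map φ = Y := Subgroup.map_comap_eq_self_of_surjective (MulAut.conj y).surjective Y
    have hle : Y' ≤ N := by
      intro z hz
      obtain ⟨w, hw, hwz⟩ := hN'.le (hY2 (show φ z ∈ Y from hz))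
      exact hinj hwz ▸ hw
    have hn : (Y'.subgroupOf N).Normal := by
      refine (Subgroup.normal_subgroupOf_iff_le_normalizer hle).mpr fun z hz => ?_
      have h := (Subgroup.normal_subgroupOf_iff_le_normalizer hY2).mp hY3 (hN'.ge ⟨z, hz, rfl⟩)
      rw [← hYmap, normalizer_map_conj] at h
      obtain ⟨w, hw, hwz⟩ := h
      exact hinj hwz ▸ hw
    have hd : p ∣ D.relIndex Y' := by rwa [← hYmap, hr] at hY4
    rw [← hYmap]
    exact Subgroup.map_mono (h6e Y' (Subgroup.map_le_iff_le_comap.mp hY1) hle hn hd)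
  · obtain ⟨o, ho, rfl⟩ := h7
    exact ⟨(X.equivMapOfInjective φ hinj) o,
      Transfer.map_pResidual_le (X.equivMapOfInjective φ hinj).toMonoidHom (Subgroup.mem_map_of_mem _ ho), rfl⟩

theorem SChain.conj {P : Sylow p G} {A : Set G} {g : G} (h : SChain P A g) {y : G}
    (hy : y ∈ Subgroup.normalizer ((P : Subgroup G) : Set G)) :
    SChain P (rconj y⁻¹ A) (y * g * y⁻¹) := by
  induction h with
  | nil A => rw [mul_one, mul_inv_cancel]; exact SChain.nil _
  | @cons A x k D X hs hA _ ih =>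
    rw [show y * (x * k) * y⁻¹ = (y * x * y⁻¹) * (y * k * y⁻¹) by group]
    refine SChain.cons _ _ (hs.conj hy) ?_ ?_
    · rintro _ ⟨a, ha, rfl⟩
      exact ⟨a, hA ha, by simp⟩
    · rwa [← rconj_mul, show y⁻¹ * (y * x * y⁻¹) = x * y⁻¹ by group, rconj_mul]

/-- A centralizing element, a chain and an element normalizing `P`. -/
def RR (P : Sylow p G) (A : Set G) (g : G) : Prop :=
  ∃ c ∈ Subgroup.centralizer A, ∃ h, SChain P A h ∧
    ∃ y ∈ Subgroup.normalizer ((P : Subgroup G) : Set G), g = c * h * y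

theorem RR.of_centralizer {P : Sylow p G} {A : Set G} {c : G} (hc : c ∈ Subgroup.centralizer A) :
    RR P A c :=
  ⟨c, hc, 1, SChain.nil A, 1, one_mem _, by group⟩

theorem RR.of_normalizer {P : Sylow p G} (A : Set G) {y : G}
    (hy : y ∈ Subgroup.normalizer ((P : Subgroup G) : Set G)) : RR P A y :=
  ⟨1, one_mem _, 1, SChain.nil A, y, hy, by group⟩

theorem RR.mono {P : Sylow p G} {A B : Set G} {g : G} (h : RR P A g) (hB : B ⊆ A) : RR P B g := by
  obtain ⟨c, hc, k, hk, y, hy, e⟩ := h
  exact ⟨c, Subgroup.centralizer_le hB hc, k, hk.mono hB, y, hy, e⟩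

theorem RR.trans {P : Sylow p G} {A : Set G} {g h : G} (hg : RR P A g) (hh : RR P (rconj g A) h) :
    RR P A (g * h) := by
  obtain ⟨c, hc, k, hk, y, hy, rfl⟩ := hg
  rw [show c * k * y = c * (k * y) by group, rconj_centralizer_mul hc] at hh
  obtain ⟨d, hd, l, hl, z, hz, rfl⟩ := hh
  refine ⟨c * ((k * y) * d * (k * y)⁻¹), mul_mem hc (Subgroup.mem_centralizer_iff.mpr fun a ha => ?_),
    k * (y * l * y⁻¹), hk.trans ?_, y * z, mul_mem hy hz, by group⟩
  · have e := Subgroup.mem_centralizer_iff.mp hd ((k * y)⁻¹ * a * (k * y)) ⟨a, ha, rfl⟩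
    calc a * ((k * y) * d * (k * y)⁻¹) = (k * y) * ((k * y)⁻¹ * a * (k * y) * d) * (k * y)⁻¹ := by group
      _ = (k * y) * (d * ((k * y)⁻¹ * a * (k * y))) * (k * y)⁻¹ := by rw [e]
      _ = (k * y) * d * (k * y)⁻¹ * a := by group
  · have := hl.conj hy
    rwa [← rconj_mul, mul_inv_cancel_right] at this

theorem rconj_normalizer {D : Subgroup G} {u : G} (hu : u ∈ Subgroup.normalizer (D : Set G)) :
    rconj u (D : Set G) = (D : Set G) := by
  ext z
  constructor
  · rintro ⟨d, hd, rfl⟩
    exact (Subgroup.mem_normalizer_iff''.mp hu d).mp hd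
  · intro hz
    exact ⟨u * z * u⁻¹, (Subgroup.mem_normalizer_iff.mp hu z).mp hz, by group⟩

/-- In a group whose Sylow subgroups are not chain-connected there is a least normal subgroup of
order divisible by `p`. -/
theorem exists_least_normal {Q : Type*} [Group Q] [Finite Q] (hdiv : p ∣ Nat.card Q)
    (hnc : ¬ Cfsg.IsSylowChainConnected p Q) :
    ∃ K : Subgroup Q, K.Normal ∧ p ∣ Nat.card K ∧
      ∀ Y : Subgroup Q, Y.Normal → p ∣ Nat.card Y → K ≤ Y := by
  classical
  obtain ⟨H, hH, hpH, hi⟩ := (Cfsg.Agent.S3056.result p).mp hnc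
  have hN := Strong.forall_not_dvd_iff.mp hi
  have hC : ∀ a ∈ H, orderOf a = p → Subgroup.centralizer ({a} : Set Q) ≤ H :=
    fun a h1 h2 => Strong.centralizer_le_of_normalizer hN h1 h2
  obtain ⟨z, hz⟩ := exists_prime_orderOf_dvd_card' (G := H) p hpH
  have hzo : orderOf (z : Q) = p := (Subgroup.orderOf_coe z).trans hz
  obtain ⟨T, hT⟩ := (isPGroup_zpowers (p := p) (x := (z : Q))
    ⟨1, by rw [hzo, pow_one]⟩).exists_le_sylow
  have hTH : (T : Subgroup Q) ≤ H :=
    Strong.sylow_le_of_normalizer hN T (hT (Subgroup.mem_zpowers _)) z.2 hzo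
  have key : ∀ K1 K2 : Subgroup Q, K1.Normal → K2.Normal → p ∣ Nat.card K1 → p ∣ Nat.card K2 →
      p ∣ Nat.card ↥(K1 ⊓ K2) := by
    intro K1 K2 hK1 hK2 hd1 hd2
    by_contra hJ
    haveI := hK1
    haveI := hK2
    have hmeet : ∀ K : Subgroup Q, K.Normal → p ∣ Nat.card K →
        ∃ w ∈ (T : Subgroup Q) ⊓ K, orderOf w = p := by
      intro K hKn hd
      haveI := hKn
      let R : Sylow p K := (T.2.comap_of_injective K.subtype K.subtype_injective).toSylow
        (fun hd' => T.not_dvd_index (hd'.trans (Transfer.relIndex_dvd_index_of_normal _ K)))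
      have hR : p ∣ Nat.card (R : Subgroup K) := R.dvd_card_of_dvd_card hd
      obtain ⟨w, hw⟩ := exists_prime_orderOf_dvd_card' (G := (R : Subgroup K)) p hR
      refine ⟨((w : K) : Q), Subgroup.mem_inf.mpr ⟨w.2, (w : K).2⟩, ?_⟩
      rw [Subgroup.orderOf_coe, Subgroup.orderOf_coe, hw]
    obtain ⟨z1, hz1, ho1⟩ := hmeet K1 hK1 hd1
    obtain ⟨z2, hz2, ho2⟩ := hmeet K2 hK2 hd2
    obtain ⟨hz1T, hz1K⟩ := Subgroup.mem_inf.mp hz1
    obtain ⟨hz2T, hz2K⟩ := Subgroup.mem_inf.mp hz2
    have hcoe : ∀ w ∈ (T : Subgroup Q), w ∈ K1 ⊓ K2 → w = 1 := fun w hwT hwJ =>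
      PSolvable.eq_one_of_mem_of_mem T.2
        (((Fact.out : p.Prime).coprime_iff_not_dvd.mpr hJ).symm) hwT hwJ
    have hcomm : Commute z1 z2 := by
      have h1 : z1 * z2 * z1⁻¹ * z2⁻¹ = 1 := hcoe _
        (mul_mem (mul_mem (mul_mem hz1T hz2T) (inv_mem hz1T)) (inv_mem hz2T))
        (Subgroup.mem_inf.mpr ⟨by
          rw [show z1 * z2 * z1⁻¹ * z2⁻¹ = z1 * (z2 * z1⁻¹ * z2⁻¹) by group]
          exact mul_mem hz1K (hK1.conj_mem _ (inv_mem hz1K) z2),
          mul_mem (hK2.conj_mem _ hz2K z1) (inv_mem hz2K)⟩)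
      exact mul_inv_eq_iff_eq_mul.mp (mul_inv_eq_one.mp h1)
    set A := Subgroup.closure ({z1, z2} : Set Q) with hA
    haveI : IsMulCommutative A := Subgroup.isMulCommutative_closure (by
      rintro a (rfl | rfl) b (rfl | rfl)
      exacts [rfl, hcomm.eq, hcomm.symm.eq, rfl])
    have hz1A : z1 ∈ A := Subgroup.subset_closure (Or.inl rfl)
    have hz2A : z2 ∈ A := Subgroup.subset_closure (Or.inr rfl)
    have hAT : A ≤ T := (Subgroup.closure_le _).mpr (by
      rintro a (rfl | rfl)
      exacts [hz1T, hz2T])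
    have hAexp : ∀ a ∈ A, a ^ p = 1 := by
      intro a ha
      induction ha using Subgroup.closure_induction with
      | mem a ha =>
        rcases ha with rfl | rfl
        · rw [← ho1, pow_orderOf_eq_one]
        · rw [← ho2, pow_orderOf_eq_one]
      | one => exact one_pow p
      | mul a b ha' hb' ha hb =>
        have hc : Commute a b :=
          congrArg Subtype.val (IsMulCommutative.is_comm.comm (⟨a, ha'⟩ : A) ⟨b, hb'⟩)
        rw [hc.mul_pow, ha, hb, one_mul]
      | inv a _ ha => rw [inv_pow, ha, inv_one]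
    have hAp : IsPGroup p A := T.2.to_le hAT
    have hAcard : p < Nat.card A := by
      have hle : Subgroup.zpowers z1 ≤ A := Subgroup.zpowers_le.mpr hz1A
      have hlt : Subgroup.zpowers z1 < A := lt_of_le_of_ne hle fun e => by
        obtain ⟨k, hk⟩ := Subgroup.mem_zpowers_iff.mp (e ▸ hz2A : z2 ∈ Subgroup.zpowers z1)
        have : z2 = 1 := hcoe z2 hz2T (Subgroup.mem_inf.mpr ⟨hk ▸ zpow_mem hz1K k, hz2K⟩)
        rw [this, orderOf_one] at ho2
        exact (Fact.out : p.Prime).ne_one ho2.symm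
      have h1 := Nat.card_zpowers z1
      rw [ho1] at h1
      rw [← h1]
      exact lt_of_le_of_ne (Subgroup.card_le_of_le hle)
        fun e => hlt.ne (Subgroup.eq_of_le_of_card_ge hle e.ge)
    have hcop : (Nat.card A).Coprime (Nat.card ↥(K1 ⊓ K2)) := by
      obtain ⟨k, hk⟩ := IsPGroup.iff_card.mp hAp
      rw [hk]
      exact ((Fact.out : p.Prime).coprime_iff_not_dvd.mpr hJ).pow_left k
    have hJH : K1 ⊓ K2 ≤ H := Coprime.le_of_centralizer_le
      (Coprime.not_isCyclic_of_exponent hAexp (Fact.out : p.Prime).pos hAcard)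
      (fun a _ => by
        refine Subgroup.mem_normalizer_fintype fun w hw => ?_
        exact (inferInstance : (K1 ⊓ K2).Normal).conj_mem w hw a) hcop
      (fun a ha ha1 => inf_le_right.trans (hC a (hTH (hAT ha)) (orderOf_eq_prime (hAexp a ha) ha1)))
    have hK1H : K1 ≤ H := by
      intro k hk
      refine Strong.mem_of_conj_mem hN ho2 (hTH hz2T) ?_
      have hj : k * z2 * k⁻¹ * z2⁻¹ ∈ K1 ⊓ K2 := Subgroup.mem_inf.mpr ⟨by
        rw [show k * z2 * k⁻¹ * z2⁻¹ = k * (z2 * k⁻¹ * z2⁻¹) by group]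
        exact mul_mem hk (hK1.conj_mem _ (inv_mem hk) z2),
        mul_mem (hK2.conj_mem _ hz2K k) (inv_mem hz2K)⟩
      rw [show k * z2 * k⁻¹ = (k * z2 * k⁻¹ * z2⁻¹) * z2 by group]
      exact mul_mem (hJH hj) (hTH hz2T)
    refine hH (eq_top_iff.mpr fun q _ => ?_)
    obtain ⟨k, hk, y, hy, rfl⟩ := AlperinGoldschmidt.frattini T K1 q
    refine mul_mem (hK1H hk) (hN _ (T.2.to_le inf_le_left) (inf_le_left.trans hTH) (fun e => ?_) hy)
    have h' : z1 ∈ (T : Subgroup Q) ⊓ K1 := hz1
    rw [e, Subgroup.mem_bot] at h'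
    rw [h', orderOf_one] at ho1
    exact (Fact.out : p.Prime).ne_one ho1.symm
  have hex : ∃ n : ℕ, ∃ K : Subgroup Q, K.Normal ∧ p ∣ Nat.card K ∧ Nat.card K = n :=
    ⟨_, ⊤, inferInstance, by rwa [Subgroup.card_top], rfl⟩
  obtain ⟨K, hKn, hKd, hKc⟩ := Nat.find_spec hex
  refine ⟨K, hKn, hKd, fun Y hYn hYd => ?_⟩
  haveI := hKn
  haveI := hYn
  have hmin := Nat.find_min' hex ⟨K ⊓ Y, inferInstance, key K Y hKn hYn hKd hYd, rfl⟩
  rw [← hKc] at hmin
  exact inf_eq_left.mp (Subgroup.eq_of_le_of_card_ge inf_le_left hmin)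

/-- One member of the conjugation family. -/
theorem step (P : Sylow p G) {D : Subgroup G} (hgood : Good P D) {x : G}
    (hx : x ∈ Subgroup.normalizer (D : Set G))
    (IH : ∀ (E : Subgroup G) (g : G), Nat.card D < Nat.card E → E ≤ (P : Subgroup G) →
      rconj g (E : Set G) ⊆ ((P : Subgroup G) : Set G) → RR P (E : Set G) g) :
    RR P (D : Set G) x := by
  obtain ⟨hDP, htame, hCL, hdir⟩ := hgood
  by_cases hDeq : D = (P : Subgroup G)
  · subst hDeq; exact RR.of_normalizer _ hx
  set N := Subgroup.normalizer (D : Set G) with hN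
  haveI hDn : (D.subgroupOf N).Normal :=
    (Subgroup.normal_subgroupOf_iff_le_normalizer Subgroup.le_normalizer).mpr le_rfl
  let S : Sylow p N := (P.2.comap_of_injective N.subtype N.subtype_injective).toSylow
    (fun hd => htame (by rw [Subgroup.inf_relIndex_right]; exact hd))
  have hS : ∀ u : N, u ∈ (S : Subgroup N) ↔ (u : G) ∈ (P : Subgroup G) := fun u => Iff.rfl
  obtain ⟨s0, hs0, hs0D⟩ : ∃ s : N, s ∈ (S : Subgroup N) ∧ (s : G) ∉ D := by
    haveI : Group.IsNilpotent (P : Subgroup G) := P.2.isNilpotent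
    have hlt : D.subgroupOf (P : Subgroup G) < ⊤ := lt_top_iff_ne_top.mpr fun e =>
      hDeq (le_antisymm hDP (Subgroup.subgroupOf_eq_top.mp e))
    obtain ⟨s, hs, hsD⟩ := SetLike.exists_of_lt (Group.normalizerCondition_of_isNilpotent _ hlt)
    have hsN : (s : G) ∈ N := by
      refine Subgroup.mem_normalizer_fintype fun d hd => ?_
      exact (Subgroup.mem_normalizer_iff.mp hs ⟨d, hDP hd⟩).mp hd
    exact ⟨⟨s, hsN⟩, s.2, hsD⟩
  set P1 := ((S : Subgroup N)).map N.subtype with hP1
  have hP1P : P1 ≤ (P : Subgroup G) := by rintro _ ⟨u, hu, rfl⟩; exact hu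
  have hbig : ∀ (F : Subgroup N), D.subgroupOf N ≤ F → (∃ f ∈ F, (f : G) ∉ D) →
      Nat.card D < Nat.card (F.map N.subtype) := by
    rintro F hF ⟨f, hf, hfD⟩
    have hle : D ≤ F.map N.subtype := fun d hd =>
      ⟨⟨d, Subgroup.le_normalizer hd⟩, hF hd, rfl⟩
    refine lt_of_le_of_ne (Subgroup.card_le_of_le hle) fun e => hfD ?_
    rw [Subgroup.eq_of_le_of_card_ge hle e.ge]
    exact ⟨f, hf, rfl⟩
  have hDS : D.subgroupOf N ≤ (S : Subgroup N) := fun u hu => (hS u).mpr (hDP hu)
  -- elements mapping a large subgroup of `S` into `S`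
  have hmove : ∀ (h : N) (F : Subgroup N), D.subgroupOf N ≤ F → (∃ f ∈ F, (f : G) ∉ D) →
      F ≤ (S : Subgroup N) → (∀ f ∈ F, h⁻¹ * f * h ∈ (S : Subgroup N)) → RR P (D : Set G) h := by
    intro h F hF1 hF2 hF3 hF4
    refine (IH (F.map N.subtype) h (hbig F hF1 hF2) ?_ ?_).mono ?_
    · rintro _ ⟨f, hf, rfl⟩; exact hF3 hf
    · rintro _ ⟨_, ⟨f, hf, rfl⟩, rfl⟩; exact hF4 f hf
    · intro d hd; exact ⟨⟨d, Subgroup.le_normalizer hd⟩, hF1 hd, rfl⟩
  set π := QuotientGroup.mk' (D.subgroupOf N) with hπ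
  by_cases hconn : Cfsg.IsSylowChainConnected p (N ⧸ D.subgroupOf N)
  · let Sb : Sylow p (N ⧸ D.subgroupOf N) := S.mapSurjective (QuotientGroup.mk'_surjective _)
    have hSb : ∀ v : N, π v ∈ (Sb : Subgroup (N ⧸ D.subgroupOf N)) → v ∈ (S : Subgroup N) := by
      intro v hv
      obtain ⟨w, hw, hwv⟩ := hv
      have h1 := hDS (QuotientGroup.eq.mp (hwv : (w : N ⧸ D.subgroupOf N) = v))
      simpa using mul_mem hw h1
    have hfix : ∀ u : N, π u • Sb = Sb → RR P (D : Set G) u := by
      intro u hu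
      refine hmove u (S : Subgroup N) hDS ⟨s0, hs0, hs0D⟩ le_rfl fun f hf => hSb _ ?_
      have hn : π u ∈ Subgroup.normalizer ((Sb : Subgroup (N ⧸ D.subgroupOf N)) : Set (N ⧸ D.subgroupOf N)) :=
        Sylow.smul_eq_iff_mem_normalizer.mp hu
      rw [map_mul, map_mul, map_inv]
      exact (Subgroup.mem_normalizer_iff''.mp hn _).mp ⟨f, hf, rfl⟩
    obtain ⟨n, c, hc0, hcn, -, hadj⟩ := hconn Sb (π ⟨x, hx⟩ • Sb)
    suffices hall : ∀ i : Fin (n + 1), ∀ u : N, π u • Sb = c i → RR P (D : Set G) u by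
      exact hall (Fin.last n) ⟨x, hx⟩ hcn.symm
    intro i
    induction i using Fin.induction with
    | zero => intro u hu; exact hfix u (hu.trans hc0)
    | succ j ih =>
      intro u hu
      obtain ⟨q, hq⟩ := MulAction.exists_smul_eq (N ⧸ D.subgroupOf N) Sb (c j.castSucc)
      obtain ⟨v, rfl⟩ := QuotientGroup.mk'_surjective (D.subgroupOf N) q
      have hv := ih v hq
      set h : N := v⁻¹ * u with hh
      have hne := (hadj j).2
      rw [← hq, ← hu] at hne
      obtain ⟨w, hw, hw1⟩ := (Subgroup.bot_or_exists_ne_one _).resolve_left hne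
      obtain ⟨hwa, hwb⟩ := Subgroup.mem_inf.mp hw
      rw [Sylow.coe_subgroup_smul, Subgroup.mem_pointwise_smul_iff_inv_smul_mem] at hwa hwb
      obtain ⟨w', rfl⟩ := QuotientGroup.mk'_surjective (D.subgroupOf N) w
      have ha : v⁻¹ * w' * v ∈ (S : Subgroup N) := hSb _ (by
        simpa [hπ, MulAut.smul_def, MulAut.conj_inv_apply, map_mul, map_inv] using hwa)
      have hb : u⁻¹ * w' * u ∈ (S : Subgroup N) := hSb _ (by
        simpa [hπ, MulAut.smul_def, MulAut.conj_inv_apply, map_mul, map_inv] using hwb)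
      have hw'D : w' ∉ D.subgroupOf N := fun hm => hw1 ((QuotientGroup.eq_one_iff w').mpr hm)
      have hRh : RR P (D : Set G) h := by
        refine hmove h ((S : Subgroup N) ⊓ ((S : Subgroup N).map (MulAut.conj h).toMonoidHom))
          (le_inf hDS ?_) ⟨v⁻¹ * w' * v, Subgroup.mem_inf.mpr ⟨ha, ?_⟩, ?_⟩ inf_le_left ?_
        · intro d hd
          exact mem_conj_map_iff.mpr (hDS (by simpa using hDn.conj_mem d hd h⁻¹))
        · rw [mem_conj_map_iff, hh]
          simpa [mul_assoc] using hb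
        · intro hm
          refine hw'D ?_
          have := hDn.conj_mem (v⁻¹ * w' * v) hm v
          simpa [mul_assoc] using this
        · intro f hf
          exact mem_conj_map_iff.mp (Subgroup.mem_inf.mp hf).2
      have e : (u : G) = (v : G) * (h : G) := by rw [hh]; push_cast; group
      rw [e]
      refine hv.trans ?_
      rwa [rconj_normalizer v.2]
  · have hdiv : p ∣ Nat.card (N ⧸ D.subgroupOf N) := by
      have hne : π s0 ≠ 1 := fun e => hs0D ((QuotientGroup.eq_one_iff s0).mp e)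
      obtain ⟨k, hk⟩ := IsPGroup.iff_orderOf.mp (S.2.map π) ⟨π s0, ⟨s0, hs0, rfl⟩⟩
      rw [← Subgroup.orderOf_coe] at hk
      rcases Nat.eq_zero_or_pos k with rfl | hk0
      · exact absurd (orderOf_eq_one_iff.mp (by simpa using hk)) hne
      · exact ((dvd_pow_self p hk0.ne').trans hk.symm.dvd).trans (orderOf_dvd_natCard _)
    obtain ⟨K, hKn, hKd, hKmin⟩ := exists_least_normal hdiv hconn
    set XN := K.comap π with hXN
    haveI : XN.Normal := hKn.comap π
    set X := XN.map N.subtype with hX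
    have hDX : D ≤ X := fun d hd => ⟨⟨d, Subgroup.le_normalizer hd⟩, by
      show π _ ∈ K
      rw [show π ⟨d, Subgroup.le_normalizer hd⟩ = 1 from (QuotientGroup.eq_one_iff _).mpr hd]
      exact one_mem K, rfl⟩
    have hrel : ∀ YN : Subgroup N, D.subgroupOf N ≤ YN →
        D.relIndex (YN.map N.subtype) = Nat.card (YN.map π) := by
      intro YN hY
      rw [← Subgroup.relIndex_ker (K := YN) π, QuotientGroup.ker_mk']
      have := Subgroup.relIndex_map_map_of_injective (D.subgroupOf N) YN N.subtype_injective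
      rwa [Subgroup.map_subgroupOf_eq_of_le Subgroup.le_normalizer] at this
    have hDXN : D.subgroupOf N ≤ XN := fun d hd => by
      show π d ∈ K
      rw [show π d = 1 from (QuotientGroup.eq_one_iff _).mpr hd]
      exact one_mem K
    have hXmap : XN.map π = K :=
      Subgroup.map_comap_eq_self_of_surjective (QuotientGroup.mk'_surjective _) K
    have hspec : ∀ o ∈ (Cfsg.pResidual p ↥X).map X.subtype, Spec P D X o := by
      intro o ho
      obtain ⟨hOX, hDLe, hcc, hinf, hsup⟩ := hdir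
      have hCP : (P : Subgroup G) ⊓ Subgroup.centralizer (D : Set G) ≤ D := by
        intro z hz
        obtain ⟨hzP, hzC⟩ := Subgroup.mem_inf.mp hz
        obtain ⟨u, hu, huz⟩ := hCL hzC
        have hzN : z ∈ N := Subgroup.centralizer_le_normalizer _ hzC
        have hu2 : u ∈ (S : Subgroup N) := (hS u).mpr (show (u : G) ∈ (P : Subgroup G) by
          rw [show (u : G) = z from huz]; exact hzP)
        haveI := Transfer.pPrimeCore_normal p N
        have hLsub : Cfsg.pPrimePCore p N ≤ Cfsg.pPrimeCore p N ⊔ D.subgroupOf N := by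
          intro l hl
          have hl2 : (l : G) ∈ (Cfsg.pPrimePCore p N).map N.subtype := ⟨l, hl, rfl⟩
          rw [← hsup] at hl2
          have hle2 : (Cfsg.pPrimeCore p N).map N.subtype ⊔ D ≤
              (Cfsg.pPrimeCore p N ⊔ D.subgroupOf N).map N.subtype := by
            rw [Subgroup.map_sup, Subgroup.map_subgroupOf_eq_of_le Subgroup.le_normalizer]
          obtain ⟨l', hl', e⟩ := hle2 hl2
          exact Subtype.ext e ▸ hl'
        have hu3 := hLsub hu
        rw [← SetLike.mem_coe, Subgroup.normal_mul] at hu3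
        obtain ⟨a, ha, d, hd, had⟩ := hu3
        change a * d = u at had
        have ha2 : a ∈ (S : Subgroup N) := by
          rw [show a = u * d⁻¹ by rw [← had]; group]
          exact mul_mem hu2 (inv_mem (hDS hd))
        have ha1 : a = 1 := PSolvable.eq_one_of_mem_of_mem S.2 (Transfer.pPrimeCore_coprime p) ha2 ha
        rw [← show (u : G) = z from huz, ← had, ha1, one_mul]
        exact hd
      refine ⟨hDP, htame, hCP, ?_, hconn, ⟨hDX, Subgroup.map_subtype_le _, ?_, ?_, ?_⟩, ho⟩
      · refine le_antisymm ?_ (sup_le (fun d hd => hDLe hd) hCL)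
        rw [← hsup]
        exact sup_le (fun z hz => Subgroup.mem_sup_right (Subgroup.mem_centralizer_iff.mpr
          fun d hd => (hcc z hz d hd).symm)) le_sup_left
      · rw [hX, Subgroup.subgroupOf, Subgroup.comap_map_eq_self_of_injective N.subtype_injective]
        infer_instance
      · rw [hX, hrel XN hDXN, hXmap]; exact hKd
      · intro Y hY1 hY2 hY3 hY4
        set YN := Y.subgroupOf N with hYN
        have hYmap : YN.map N.subtype = Y := Subgroup.map_subgroupOf_eq_of_le hY2
        have hDY : D.subgroupOf N ≤ YN := fun d hd => hY1 hd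
        rw [← hYmap, hrel YN hDY] at hY4
        have hle := hKmin (YN.map π) (hY3.map π (QuotientGroup.mk'_surjective _)) hY4
        rw [← hYmap, hX]
        refine Subgroup.map_mono ((Subgroup.comap_mono hle).trans ?_)
        rw [Subgroup.comap_map_eq, QuotientGroup.ker_mk']
        exact sup_le le_rfl hDY
    have hR : ∀ u : N, u ∈ (S : Subgroup N) → RR P (D : Set G) u := fun u hu =>
      hmove u (S : Subgroup N) hDS ⟨s0, hs0, hs0D⟩ le_rfl
        fun f hf => mul_mem (mul_mem (inv_mem hu) hf) hu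
    obtain ⟨k, hk, n, hn, e⟩ := AlperinGoldschmidt.frattini S XN ⟨x, hx⟩
    let R : Sylow p XN := (S.2.comap_of_injective XN.subtype XN.subtype_injective).toSylow
      (fun hd => S.not_dvd_index (hd.trans (Transfer.relIndex_dvd_index_of_normal _ XN)))
    obtain ⟨f0, hf0, hf0D⟩ : ∃ f ∈ (S : Subgroup N) ⊓ XN, (f : G) ∉ D := by
      by_contra hall
      have hall' : (S : Subgroup N) ⊓ XN ≤ D.subgroupOf N := fun f hf =>
        by_contra fun h => hall ⟨f, hf, h⟩
      have h1 : (R : Subgroup XN) ≤ (D.subgroupOf N).subgroupOf XN := fun f hf =>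
        hall' (Subgroup.mem_inf.mpr ⟨hf, f.2⟩)
      refine R.not_dvd_index ?_
      refine dvd_trans ?_ (Subgroup.index_dvd_of_le h1)
      show p ∣ (D.subgroupOf N).relIndex XN
      rw [← Subgroup.relIndex_map_map_of_injective (D.subgroupOf N) XN N.subtype_injective,
        Subgroup.map_subgroupOf_eq_of_le Subgroup.le_normalizer, hrel XN hDXN, hXmap]
      exact hKd
    have hn' : RR P (D : Set G) n := by
      refine hmove n ((S : Subgroup N) ⊓ XN) (le_inf hDS hDXN) ⟨f0, hf0, hf0D⟩ inf_le_left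
        fun f hf => ?_
      exact (Subgroup.mem_inf.mp ((Subgroup.mem_normalizer_iff''.mp hn f).mp hf)).1
    have hkX : (⟨k, hk⟩ : XN) ∈ (((Cfsg.pResidual p XN) ⊔ (R : Subgroup XN) : Subgroup XN) : Set XN) := by
      rw [sup_comm, sylow_sup_pResidual]; trivial
    haveI := Transfer.pResidual_normal p XN
    rw [Subgroup.normal_mul] at hkX
    obtain ⟨o, ho, s, hs, hos⟩ := hkX
    have hoX : ((o : N) : G) ∈ (Cfsg.pResidual p ↥X).map X.subtype :=
      ⟨XN.equivMapOfInjective N.subtype N.subtype_injective o,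
        Transfer.map_pResidual_le (XN.equivMapOfInjective N.subtype N.subtype_injective).toMonoidHom
          (Subgroup.mem_map_of_mem _ ho), rfl⟩
    have ho' : RR P (D : Set G) ((o : N) : G) := by
      refine ⟨1, one_mem _, ((o : N) : G), ?_, 1, one_mem _, by group⟩
      have := SChain.cons D X (hspec _ hoX) subset_rfl (SChain.nil (rconj ((o : N) : G) (D : Set G)))
      rwa [mul_one] at this
    have hs' : RR P (D : Set G) ((s : N) : G) := hR _ hs
    have hk' : (k : G) = ((o : N) : G) * ((s : N) : G) := by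
      have := congrArg (fun z : XN => ((z : N) : G)) hos
      simpa using this.symm
    have hkR : RR P (D : Set G) k := by
      rw [hk']
      refine ho'.trans ?_
      rwa [rconj_normalizer (o : N).2]
    have hx' : x = (k : G) * (n : G) := congrArg Subtype.val e
    rw [hx']
    refine hkR.trans ?_
    rwa [rconj_normalizer k.2]

/-- Every conjugation inside `P`. -/
theorem conjugation (P : Sylow p G) (H : Subgroup G) (g : G) (hH : H ≤ (P : Subgroup G))
    (hg : rconj g (H : Set G) ⊆ ((P : Subgroup G) : Set G)) : RR P (H : Set G) g := by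
  obtain ⟨n, hn⟩ : ∃ n, Nat.card P - Nat.card H = n := ⟨_, rfl⟩
  induction n using Nat.strong_induction_on generalizing H g with
  | _ n IH =>
    obtain ⟨c, hc, g', hch, rfl⟩ := AlperinGoldschmidt.conjugation P H g hH hg
    have main : ∀ (A : Set G) (h : G), Chain (fun D _ => Good P D) A h →
        Nat.card H ≤ Nat.card A → RR P A h := by
      intro A h hch
      induction hch with
      | nil A => intro _; exact RR.of_centralizer (one_mem _)
      | @cons A x k D hD hx hA _ ih =>
        intro hcard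
        have hDcard : Nat.card A ≤ Nat.card D := Nat.card_mono (Set.toFinite _) hA
        refine RR.trans ((step P hD hx ?_).mono hA) (ih (by rwa [card_rconj]))
        intro E y hlt hE hy
        refine IH _ ?_ E y hE hy rfl
        have := Subgroup.card_le_of_le hE
        have e : Nat.card ↥(P : Subgroup G) = Nat.card P := rfl
        omega
    have h1 : RR P (rconj c (H : Set G)) g' := by
      refine main _ _ ?_ (card_rconj _ _).ge
      rwa [← mul_one c, rconj_centralizer_mul hc, rconj_one]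
    exact (RR.of_centralizer hc).trans h1

theorem main (P : Sylow p G) (A : Set G) (hA : A ⊆ (P : Set G)) (g : G)
    (hAg : (fun a => g⁻¹ * a * g) '' A ⊆ (P : Set G)) :
    ∃ (n : ℕ) (H X : Fin n → Subgroup G) (x : Fin n → G) (c y : G),
      c ∈ Subgroup.centralizer A ∧ y ∈ Subgroup.normalizer ((P : Subgroup G) : Set G) ∧
      g = c * (List.ofFn x).prod * y ∧
      ∀ i : Fin n, Spec P (H i) (X i) (x i) ∧
        rconj (((List.ofFn x).take i.val).prod) A ⊆ (H i : Set G) := by
  have hcl : Subgroup.closure A ≤ (P : Subgroup G) := (Subgroup.closure_le _).mpr hA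
  have hg : rconj g (Subgroup.closure A : Set G) ⊆ ((P : Subgroup G) : Set G) := by
    rw [rconj_subset_iff, SetLike.coe_subset_coe, Subgroup.closure_le]
    exact rconj_subset_iff.mp hAg
  obtain ⟨c, hc, h, hh, y, hy, e⟩ := (conjugation P _ g hcl hg).mono Subgroup.subset_closure
  obtain ⟨n, H, X, x, rfl, hi⟩ := hh.exists_fin
  exact ⟨n, H, X, x, c, y, hc, hy, e, hi⟩

end CfsgLib.StrongAG
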