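import Cfsg.Agent.Lib.Transfer.Basic
import Cfsg.Agent.Lib.Fitting.Basic
import Cfsg.Agent.Lib.Coprime.Action
import Cfsg.Prelude.Def_Local

/-!
`G = O_{p'}(G) N_G(P ∩ O_{p',p}(G))`.
-/

set_option autoImplicit false
set_option linter.style.haveILetI false

namespace CfsgLib.Transfer

variable {G : Type*} [Group G] [Finite G] {p : ℕ} [Fact p.Prime]

theorem exists_normalizer_mul (P : Sylow p G) (g : G) :
    ∃ d ∈ Cfsg.pPrimeCore p G,
      ∃ n ∈ Subgroup.normalizer (((P : Subgroup G) ⊓ Cfsg.pPrimePCore p G : Subgroup G) : Set G),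
        g = d * n := by
  set K := Cfsg.pPrimePCore p G with hK
  set D := Cfsg.pPrimeCore p G with hD
  set R := (P : Subgroup G) ⊓ K with hR
  haveI hDn := pPrimeCore_normal p G
  haveI := Fitting.pCore_normal (G := G ⧸ Cfsg.pPrimeCore p G) p
  haveI hKn : K.Normal := Subgroup.Normal.comap inferInstance _
  have hidx : ¬ p ∣ ((P : Subgroup G).subgroupOf K).index := fun h =>
    P.not_dvd_index (h.trans (Fitting.relIndex_dvd_index_of_normal_right _ K))
  set PK := (P.2.comap_of_injective K.subtype K.subtype_injective).toSylow hidx with hPK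
  have hmapR : (PK : Subgroup K).map K.subtype = R := Subgroup.subgroupOf_map_subtype _ _
  have hq : IsPGroup p (K ⧸ D.subgroupOf K) := by
    intro y
    induction y using QuotientGroup.induction_on with
    | H k =>
      obtain ⟨a, m, -, -, hc, -⟩ := exists_pow_coprime_part (p := p) (k : G)
      refine ⟨a, ?_⟩
      rw [← QuotientGroup.mk_pow, QuotientGroup.eq_one_iff, Subgroup.mem_subgroupOf,
        Subgroup.coe_pow, ← QuotientGroup.eq_one_iff (N := D)]
      have hmem : (QuotientGroup.mk ((k : G) ^ p ^ a) : G ⧸ D) ∈ Cfsg.pCore p (G ⧸ D) :=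
        Subgroup.mem_comap.mp (pow_mem k.2 (p ^ a))
      exact congrArg Subtype.val (orderOf_eq_one_of_coprime_of_isPGroup
        (Fitting.pCore_isPGroup p) (y := (⟨_, hmem⟩ : Cfsg.pCore p (G ⧸ D))) (by
          rw [← Subgroup.orderOf_coe]
          exact Nat.Coprime.coprime_dvd_left (orderOf_map_dvd (QuotientGroup.mk' D) _) hc))
  have hKle : K ≤ R ⊔ D := by
    intro k hk
    have h1 : (⟨k, hk⟩ : K) ∈ (PK : Subgroup K) ⊔ D.subgroupOf K := by
      rw [sylow_sup_eq_top_of_isPGroup_quotient PK (D.subgroupOf K) hq]; trivial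
    have h2 := Subgroup.mem_map_of_mem K.subtype h1
    rw [Subgroup.map_sup, hmapR, Subgroup.subgroupOf_map_subtype] at h2
    exact (sup_le_sup le_rfl inf_le_left : R ⊔ D ⊓ K ≤ R ⊔ D) h2
  have htop : D ⊔ Subgroup.normalizer (R : Set G) = ⊤ := by
    refine top_le_iff.mp ?_
    rw [← Sylow.normalizer_sup_eq_top PK, hmapR]
    refine sup_le le_sup_right (hKle.trans (sup_le ?_ le_sup_left))
    exact Subgroup.le_normalizer.trans le_sup_right
  obtain ⟨d, hd, n, hn, e⟩ := Subgroup.mem_sup_of_normal_left.mp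
    (htop ▸ Subgroup.mem_top g : g ∈ D ⊔ Subgroup.normalizer (R : Set G))
  exact ⟨d, hd, n, hn, e.symm⟩

theorem sylow_le_normalizer_inf (P : Sylow p G) :
    (P : Subgroup G) ≤
      Subgroup.normalizer (((P : Subgroup G) ⊓ Cfsg.pPrimePCore p G : Subgroup G) : Set G) := by
  haveI := pPrimeCore_normal p G
  haveI := Fitting.pCore_normal (G := G ⧸ Cfsg.pPrimeCore p G) p
  haveI : (Cfsg.pPrimePCore p G).Normal := Subgroup.Normal.comap inferInstance _
  exact Coprime.le_normalizer_inf_of_le Subgroup.le_normalizer Subgroup.le_normalizer_of_normal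

end CfsgLib.Transfer
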